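import Groth.Agent.ColSS.Approx

/-! # Column-wise quasi-isomorphisms of double complexes -/

set_option autoImplicit false
set_option linter.style.haveILetI false

noncomputable section

universe u

open CategoryTheory CategoryTheory.Limits

namespace Groth.Agent.FibDescLib

open ColSS

/-- elementwise form of a quasi-isomorphism -/
def QI {K L : CochainComplex AddCommGrpCat.{u} ℤ} (f : K ⟶ L) : Prop :=
  ∀ (q : ℤ) (k : K.X q) (l : L.X (q - 1)), K.d q (q + 1) k = 0 → f.f q k = L.d (q - 1) q l →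
    ∃ (w : K.X (q - 1)) (v : L.X (q - 1 - 1)), K.d (q - 1) q w = k ∧ f.f (q - 1) w + L.d (q - 1 - 1) (q - 1) v = l

/-- the total complex is exact -/
def TExact (C : Cols.{u}) : Prop :=
  ∀ (n : ℤ) (x : C.Pre), x ∈ C.sub ⊤ n → C.D x = 0 → ∃ τ ∈ C.sub ⊤ (n - 1), C.D τ = x

variable {C C' : Cols.{u}} (f : ∀ p, C.K p ⟶ C'.K p) (hf : ∀ p, f p ≫ C'.dh p = C.dh p ≫ f (p + 1))

lemma eq_zero_of_off {n : ℤ} {s : C.Pre} (hs : s ∈ C.sub ⊤ n) {p : ℕ} {q : ℤ} (h : (p : ℤ) + q ≠ n) : s p q = 0 :=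
  hs p q (Or.inl h)

lemma low_succ {k : ℕ} {n : ℤ} {s : C.Pre} (hs : s ∈ Low C k) (hn : s ∈ C.sub ⊤ n) (q : ℤ) (hq : (k : ℤ) + q = n)
    (h : s k q = 0) : s ∈ Low C (k + 1) := fun p q' hp => by
  rcases Nat.lt_succ_iff_lt_or_eq.1 hp with hp | rfl
  · exact hs p q' hp
  · by_cases hq' : q' = q
    · rw [hq', h]
    · exact eq_zero_of_off hn (by omega)

include hf in
lemma cone_exact_aux : ∀ (m k : ℕ) (n : ℤ), n < (k + m : ℕ) → (∀ p, k ≤ p → QI (f p)) →
    ∀ (x : C.Pre) (y : C'.Pre), x ∈ C.sub ⊤ n → x ∈ Low C k → y ∈ C'.sub ⊤ (n - 1) → y ∈ Low C' k →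
      C.D x = 0 → mapPre f x = C'.D y →
    ∃ (w : C.Pre) (v : C'.Pre), w ∈ C.sub ⊤ (n - 1) ∧ w ∈ Low C k ∧ v ∈ C'.sub ⊤ (n - 1 - 1) ∧ v ∈ Low C' k ∧
      C.D w = x ∧ mapPre f w + C'.D v = y := by
  intro m
  induction m with
  | zero =>
    intro k n hn _ x y hx hxl hy hyl _ _
    refine ⟨0, 0, zero_mem _, zero_mem _, zero_mem _, zero_mem _, ?_, ?_⟩
    · rw [map_zero]
      funext p q
      by_cases hp : p < k
      · exact (hxl p q hp).symm
      · by_cases hq : q < 0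
        · exact (C.eq_zero_of_neg x p hq).symm
        · exact (eq_zero_of_off hx (by omega)).symm
    · rw [map_zero, map_zero, zero_add]
      funext p q
      by_cases hp : p < k
      · exact (hyl p q hp).symm
      · by_cases hq : q < 0
        · exact (C'.eq_zero_of_neg y p hq).symm
        · exact (eq_zero_of_off hy (by omega)).symm
  | succ m ih =>
    intro k n hn hqi x y hx hxl hy hyl hDx hxy
    obtain ⟨q, hq⟩ : ∃ q : ℤ, q = n - k := ⟨_, rfl⟩
    let σ : ℤˣ := (-(k : ℤ)).negOnePow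
    have hσ : (σ : ℤ) * σ = 1 := by rw [← Units.val_mul, Int.units_mul_self, Units.val_one]
    have h1 : (C.K k).d q (q + 1) (x k q) = 0 := by
      have := (D_at_low hxl q (q + 1) rfl).symm.trans (congrFun (congrFun hDx k) (q + 1))
      rw [Units.smul_def] at this
      have := congrArg ((σ : ℤ) • ·) this
      simpa [← mul_smul, hσ] using this
    have h2 : (f k).f q (x k q) = (C'.K k).d (q - 1) q ((σ : ℤ) • y k (q - 1)) := by
      rw [map_zsmul, ← mapPre_apply, hxy, D_at_low hyl (q - 1) q (by omega), Units.smul_def]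
    obtain ⟨w, v, hw, hv⟩ := hqi k le_rfl q (x k q) ((σ : ℤ) • y k (q - 1)) h1 h2
    let T := C.single k (q - 1) ((σ : ℤ) • w)
    let U := C'.single k (q - 1 - 1) v
    have hT : T ∈ C.sub ⊤ (n - 1) := C.single_mem (by omega) _
    have hTl : T ∈ Low C k := single_low le_rfl _ _
    have hU : U ∈ C'.sub ⊤ (n - 1 - 1) := C'.single_mem (by omega) _
    have hUl : U ∈ Low C' k := single_low le_rfl _ _
    have hTs : T k (q - 1) = (σ : ℤ) • w := C.single_same _ _ _
    have hUs : U k (q - 1 - 1) = v := C'.single_same _ _ _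
    have hx' : x - C.D T ∈ C.sub ⊤ n := sub_mem hx (by simpa using C.D_mem hT)
    have hy' : y - mapPre f T - C'.D U ∈ C'.sub ⊤ (n - 1) :=
      sub_mem (sub_mem hy (mapPre_mem f hT)) (by simpa using C'.D_mem hU)
    have hxl' : x - C.D T ∈ Low C (k + 1) := by
      refine low_succ (sub_mem hxl (D_low hTl)) hx' q (by omega) ?_
      rw [Pi.sub_apply, Pi.sub_apply, D_at_low hTl (q - 1) q (by omega), hTs, map_zsmul, hw,
        Units.smul_def, ← mul_smul, hσ, one_smul, sub_self]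
    have hyl' : y - mapPre f T - C'.D U ∈ Low C' (k + 1) := by
      refine low_succ (sub_mem (sub_mem hyl (mapPre_low f hTl)) (D_low hUl)) hy' (q - 1) (by omega) ?_
      rw [Pi.sub_apply, Pi.sub_apply, Pi.sub_apply, Pi.sub_apply, mapPre_apply, hTs,
        D_at_low hUl (q - 1 - 1) (q - 1) (by omega), hUs, map_zsmul, Units.smul_def, sub_sub, ← smul_add, hv,
        ← mul_smul, hσ, one_smul, sub_self]
    obtain ⟨w', v', hw', hwl', hv', hvl', e1, e2⟩ := ih (k + 1) n (by omega) (fun p hp => hqi p (by omega))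
      (x - C.D T) (y - mapPre f T - C'.D U) hx' hxl' hy' hyl' (by rw [map_sub, hDx, C.D_D, sub_zero])
      (by rw [map_sub, map_sub, map_sub, hxy, mapPre_D f hf, C'.D_D, sub_zero])
    refine ⟨w' + T, v' + U, add_mem hw' hT, add_mem (fun p q h => hwl' p q (by omega)) hTl, add_mem hv' hU,
      add_mem (fun p q h => hvl' p q (by omega)) hUl, ?_, ?_⟩
    · rw [map_add, e1, sub_add_cancel]
    · rw [map_add, map_add, add_add_add_comm, e2, sub_sub, sub_add_cancel]

include hf in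
lemma cone_exact {k : ℕ} {n : ℤ} (h : ∀ p, k ≤ p → QI (f p)) (x : C.Pre) (y : C'.Pre) (hx : x ∈ C.sub ⊤ n)
    (hxl : x ∈ Low C k) (hy : y ∈ C'.sub ⊤ (n - 1)) (hyl : y ∈ Low C' k) (hDx : C.D x = 0)
    (hxy : mapPre f x = C'.D y) :
    ∃ (w : C.Pre) (v : C'.Pre), w ∈ C.sub ⊤ (n - 1) ∧ w ∈ Low C k ∧ v ∈ C'.sub ⊤ (n - 1 - 1) ∧ v ∈ Low C' k ∧
      C.D w = x ∧ mapPre f w + C'.D v = y :=
  cone_exact_aux f hf (n.toNat + 1) k n (by push_cast; omega) h x y hx hxl hy hyl hDx hxy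

lemma mem_low_zero (s : C.Pre) : s ∈ Low C 0 := fun _ _ h => absurd h (Nat.not_lt_zero _)

include hf in
/-- Exactness is transferred backwards along column-wise quasi-isomorphisms. -/
theorem tExact_of_qi (h : ∀ p, QI (f p)) (hC' : TExact C') : TExact C := fun n x hx hDx => by
  obtain ⟨y, hy, hDy⟩ := hC' n (mapPre f x) (mapPre_mem f hx) (by rw [← mapPre_D f hf, hDx, map_zero])
  obtain ⟨w, -, hw, -, -, -, e, -⟩ := cone_exact f hf (fun p _ => h p) x y hx (mem_low_zero x) hy (mem_low_zero y) hDx hDy.symm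
  exact ⟨w, hw, e⟩

include hf in
/-- The first column of a map of exact double complexes. -/
theorem qi_zero (h : ∀ p, QI (f (p + 1))) (hC : TExact C) (hC' : TExact C') : QI (f 0) := fun q k l hk hkl => by
  let x := C.single 0 q k
  let y := C'.single 0 (q - 1) l
  have hx : x ∈ C.sub ⊤ q := C.single_mem (by simp) _
  have hy : y ∈ C'.sub ⊤ (q - 1) := C'.single_mem (by simp) _
  have hxs : x 0 q = k := C.single_same _ _ _
  have hys : y 0 (q - 1) = l := C'.single_same _ _ _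
  let z := mapPre f x - C'.D y
  have hz : z ∈ C'.sub ⊤ q := sub_mem (mapPre_mem f hx) (by simpa using C'.D_mem hy)
  have hzl : z ∈ Low C' 1 := low_succ (mem_low_zero z) hz q (by simp) (by
    show mapPre f x 0 q - C'.D y 0 q = 0
    rw [mapPre_apply, hxs, Cols.D_zero, hys, hkl, sub_self])
  have hDxm : C.D x ∈ C.sub ⊤ (q + 1) := C.D_mem hx
  have hDxl : C.D x ∈ Low C 1 := low_succ (mem_low_zero _) hDxm (q + 1) (by simp) (by
    rw [D_at_low (mem_low_zero x) q (q + 1) rfl, hxs, hk, smul_zero])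
  obtain ⟨w, v, hw, hwl, hv, hvl, e1, e2⟩ := cone_exact f hf (k := 1) (n := q + 1) (fun p hp => by
      obtain ⟨p, rfl⟩ : ∃ p', p = p' + 1 := ⟨p - 1, by omega⟩
      exact h p) (C.D x) z hDxm hDxl (by rwa [add_sub_cancel_right]) hzl (C.D_D x)
    (by rw [map_sub, C'.D_D, sub_zero, mapPre_D f hf])
  rw [add_sub_cancel_right] at hw
  rw [add_sub_cancel_right] at hv
  obtain ⟨a, ha, hDa⟩ := hC q (x - w) (sub_mem hx hw) (by rw [map_sub, e1, sub_self])
  have hc : C'.D (mapPre f a - y - v) = 0 := by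
    rw [map_sub, map_sub, ← mapPre_D f hf, hDa, map_sub, eq_sub_of_add_eq e2]
    show mapPre f x - (mapPre f x - C'.D y - C'.D v) - C'.D y - C'.D v = 0
    abel
  obtain ⟨b, hb, hDb⟩ := hC' (q - 1) (mapPre f a - y - v) (sub_mem (sub_mem (mapPre_mem f ha) hy) hv) hc
  refine ⟨a 0 (q - 1), -b 0 (q - 1 - 1), ?_, ?_⟩
  · have := congrFun (congrFun hDa 0) q
    rw [Cols.D_zero, Pi.sub_apply, Pi.sub_apply, hxs, hwl 0 q (by omega), sub_zero] at this
    exact this
  · have := congrFun (congrFun hDb 0) (q - 1)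
    rw [Cols.D_zero, Pi.sub_apply, Pi.sub_apply, Pi.sub_apply, Pi.sub_apply, mapPre_apply, hys,
      hvl 0 (q - 1) (by omega), sub_zero] at this
    rw [map_neg, this]
    abel

end Groth.Agent.FibDescLib
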