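import Groth.Agent.GrothSS.Derived
import Groth.Agent.DerCat.AdjHomotopy
import Mathlib.Algebra.Homology.DerivedCategory.FullyFaithful
import Mathlib.Algebra.Homology.DerivedCategory.ExactFunctor
import Mathlib.Algebra.Homology.DerivedCategory.DerivabilityStructureInjectives

/-! # Full faithfulness on bounded below objects of an exact left adjoint -/

set_option autoImplicit false
set_option backward.isDefEq.respectTransparency false
set_option backward.defeqAttrib.useBackward true
set_option linter.style.haveILetI false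

universe w w' v v' u u'

open CategoryTheory CategoryTheory.Limits

namespace Groth.Agent.FibDescLib

open GrothSS

variable {B : Type u} [Category.{v} B] [Abelian B] [HasDerivedCategory.{w} B] [EnoughInjectives B]
  {C : Type u'} [Category.{v'} C] [Abelian C] [HasDerivedCategory.{w'} C] [EnoughInjectives C]
  [HasInjectiveResolutions C] [HasInjectiveResolutions B]
  {L : B ⥤ C} {R : C ⥤ B} (adj : L ⊣ R) [L.Additive] [R.Additive]

/-- the unit is an isomorphism and the images are acyclic -/
def Acyc [PreservesFiniteLimits R] : Prop := ∀ M : B, IsIso (adj.unit.app M) ∧ IsAcyclicObj R (L.obj M)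

variable [PreservesFiniteLimits L] [PreservesFiniteColimits L]

include adj in
lemma injective_R (I : C) [Injective I] : Injective (R.obj I) :=
  Injective.injective_of_adjoint adj I

/-- the comparison map -/
noncomputable abbrev comparison {J : CochainComplex B ℤ} {I : CochainComplex C ℤ}
    (f : (L.mapHomologicalComplex (ComplexShape.up ℤ)).obj J ⟶ I) :
    J ⟶ (R.mapHomologicalComplex (ComplexShape.up ℤ)).obj I :=
  DerCat.unitCx adj _ J ≫ (R.mapHomologicalComplex (ComplexShape.up ℤ)).map f

omit [HasDerivedCategory.{w} B] [HasDerivedCategory.{w'} C] [PreservesFiniteLimits L] [PreservesFiniteColimits L] in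
lemma homEquiv_comp {Kh : HomotopyCategory B (ComplexShape.up ℤ)} {J : CochainComplex B ℤ} {I : CochainComplex C ℤ}
    (f : (L.mapHomologicalComplex (ComplexShape.up ℤ)).obj J ⟶ I)
    (φ : Kh ⟶ (HomotopyCategory.quotient _ _).obj J) :
    (DerCat.adjHomotopy adj (ComplexShape.up ℤ)).homEquiv _ _
        ((L.mapHomotopyCategory _).map φ ≫ (HomotopyCategory.quotient _ _).map f) =
      φ ≫ (HomotopyCategory.quotient _ _).map (comparison adj f) := by
  rw [Adjunction.homEquiv_naturality_left, Adjunction.homEquiv_unit]
  refine congrArg (φ ≫ ·) ?_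
  exact ((HomotopyCategory.quotient _ _).map_comp _ _).symm

lemma isIso_quotient_map {K K' : CochainComplex B ℤ} [K.IsKInjective] [K'.IsKInjective] (u : K ⟶ K') [QuasiIso u] :
    IsIso ((HomotopyCategory.quotient B (ComplexShape.up ℤ)).map u) := by
  let uh := (HomotopyCategory.quotient B (ComplexShape.up ℤ)).map u
  haveI hiso : IsIso (DerivedCategory.Qh.map uh) :=
    Localization.inverts DerivedCategory.Qh (HomotopyCategory.quasiIso B (ComplexShape.up ℤ)) uh
      ((HomotopyCategory.quotient_map_mem_quasiIso_iff u).2 (inferInstance : QuasiIso u))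
  obtain ⟨v, hv⟩ := (CochainComplex.IsKInjective.Qh_map_bijective ((HomotopyCategory.quotient _ _).obj K') K).2
    (inv (DerivedCategory.Qh.map uh))
  refine ⟨v, (CochainComplex.IsKInjective.Qh_map_bijective _ K).1 ?_,
    (CochainComplex.IsKInjective.Qh_map_bijective _ K').1 ?_⟩
  · rw [Functor.map_comp, hv, IsIso.hom_inv_id, CategoryTheory.Functor.map_id]
  · rw [Functor.map_comp, hv, IsIso.inv_hom_id, CategoryTheory.Functor.map_id]

/-- the derived map and postcomposition with the comparison are equally bijective -/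
theorem bijective_iff (Kh : HomotopyCategory B (ComplexShape.up ℤ)) {J : CochainComplex B ℤ} [J.IsKInjective]
    {I : CochainComplex C ℤ} [I.IsKInjective]
    (f : (L.mapHomologicalComplex (ComplexShape.up ℤ)).obj J ⟶ I) [QuasiIso f] :
    Function.Bijective (fun g : DerivedCategory.Qh.obj Kh ⟶ DerivedCategory.Qh.obj ((HomotopyCategory.quotient _ _).obj J) =>
        L.mapDerivedCategory.map g) ↔
      Function.Bijective (fun φ : Kh ⟶ (HomotopyCategory.quotient _ _).obj J =>
        φ ≫ (HomotopyCategory.quotient _ _).map (comparison adj f)) := by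
  let fh : (L.mapHomotopyCategory (ComplexShape.up ℤ)).obj ((HomotopyCategory.quotient _ _).obj J) ⟶
      (HomotopyCategory.quotient _ _).obj I := (HomotopyCategory.quotient _ _).map f
  haveI : IsIso (DerivedCategory.Qh.map fh) :=
    Localization.inverts DerivedCategory.Qh (HomotopyCategory.quasiIso C (ComplexShape.up ℤ)) _
      ((HomotopyCategory.quotient_map_mem_quasiIso_iff f).2 (inferInstance : QuasiIso f))
  have hB := CochainComplex.IsKInjective.Qh_map_bijective Kh J
  have hC := CochainComplex.IsKInjective.Qh_map_bijective ((L.mapHomotopyCategory (ComplexShape.up ℤ)).obj Kh) I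
  let α := L.mapDerivedCategoryFactorsh
  let T : (L.mapDerivedCategory.obj (DerivedCategory.Qh.obj Kh) ⟶
      L.mapDerivedCategory.obj (DerivedCategory.Qh.obj ((HomotopyCategory.quotient _ _).obj J))) ≃
      (DerivedCategory.Qh.obj ((L.mapHomotopyCategory (ComplexShape.up ℤ)).obj Kh) ⟶
        DerivedCategory.Qh.obj ((HomotopyCategory.quotient _ _).obj I)) :=
    Iso.homCongr (α.app Kh) (α.app _ ≪≫ asIso (DerivedCategory.Qh.map fh))
  have key : ∀ φ : Kh ⟶ (HomotopyCategory.quotient _ _).obj J,
      T (L.mapDerivedCategory.map (DerivedCategory.Qh.map φ)) =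
        DerivedCategory.Qh.map ((L.mapHomotopyCategory _).map φ ≫ fh) := fun φ => by
    have h := α.hom.naturality φ
    dsimp at h
    simp only [T, Iso.homCongr_apply, Iso.trans_hom, asIso_hom, Iso.app_hom, Iso.app_inv, Functor.map_comp,
      Category.assoc]
    rw [reassoc_of% h, Iso.inv_hom_id_app_assoc]
  refine (Function.Bijective.of_comp_iff _ hB).symm.trans ?_
  refine (Function.Bijective.of_comp_iff' T.bijective _).symm.trans ?_
  refine Iff.trans (Iff.of_eq (congrArg Function.Bijective (funext key))) ?_
  refine (Function.Bijective.of_comp_iff' hC _).trans ?_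
  refine (Function.Bijective.of_comp_iff' ((DerCat.adjHomotopy adj (ComplexShape.up ℤ)).homEquiv _ _).bijective _).symm.trans ?_
  exact Iff.of_eq (congrArg Function.Bijective (funext fun φ => homEquiv_comp adj f φ))

lemma exists_injective_res (X : CochainComplex B ℤ) (a : ℤ) [X.IsStrictlyGE a] :
    ∃ (J : CochainComplex B ℤ) (i : X ⟶ J), QuasiIso i ∧ (∀ n, Injective (J.X n)) ∧ J.IsStrictlyGE a := by
  obtain ⟨J, i, h1, h2, h3⟩ := CochainComplex.Plus.modelCategoryQuillen.exists_quasiIso_injective X a
  exact ⟨J, i, h1, h2, h3⟩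

include adj in
/-- full faithfulness -/
theorem bijective_of_acyc [PreservesFiniteLimits R] (h : Acyc adj) (K Y : DerivedCategory.Plus B) :
    Function.Bijective fun g : K.obj ⟶ Y.obj => L.mapDerivedCategory.map g := by
  obtain ⟨a, ha⟩ := Y.property
  haveI := ha
  obtain ⟨J₀, _, ⟨eY⟩⟩ := DerivedCategory.exists_iso_Q_obj_of_isGE Y.obj a
  obtain ⟨J, i, hi, hJ, _⟩ := exists_injective_res J₀ a
  haveI : J.IsKInjective := CochainComplex.isKInjective_of_injective J a
  obtain ⟨I, f, hf, hI, _⟩ := exists_injective_res ((L.mapHomologicalComplex (ComplexShape.up ℤ)).obj J) a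
  haveI : I.IsKInjective := CochainComplex.isKInjective_of_injective I a
  let RI : CochainComplex B ℤ := (R.mapHomologicalComplex (ComplexShape.up ℤ)).obj I
  haveI : ∀ n, Injective (RI.X n) := fun n => injective_R adj (I.X n)
  haveI : RI.IsKInjective := CochainComplex.isKInjective_of_injective RI a
  haveI : QuasiIso ((R.mapHomologicalComplex (ComplexShape.up ℤ)).map f) :=
    quasiIso_map f a (fun n => (h (J.X n)).2) (fun n => isAcyclicObj_of_injective _)
  haveI : ∀ n, IsIso ((DerCat.unitCx adj (ComplexShape.up ℤ) J).f n) := fun n => (h (J.X n)).1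
  haveI : IsIso (DerCat.unitCx adj (ComplexShape.up ℤ) J) := HomologicalComplex.Hom.isIso_of_components _
  haveI := isIso_quotient_map (comparison adj f)
  obtain ⟨Kh, ⟨eK⟩⟩ : ∃ Kh, Nonempty (DerivedCategory.Qh.obj Kh ≅ K.obj) :=
    ⟨_, ⟨DerivedCategory.Qh.objObjPreimageIso K.obj⟩⟩
  have hb := (bijective_iff adj Kh f).2 (by
    have e : (fun φ : Kh ⟶ (HomotopyCategory.quotient _ _).obj J =>
        φ ≫ (HomotopyCategory.quotient _ _).map (comparison adj f)) =
        ⇑(Iso.homCongr (Iso.refl Kh) (asIso ((HomotopyCategory.quotient _ _).map (comparison adj f)))) :=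
      funext fun φ => by simp
    rw [e]
    exact Equiv.bijective _)
  let eJ : DerivedCategory.Qh.obj ((HomotopyCategory.quotient _ _).obj J) ≅ Y.obj :=
    (DerivedCategory.quotientCompQhIso B).app J ≪≫ (asIso (DerivedCategory.Q.map i)).symm ≪≫ eY.symm
  have hcomm : (fun g : K.obj ⟶ Y.obj => L.mapDerivedCategory.map g) ∘ Iso.homCongr eK eJ =
      Iso.homCongr (L.mapDerivedCategory.mapIso eK) (L.mapDerivedCategory.mapIso eJ) ∘
        (fun g => L.mapDerivedCategory.map g) := funext fun g => by simp
  exact (Function.Bijective.of_comp_iff _ (Iso.homCongr eK eJ).bijective).1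
    (hcomm ▸ (Iso.homCongr _ _).bijective.comp hb)

include adj in
/-- the converse -/
theorem acyc_of_bijective [PreservesFiniteLimits R]
    (h : ∀ K Y : DerivedCategory.Plus B, Function.Bijective fun g : K.obj ⟶ Y.obj => L.mapDerivedCategory.map g) :
    Acyc adj := by
  intro M
  let M₀ := (CochainComplex.singleFunctor B 0).obj M
  let IL := injectiveResolution (L.obj M)
  let J := (injectiveResolution M).cochainComplex
  let i : M₀ ⟶ J := (injectiveResolution M).ι'
  let I := IL.cochainComplex
  haveI : J.IsKInjective := CochainComplex.isKInjective_of_injective J 0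
  haveI : I.IsKInjective := CochainComplex.isKInjective_of_injective I 0
  let sL : (L.mapHomologicalComplex (ComplexShape.up ℤ)).obj M₀ ⟶ I :=
    (HomologicalComplex.singleMapHomologicalComplex L (ComplexShape.up ℤ) 0).hom.app M ≫ IL.ι'
  let LI := (L.mapHomologicalComplex (ComplexShape.up ℤ)).map i
  haveI : IsIso (DerivedCategory.Q.map LI) := inferInstance
  obtain ⟨fh, hfh⟩ := (CochainComplex.IsKInjective.Qh_map_bijective
      ((HomotopyCategory.quotient _ _).obj ((L.mapHomologicalComplex (ComplexShape.up ℤ)).obj J)) I).2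
    ((DerivedCategory.quotientCompQhIso C).hom.app _ ≫ inv (DerivedCategory.Q.map LI) ≫ DerivedCategory.Q.map sL ≫
      (DerivedCategory.quotientCompQhIso C).inv.app I)
  obtain ⟨f, rfl⟩ := (HomotopyCategory.quotient _ _).map_surjective fh
  have hQf : DerivedCategory.Q.map f = inv (DerivedCategory.Q.map LI) ≫ DerivedCategory.Q.map sL := by
    have e := (DerivedCategory.quotientCompQhIso C).hom.naturality f
    dsimp at e
    rw [hfh] at e
    simp only [Category.assoc, Iso.inv_hom_id_app, Category.comp_id] at e
    exact ((cancel_epi _).1 e).symm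
  haveI : QuasiIso f := by
    haveI : IsIso (DerivedCategory.Q.map f) := by rw [hQf]; infer_instance
    exact (DerivedCategory.isIso_Q_map_iff_quasiIso (φ := f)).1 inferInstance
  let RI : CochainComplex B ℤ := (R.mapHomologicalComplex (ComplexShape.up ℤ)).obj I
  haveI : ∀ n, Injective (RI.X n) := fun n => injective_R adj (I.X n)
  haveI : RI.IsKInjective := CochainComplex.isKInjective_of_injective RI 0
  let u := comparison adj f
  have hX : ∀ (X : CochainComplex B ℤ) [X.IsStrictlyGE 0],
      Function.Bijective (fun φ : (HomotopyCategory.quotient _ _).obj X ⟶ (HomotopyCategory.quotient _ _).obj J =>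
        φ ≫ (HomotopyCategory.quotient _ _).map u) := fun X _ => by
    refine (bijective_iff adj _ f).1 ?_
    haveI : (DerivedCategory.Qh.obj ((HomotopyCategory.quotient _ _).obj X)).IsGE 0 :=
      DerivedCategory.TStructure.t.isGE_of_iso ((DerivedCategory.quotientCompQhIso B).app X).symm 0
    haveI : (DerivedCategory.Qh.obj ((HomotopyCategory.quotient _ _).obj J)).IsGE 0 :=
      DerivedCategory.TStructure.t.isGE_of_iso ((DerivedCategory.quotientCompQhIso B).app J).symm 0
    exact h ⟨_, 0, inferInstance⟩ ⟨_, 0, inferInstance⟩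
  haveI hu : IsIso ((HomotopyCategory.quotient B (ComplexShape.up ℤ)).map u) := by
    obtain ⟨v, hv⟩ := (hX RI).2 (𝟙 _)
    exact ⟨v, (hX J).1 (show (_ ≫ v) ≫ _ = 𝟙 _ ≫ _ by rw [Category.assoc, show v ≫ _ = 𝟙 _ from hv, Category.comp_id, Category.id_comp]), hv⟩
  haveI : QuasiIso u := (HomotopyCategory.quotient_map_mem_quasiIso_iff u).1
    (MorphismProperty.of_isIso (HomotopyCategory.quasiIso B (ComplexShape.up ℤ)) _)
  refine ⟨?_, fun q => ?_⟩
  · let α := fun N : B => (L.mapDerivedCategorySingleFunctor 0).app N
    have hb : ∀ N N' : B, Function.Bijective (fun g : N ⟶ N' => L.map g) := fun N N' => by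
      have hB : Function.Bijective (fun g : N ⟶ N' => (DerivedCategory.singleFunctor B 0).map g) :=
        ⟨(DerivedCategory.singleFunctor B 0).map_injective, (DerivedCategory.singleFunctor B 0).map_surjective⟩
      have hC : Function.Bijective (fun g : L.obj N ⟶ L.obj N' => (DerivedCategory.singleFunctor C 0).map g) :=
        ⟨(DerivedCategory.singleFunctor C 0).map_injective, (DerivedCategory.singleFunctor C 0).map_surjective⟩
      refine (Function.Bijective.of_comp_iff' hC _).1 ?_
      have e : (fun g : L.obj N ⟶ L.obj N' => (DerivedCategory.singleFunctor C 0).map g) ∘ (fun g : N ⟶ N' => L.map g) =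
          ⇑(Iso.homCongr (α N) (α N')) ∘ (fun g => L.mapDerivedCategory.map g) ∘
            (fun g : N ⟶ N' => (DerivedCategory.singleFunctor B 0).map g) := funext fun g => by
        have hn := (L.mapDerivedCategorySingleFunctor 0).hom.naturality g
        dsimp at hn ⊢
        simp only [α, Iso.homCongr_apply, Iso.app_hom, Iso.app_inv]
        rw [hn, Iso.inv_hom_id_app_assoc]
      rw [e]
      exact (Equiv.bijective _).comp ((h ⟨_, 0, inferInstance⟩ ⟨_, 0, inferInstance⟩).comp hB)
    haveI : L.Full := ⟨(hb _ _).2⟩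
    haveI : L.Faithful := ⟨fun {_ _} _ _ e => (hb _ _).1 e⟩
    infer_instance
  · refine IsZero.of_iso ?_ (IL.isoRightDerivedObj R (q + 1) ≪≫
      (HomologicalComplex.extendHomologyIso ((R.mapHomologicalComplex _).obj IL.cocomplex)
        ComplexShape.embeddingUpNat (j := q + 1) (j' := ((q + 1 : ℕ) : ℤ)) rfl).symm ≪≫
      ((HomologicalComplex.homologyFunctor B (ComplexShape.up ℤ) _).mapIso (mapExtendIso R IL.cocomplex)).symm ≪≫
      (isoOfQuasiIsoAt u ((q + 1 : ℕ) : ℤ)).symm)
    refine (HomologicalComplex.exactAt_iff_isZero_homology _ _).1 ?_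
    exact ((HomologicalComplex.exactAt_iff_isZero_homology _ _).2
      ((HomologicalComplex.isZero_single_obj_homology _ _ _ _ (show ((q + 1 : ℕ) : ℤ) ≠ 0 by omega)).of_iso (isoOfQuasiIsoAt i _).symm) :)

end Groth.Agent.FibDescLib
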