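import Groth.Agent.FibDescLib.ColHom

/-! # Double complexes of an augmented simplicial object of simplicial spaces -/

set_option autoImplicit false
set_option backward.isDefEq.respectTransparency false
set_option linter.style.haveILetI false

noncomputable section

universe u

open CategoryTheory CategoryTheory.Limits Opposite Simplicial AlgebraicTopology

namespace Groth.Agent.FibDescLib

open ColSS Descent Descent.Rel

section Alt

lemma sum_alt (n : ℕ) : ∑ i : Fin n, (-1 : ℤ) ^ (i : ℕ) = if Even n then 0 else 1 := by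
  rw [Fin.sum_univ_eq_sum_range (fun i => (-1 : ℤ) ^ i), neg_one_geom_sum]

lemma objD_const {A : CosimplicialObject (CochainComplex AddCommGrpCat.{u} ℤ)} {n : ℕ} (hn : Odd n)
    (a : A.obj ⦋n⦌ ⟶ A.obj ⦋n + 1⦌) (h : ∀ i : Fin (n + 2), A.δ i = a) : AlternatingCofaceMapComplex.objD A n = a := by
  rw [AlternatingCofaceMapComplex.objD, Finset.sum_congr rfl (fun i _ => by rw [h i]), ← Finset.sum_smul, sum_alt,
    if_neg (by rw [Nat.even_add, Nat.not_even_iff_odd.2 hn |> iff_false_intro]; simp), one_smul]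

/-- a double complex whose horizontal maps are bijective in even places is exact -/
theorem tExact_of_even_bijective (C : Cols.{u}) (h : ∀ n, Even n → ∀ q, Function.Bijective ((C.dh n).f q)) :
    TExact C := fun n x hx hD => by
  refine Cols.exists_primitive_of_rows C (fun q => (h 0 ⟨0, rfl⟩ q).1) (fun p q y hy => ?_) n x hx hD
  rcases Nat.even_or_odd p with hp | hp
  · exact (h p hp q).2 y
  · exact ⟨0, (map_zero _).trans ((h (p + 1) hp.add_one q).1 (hy.trans (map_zero _).symm)).symm⟩

variable {C C' : Cols.{u}} (f : ∀ p, C.K p ⟶ C'.K p) (hf : ∀ p, f p ≫ C'.dh p = C.dh p ≫ f (p + 1))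

include hf in
lemma totMap_bijective (h : ∀ p q, Function.Bijective ((f p).f q)) (q : ℤ) :
    Function.Bijective ((totMap f hf).f q) := by
  refine ⟨fun a b hab => Subtype.ext (funext fun p => funext fun r => (h p r).1 ?_), fun y => ?_⟩
  · exact congrFun (congrFun (congrArg Subtype.val hab) p) r
  · choose g hg using fun p r => (h p r).2 (y.1 p r)
    refine ⟨⟨g, fun p r hpr => (h p r).1 ((hg p r).trans ((y.2 p r hpr).trans (map_zero _).symm))⟩,
      Subtype.ext (funext fun p => funext fun r => hg p r)⟩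

/-- exactness goes forward along a quasi-isomorphism -/
theorem ex_of_qi {K L : CochainComplex AddCommGrpCat.{u} ℤ} {φ : K ⟶ L} (hφ : QI φ) (hK : Bi.Ex K) : Bi.Ex L := by
  intro q l hl
  obtain ⟨r, rfl⟩ : ∃ r, q = r - 1 := ⟨q + 1, by ring⟩
  rw [sub_add_cancel] at hl
  obtain ⟨w, v, hw, hv⟩ := hφ r 0 l (map_zero _) ((map_zero _).trans hl.symm)
  obtain ⟨u, hu⟩ := hK (r - 1) w (by rw [sub_add_cancel]; exact hw)
  refine ⟨φ.f (r - 1 - 1) u + v, ?_⟩
  rw [map_add, ← hv, ← hu]
  exact congrArg (· + _) (ConcreteCategory.congr_hom (φ.comm (r - 1 - 1) (r - 1)) u)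

end Alt

variable {S : TopCat.{u}}

/-- an augmented simplicial object of simplicial spaces -/
structure AugSS (S : TopCat.{u}) where
  /-- the target -/
  L : SimplicialObject (Over S)
  /-- the simplicial object -/
  Z : SimplicialObject (SimplicialObject (Over S))
  /-- the augmentation -/
  ε : Z.obj (op ⦋0⦌) ⟶ L
  hε : Z.δ (0 : Fin 2) ≫ ε = Z.δ (1 : Fin 2) ≫ ε

namespace AugSS

variable (A : AugSS S) (T : (Over S)ᵒᵖ ⥤ CochainComplex AddCommGrpCat.{u} ℤ) (hT : ∀ P, (T.obj P).IsStrictlyGE 0)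

/-- the levels -/
def lev : ℕ → SimplicialObject (Over S)
  | 0 => A.L
  | n + 1 => A.Z.obj (op ⦋n⦌)

/-- the second differential -/
def vA (m : ℕ) : ∀ n, (colF T hT m).obj (op (A.lev n)) ⟶ (colF T hT m).obj (op (A.lev (n + 1)))
  | 0 => (colF T hT m).map A.ε.op
  | n + 1 => AlternatingCofaceMapComplex.objD (A.Z.rightOp ⋙ colF T hT m) n

lemma vA_vA (m : ℕ) : ∀ n, A.vA T hT m n ≫ A.vA T hT m (n + 1) = 0
  | 0 => by
    have h : ∀ i : Fin 2, (colF T hT m).map A.ε.op ≫ CosimplicialObject.δ (A.Z.rightOp ⋙ colF T hT m) i =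
        (colF T hT m).map (A.Z.δ i ≫ A.ε).op := fun i => ((colF T hT m).map_comp _ _).symm
    show (colF T hT m).map A.ε.op ≫ AlternatingCofaceMapComplex.objD (A.Z.rightOp ⋙ colF T hT m) 0 = 0
    rw [AlternatingCofaceMapComplex.objD, Fin.sum_univ_two, Preadditive.comp_add, Preadditive.comp_zsmul,
      Preadditive.comp_zsmul, h, h, A.hε]
    simp
  | n + 1 => AlternatingCofaceMapComplex.d_squared (A.Z.rightOp ⋙ colF T hT m) n

/-- the double complex of complexes -/
def bi : Bi.{u} where
  K m n := (colsT (A.lev n) T hT).K m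
  ge m n := (colsT (A.lev n) T hT).ge m
  h m n := (colsT (A.lev n) T hT).dh m
  v m n := A.vA T hT m n
  hh m n := (colsT (A.lev n) T hT).dh_dh m
  vv m n := A.vA_vA T hT m n
  comm m n := by
    rcases n with _ | n
    · exact ((dhF T hT m).naturality A.ε.op).symm
    · exact objD_natural' (Functor.whiskerLeft A.Z.rightOp (dhF T hT m)) n

lemma bijective_bot (n : ℕ) (hn : Even n) (q : ℤ) :
    Function.Bijective ((((A.bi T hT).flip.slice 0).dh n).f q) := by
  have : ((A.bi T hT).flip.slice 0).dh n = 𝟙 (T.obj (op Descent.base)) := by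
    rcases n with _ | n
    · rfl
    · exact objD_const (A := A.Z.rightOp ⋙ colF T hT 0) (by
        rcases Nat.even_or_odd n with h | h
        · exact absurd hn (Nat.not_even_iff_odd.2 h.add_one)
        · exact h) (𝟙 (T.obj (op Descent.base))) fun i => rfl
  rw [this]
  exact ⟨fun a b h => h, fun y => ⟨y, rfl⟩⟩

/-- exact transverse slices make the total exact -/
theorem tExact_outer (h : ∀ p, TExact ((A.bi T hT).flip.slice (p + 1))) : TExact (A.bi T hT).outer := by
  intro j x hx hD
  let B := A.bi T hT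
  obtain ⟨t, ht, e⟩ := Bi.tExact_of_cols (C := B.flip.outer) (fun m => (Bi.ex_tot_iff _).2 (by
      rcases m with _ | m
      · exact tExact_of_even_bijective _ (A.bijective_bot T hT)
      · exact h m)) j (B.σ x) (B.σ_mem hx)
    (by rw [B.σ_D, hD, map_zero])
  refine ⟨B.flip.σ t, B.flip.σ_mem ht, ?_⟩
  exact (B.flip.σ_D t).trans ((congrArg B.flip.σ e).trans (B.σ_σ x))

/-- the constant object -/
def const (K : SimplicialObject (Over S)) : AugSS S where
  L := K
  Z := (Functor.const _).obj K
  ε := 𝟙 K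
  hε := rfl

lemma colF_map_id (m : ℕ) (K : SimplicialObject (Over S)) (q : ℤ) :
    Function.Bijective (((colF T hT m).map (𝟙 K).op).f q) := by
  rw [op_id, (colF T hT m).map_id]
  exact ⟨fun a b h => h, fun y => ⟨y, rfl⟩⟩

lemma tExact_outer_const (K : SimplicialObject (Over S)) : TExact ((const K).bi T hT).outer := by
  refine tExact_of_even_bijective _ fun n hn q => totMap_bijective _ (fun m => ((((const K).bi T hT)).comm m n).symm)
    (fun m r => ?_) q
  rcases n with _ | n
  · exact colF_map_id T hT m K r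
  · have hodd : Odd n := by
      rcases Nat.even_or_odd n with h | h
      · exact absurd hn (Nat.not_even_iff_odd.2 h.add_one)
      · exact h
    show Function.Bijective ((AlternatingCofaceMapComplex.objD ((const K).Z.rightOp ⋙ colF T hT m) n).f r)
    rw [objD_const (A := (const K).Z.rightOp ⋙ colF T hT m) hodd ((colF T hT m).map (𝟙 K).op) fun i => rfl]
    exact colF_map_id T hT m K r

/-- maps of augmented objects -/
structure Hom (A' A : AugSS S) where
  /-- on the targets -/
  l : A'.L ⟶ A.L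
  /-- on the simplicial objects -/
  z : A'.Z ⟶ A.Z
  w : A'.ε ≫ l = z.app (op ⦋0⦌) ≫ A.ε

variable {A} {A' : AugSS S} (φ : Hom A' A)

/-- on the levels -/
def Hom.lev : ∀ n, A'.lev n ⟶ A.lev n
  | 0 => φ.l
  | n + 1 => φ.z.app (op ⦋n⦌)

lemma Hom.lev_v (m : ℕ) : ∀ n, (colF T hT m).map (φ.lev n).op ≫ A'.vA T hT m n =
    A.vA T hT m n ≫ (colF T hT m).map (φ.lev (n + 1)).op
  | 0 => ((colF T hT m).map_comp _ _).symm.trans
      ((congrArg (fun k => (colF T hT m).map (Quiver.Hom.op k)) φ.w).trans
        ((colF T hT m).map_comp A.ε.op (φ.z.app (op ⦋0⦌)).op))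
  | n + 1 => objD_natural' (Functor.whiskerRight (NatTrans.rightOp φ.z) (colF T hT m) :
      A.Z.rightOp ⋙ colF T hT m ⟶ A'.Z.rightOp ⋙ colF T hT m) n

/-- on the columns of the total -/
def Hom.outer (n : ℕ) : (A.bi T hT).outer.K n ⟶ (A'.bi T hT).outer.K n :=
  totMap (C := (A.bi T hT).slice n) (C' := (A'.bi T hT).slice n) (colN T hT (φ.lev n)) (colN_dh T hT (φ.lev n))

lemma Hom.outer_dh (n : ℕ) :
    φ.outer T hT n ≫ (A'.bi T hT).outer.dh n = (A.bi T hT).outer.dh n ≫ φ.outer T hT (n + 1) :=
  HomologicalComplex.hom_ext _ _ fun q => AddCommGrpCat.ext fun s => Subtype.ext (funext fun m => funext fun r =>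
    ConcreteCategory.congr_hom (congrArg (fun k => HomologicalComplex.Hom.f k r) (φ.lev_v T hT m n)) _)

/-- exactness passes along a map which is a quasi-isomorphism in all the columns but the first -/
theorem Hom.tExact_of_qi (hA : ∀ p, TExact ((A.bi T hT).flip.slice (p + 1))) (hA' : TExact (A'.bi T hT).outer)
    (hq : ∀ n, QI (φ.outer T hT (n + 1))) (hL : TExact (colsT A.L T hT)) : TExact (colsT A'.L T hT) :=
  (Bi.ex_tot_iff _).1 (ex_of_qi (qi_zero (C := (A.bi T hT).outer) (C' := (A'.bi T hT).outer) (φ.outer T hT)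
    (φ.outer_dh T hT) hq (A.tExact_outer T hT hA) hA') ((Bi.ex_tot_iff _).2 hL))

end AugSS

end Groth.Agent.FibDescLib
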