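import Groth.Agent.FibDescLib.Instances
import Mathlib.CategoryTheory.Limits.Shapes.Pullback.IsPullback.Basic

/-! # Base change of the Godement double complexes -/

set_option autoImplicit false
set_option backward.isDefEq.respectTransparency false
set_option linter.style.haveILetI false

noncomputable section

universe u

open CategoryTheory CategoryTheory.Limits Opposite TopologicalSpace Simplicial AlgebraicTopology

namespace Groth.Agent.FibDescLib

open Godement SoftSheaf Descent Descent.Rel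

lemma qi_of_iso {K L : CochainComplex AddCommGrpCat.{u} ℤ} (e : K ≅ L) : QI e.hom := fun q k l hk hkl => by
  refine ⟨e.inv.f (q - 1) l, 0, ?_, ?_⟩
  · refine (ConcreteCategory.congr_hom (e.inv.comm (q - 1) q) l).trans ?_
    refine (congrArg (e.inv.f q) hkl.symm).trans ?_
    exact ConcreteCategory.congr_hom (congrArg (fun m : K ⟶ K => m.f q) e.hom_inv_id) k
  · rw [map_zero, add_zero]
    exact ConcreteCategory.congr_hom (congrArg (fun m : L ⟶ L => m.f (q - 1)) e.inv_hom_id) l

/-- column-wise isomorphic double complexes are exact together -/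
theorem tExact_congr {C C' : ColSS.Cols.{u}} (e : ∀ p, C.K p ≅ C'.K p)
    (h : ∀ p, (e p).hom ≫ C'.dh p = C.dh p ≫ (e (p + 1)).hom) : TExact C ↔ TExact C' := by
  refine ⟨fun hC => tExact_of_qi (fun p => (e p).inv) (fun p => ?_) (fun p => qi_of_iso (e p).symm) hC,
    fun hC => tExact_of_qi (fun p => (e p).hom) h (fun p => qi_of_iso (e p)) hC⟩
  rw [Iso.inv_comp_eq, ← Category.assoc, h, Category.assoc, Iso.hom_inv_id, Category.comp_id]

lemma objD_natural' {A B : CosimplicialObject (CochainComplex AddCommGrpCat.{u} ℤ)} (φ : A ⟶ B) (p : ℕ) :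
    φ.app ⦋p⦌ ≫ AlternatingCofaceMapComplex.objD B p = AlternatingCofaceMapComplex.objD A p ≫ φ.app ⦋p + 1⦌ := by
  rw [AlternatingCofaceMapComplex.objD, AlternatingCofaceMapComplex.objD, Preadditive.comp_sum, Preadditive.sum_comp]
  refine Finset.sum_congr rfl fun i _ => ?_
  rw [Preadditive.comp_zsmul, Preadditive.zsmul_comp]
  exact congrArg _ (φ.naturality _).symm

/-- comparison of augmented double complexes over different bases -/
theorem tExact_colsT_congr {S S' : TopCat.{u}} {N : SimplicialObject (Over S)} {N' : SimplicialObject (Over S')}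
    {T : (Over S)ᵒᵖ ⥤ CochainComplex AddCommGrpCat.{u} ℤ} {T' : (Over S')ᵒᵖ ⥤ CochainComplex AddCommGrpCat.{u} ℤ}
    (hT : ∀ P, (T.obj P).IsStrictlyGE 0) (hT' : ∀ P, (T'.obj P).IsStrictlyGE 0)
    (e₀ : T.obj (op Descent.base) ≅ T'.obj (op Descent.base)) (α : N.rightOp ⋙ T ≅ N'.rightOp ⋙ T')
    (h : augT N T ≫ α.hom.app ⦋0⦌ = e₀.hom ≫ augT N' T') :
    TExact (colsT N T hT) ↔ TExact (colsT N' T' hT') := by
  let e : ∀ p, (colsT N T hT).K p ≅ (colsT N' T' hT').K p
    | 0 => e₀
    | p + 1 => α.app ⦋p⦌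
  refine tExact_congr e fun p => ?_
  rcases p with _ | p
  · exact h.symm
  · exact objD_natural' α.hom p

section Coefficients

variable {X : TopCat.{u}}

/-- the Godement complexes are functorial in the sheaf -/
def cxUCoef {F F' : CohTop.Ab X} (φ : F ⟶ F') (U : Opens X) : cxU F U ⟶ cxU F' U :=
  cxUMap (g := 𝟙 X) (show Coh (𝟙 X) F F' from φ) U

lemma cxUCoef_id (F : CohTop.Ab X) (U : Opens X) : cxUCoef (𝟙 F) U = 𝟙 _ := by
  ext n s
  show (G0map (Qnmap (Coh.id F) n)).app U s = s
  rw [Qnmap_id, G0map_id]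
  rfl

lemma cxUCoef_comp {F F' F'' : CohTop.Ab X} (φ : F ⟶ F') (ψ : F' ⟶ F'') (U : Opens X) :
    cxUCoef φ U ≫ cxUCoef ψ U = cxUCoef (φ ≫ ψ) U := by
  ext n s
  show (G0map (Qnmap (show Coh (𝟙 X) F' F'' from ψ) n)).app U ((G0map (Qnmap (show Coh (𝟙 X) F F' from φ) n)).app U s) =
    (G0map (Qnmap (Coh.comp (show Coh (𝟙 X) F F' from φ) (show Coh (𝟙 X) F' F'' from ψ)) n)).app U s
  rw [Qnmap_comp, G0map_comp]
  rfl

/-- isomorphic sheaves have isomorphic Godement complexes -/
def cxUIso {F F' : CohTop.Ab X} (e : F ≅ F') (U : Opens X) : cxU F U ≅ cxU F' U where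
  hom := cxUCoef e.hom U
  inv := cxUCoef e.inv U
  hom_inv_id := by rw [cxUCoef_comp, e.hom_inv_id, cxUCoef_id]
  inv_hom_id := by rw [cxUCoef_comp, e.inv_hom_id, cxUCoef_id]

end Coefficients

variable {S S' : TopCat.{u}} (g : S' ⟶ S) (G : CohTop.Ab S)

/-- the composite adjunction -/
abbrev adj2 (Q : Over S') : CohTop.pull g ⋙ CohTop.pull Q.hom ⊣ CohTop.push (Q.hom ≫ g) :=
  ((adj g).comp (adj Q.hom)).ofNatIsoRight
    (Iso.refl _ : CohTop.push Q.hom ⋙ CohTop.push g ≅ CohTop.push (Q.hom ≫ g))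

/-- inverse images in two steps -/
def θ (Q : Over S') : FP G ((Over.map g).obj Q) ≅ FP ((CohTop.pull g).obj G) Q :=
  ((adj (Q.hom ≫ g)).leftAdjointUniq (adj2 g Q)).app G

lemma unit_θ (Q : Over S') : (adj (Q.hom ≫ g)).unit.app G ≫ (CohTop.push (Q.hom ≫ g)).map (θ g G Q).hom =
    (adj g).unit.app G ≫ (CohTop.push g).map ((adj Q.hom).unit.app ((CohTop.pull g).obj G)) :=
  (Adjunction.unit_leftAdjointUniq_hom_app (adj (Q.hom ≫ g)) (adj2 g Q) G).trans
    (CategoryTheory.Sheaf.hom_ext (NatTrans.ext (funext fun U => AddCommGrpCat.ext fun s => rfl)))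

lemma unit_coh_apply {A B : TopCat.{u}} {T : TopCat.{u}} (F : CohTop.Ab T) {a : A ⟶ T} {b : B ⟶ T} (h : B ⟶ A)
    (w : h ≫ a = b) (U : Opens T) (s : F.obj.obj (op U)) (y : B) (hy : a (h y) ∈ U) (hy' : b y ∈ U) :
    germ ((CohTop.pull b).obj F) _ y hy ((coh F h w).app ((Opens.map a).obj U) (Coh.app (g := a) (F' := (CohTop.pull a).obj F) ((adj a).unit.app F) U s)) =
      germ ((CohTop.pull b).obj F) _ y hy' (Coh.app (g := b) (F' := (CohTop.pull b).obj F) ((adj b).unit.app F) U s) := by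
  subst w
  exact congrArg (germ ((CohTop.pull (h ≫ a)).obj F) _ y hy) (ConcreteCategory.congr_hom
    (congrArg (fun m : F ⟶ (CohTop.push (h ≫ a)).obj _ => m.hom.app (op U)) (unit_cohOf F a h)) s)

lemma θ_unit_apply (Q : Over S') (U : Opens S) (s : G.obj.obj (op U)) :
    (θ g G Q).hom.hom.app (op ((Opens.map (Q.hom ≫ g)).obj U))
        (Coh.app (g := Q.hom ≫ g) (F' := FP G ((Over.map g).obj Q)) ((adj (Q.hom ≫ g)).unit.app G) U s) =
      Coh.app (g := Q.hom) (F' := FP ((CohTop.pull g).obj G) Q) ((adj Q.hom).unit.app ((CohTop.pull g).obj G))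
        ((Opens.map g).obj U) (Coh.app (g := g) (F' := (CohTop.pull g).obj G) ((adj g).unit.app G) U s) :=
  ConcreteCategory.congr_hom (congrArg (fun m : G ⟶ (CohTop.push (Q.hom ≫ g)).obj _ => m.hom.app (op U)) (unit_θ g G Q)) s

lemma θ_coh {Q R : Over S'} (h : Q ⟶ R) :
    ((θ g G R).hom ≫ coh ((CohTop.pull g).obj G) h.left (Over.w h) :
      Coh h.left (FP G ((Over.map g).obj R)) (FP ((CohTop.pull g).obj G) Q)) =
    coh G ((Over.map g).map h).left (Over.w ((Over.map g).map h)) ≫ (CohTop.push h.left).map (θ g G Q).hom := by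
  refine coh_ext G (a := R.hom ≫ g) (g := h.left) _ _ ?_
  refine CategoryTheory.Sheaf.hom_ext (NatTrans.ext (funext fun U => AddCommGrpCat.ext fun s => ?_))
  refine TopCat.Presheaf.section_ext (FP ((CohTop.pull g).obj G) Q) _ _ _ fun y hy => ?_
  show germ (FP ((CohTop.pull g).obj G) Q) _ y hy
      ((coh ((CohTop.pull g).obj G) h.left (Over.w h)).app ((Opens.map (R.hom ≫ g)).obj U.unop)
        ((θ g G R).hom.hom.app (op ((Opens.map (R.hom ≫ g)).obj U.unop))
          (Coh.app (g := R.hom ≫ g) (F' := FP G ((Over.map g).obj R)) ((adj (R.hom ≫ g)).unit.app G) U.unop s))) =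
    germ (FP ((CohTop.pull g).obj G) Q) _ y hy
      ((θ g G Q).hom.hom.app (op ((Opens.map h.left).obj ((Opens.map (R.hom ≫ g)).obj U.unop)))
        ((coh G ((Over.map g).map h).left (Over.w ((Over.map g).map h))).app ((Opens.map (R.hom ≫ g)).obj U.unop)
          (Coh.app (g := R.hom ≫ g) (F' := FP G ((Over.map g).obj R)) ((adj (R.hom ≫ g)).unit.app G) U.unop s)))
  have hy' : (Q.hom ≫ g) y ∈ U.unop := by
    rw [← Over.w h]
    exact hy
  rw [θ_unit_apply]
  refine (unit_coh_apply ((CohTop.pull g).obj G) h.left (Over.w h) ((Opens.map g).obj U.unop) _ y hy hy').trans ?_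
  refine (congrArg (germ (FP ((CohTop.pull g).obj G) Q) ((Opens.map (Q.hom ≫ g)).obj U.unop) y hy')
    (θ_unit_apply g G Q U.unop s).symm).trans ?_
  refine ((stalkMap_germ (θ g G Q).hom ((Opens.map (Q.hom ≫ g)).obj U.unop) y hy' _).symm.trans ?_).trans
    (stalkMap_germ (θ g G Q).hom ((Opens.map h.left).obj ((Opens.map (R.hom ≫ g)).obj U.unop)) y hy _)
  exact congrArg (stalkMap (θ g G Q).hom y)
    (unit_coh_apply G ((Over.map g).map h).left (Over.w ((Over.map g).map h)) U.unop s y hy hy').symm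

variable (V : Opens S)

/-- change of base of the relative complexes -/
def bcIso : (Over.map g).op ⋙ MV G V ≅ MV ((CohTop.pull g).obj G) ((Opens.map g).obj V) :=
  (Functor.associator _ _ _).symm ≪≫ Functor.isoWhiskerRight
    (NatIso.ofComponents (fun Q => cxUIso (θ g G Q.unop) (pre ((Opens.map g).obj V) Q.unop)) fun {R Q} h => by
      ext n s
      refine funext fun y => ?_
      show (Qnmap (show Coh (𝟙 _) _ _ from (θ g G Q.unop).hom) n).stalk y.1
          ((Qnmap (coh G ((Over.map g).map h.unop).left (Over.w ((Over.map g).map h.unop))) n).stalk y.1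
            (s ⟨h.unop.left y.1, _⟩)) =
        (Qnmap (coh ((CohTop.pull g).obj G) h.unop.left (Over.w h.unop)) n).stalk y.1
          ((Qnmap (show Coh (𝟙 _) _ _ from (θ g G R.unop).hom) n).stalk (h.unop.left y.1) (s ⟨h.unop.left y.1, _⟩))
      refine (Coh.stalk_comp (g' := 𝟙 _) _ _ y.1 _).symm.trans (Eq.trans ?_ (Coh.stalk_comp (g := 𝟙 _) _ _ y.1 _))
      rw [← Qnmap_comp, ← Qnmap_comp]
      exact congrArg (fun c => (Qnmap c n).stalk y.1 _) (θ_coh g G h.unop).symm) _

variable (S) in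
/-- the product with a space over the base -/
def pX (Q : Over S) : Over S ⥤ Over S where
  obj P := Over.mk (pullback.fst P.hom Q.hom ≫ P.hom)
  map {P P'} a := Over.homMk (pullback.lift (pullback.fst P.hom Q.hom ≫ a.left) (pullback.snd P.hom Q.hom)
    (by rw [Category.assoc, Over.w a, pullback.condition]))
    (by show _ ≫ pullback.fst _ _ ≫ _ = pullback.fst _ _ ≫ _; rw [pullback.lift_fst_assoc, Category.assoc, Over.w a])
  map_id P := Over.OverMorphism.ext (pullback.hom_ext (by simp) (by simp))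
  map_comp a b := Over.OverMorphism.ext (pullback.hom_ext (by simp) (by simp))

/-- the product with the base -/
def pXBase (Q : Over S) : (pX S Q).obj Descent.base ≅ Q :=
  Over.isoMk ⟨pullback.snd _ _, pullback.lift Q.hom (𝟙 _) (by simp),
      pullback.hom_ext (by rw [Category.assoc, pullback.lift_fst, Category.id_comp, ← pullback.condition]; exact Category.comp_id _)
        (by rw [Category.assoc, pullback.lift_snd, Category.comp_id, Category.id_comp]),
      pullback.lift_snd _ _ _⟩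
    (by show pullback.snd _ _ ≫ Q.hom = pullback.fst _ _ ≫ _; rw [pullback.condition])

variable {X X' : TopCat.{u}} {f : X ⟶ S} {g' : X' ⟶ X} {f' : X' ⟶ S'} (hP : IsPullback g' f' f g)

/-- from the fibre products of the base change -/
def nerveTo (n : SimplexCategory) :
    (Over.map g).obj ((nerve f').obj (op n)) ⟶ (pX S (Over.mk g)).obj ((nerve f).obj (op n)) :=
  Over.homMk (pullback.lift
    (WidePullback.lift (WidePullback.base (fun _ : Fin (n.len + 1) => f') ≫ g)
      (fun i => WidePullback.π (fun _ : Fin (n.len + 1) => f') i ≫ g')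
      (fun i => by rw [Category.assoc, hP.w, WidePullback.π_arrow_assoc]))
    (WidePullback.base (fun _ : Fin (n.len + 1) => f')) (WidePullback.lift_base _ _ _ _))
    ((pullback.lift_fst_assoc _ _ _ _).trans (WidePullback.lift_base _ _ _ _))

/-- to the fibre products of the base change -/
def nerveFrom (n : SimplexCategory) :
    pullback ((nerve f).obj (op n)).hom g ⟶ widePullback S' (fun _ : Fin (n.len + 1) => X') (fun _ => f') :=
  WidePullback.lift (pullback.snd _ _)
    (fun i => hP.lift (pullback.fst ((nerve f).obj (op n)).hom g ≫ WidePullback.π (fun _ : Fin (n.len + 1) => f) i)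
      (pullback.snd _ _) (by rw [Category.assoc, WidePullback.π_arrow]; exact pullback.condition))
    (fun i => hP.lift_snd _ _ _)

/-- the fibre products of a base change -/
def nerveIso (n : SimplexCategory) :
    (Over.map g).obj ((nerve f').obj (op n)) ≅ (pX S (Over.mk g)).obj ((nerve f).obj (op n)) :=
  Over.isoMk ⟨(nerveTo g hP n).left, nerveFrom g hP n, by
      refine WidePullback.hom_ext _ _ _ (fun i => ?_) ?_
      · refine hP.hom_ext ?_ ?_
        · simp [nerveTo, nerveFrom, hP.lift_fst]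
        · simp [nerveTo, nerveFrom, hP.lift_snd]
      · simp [nerveTo, nerveFrom], by
      refine pullback.hom_ext ?_ ?_
      · refine WidePullback.hom_ext _ _ _ (fun i => ?_) ?_
        · simp [nerveTo, nerveFrom, hP.lift_fst]
        · simp [nerveTo, nerveFrom]
          exact pullback.condition.symm
      · simp [nerveTo, nerveFrom]⟩ (Over.w (nerveTo g hP n))

lemma nerveTo_nat {m n : SimplexCategory} (a : m ⟶ n) :
    (Over.map g).map ((nerve f').map a.op) ≫ nerveTo g hP m =
      nerveTo g hP n ≫ (pX S (Over.mk g)).map ((nerve f).map a.op) := by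
  refine Over.OverMorphism.ext (pullback.hom_ext ?_ ?_)
  · refine WidePullback.hom_ext _ _ _ (fun i => ?_) ?_
    · simp [nerveTo, pX, Descent.nerve]
    · simp [nerveTo, pX, Descent.nerve]
  · simp [nerveTo, pX, Descent.nerve]

lemma nerveFrom_nat {m n : SimplexCategory} (a : m ⟶ n) :
    (nerveIso g hP n).inv ≫ (Over.map g).map ((nerve f').map a.op) =
      (pX S (Over.mk g)).map ((nerve f).map a.op) ≫ (nerveIso g hP m).inv :=
  (Iso.inv_comp_eq _).2 ((Iso.eq_comp_inv _).2 (nerveTo_nat g hP a) |>.trans (Category.assoc _ _ _))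

/-- the base seen from the base change -/
def baseIso : (pX S (Over.mk g)).obj Descent.base ≅ (Over.map g).obj (Descent.base : Over S') :=
  pXBase (Over.mk g) ≪≫ (Over.isoMk (Iso.refl _) rfl : Over.mk g ≅ (Over.map g).obj Descent.base)

lemma base_nat :
    (nerveIso g hP ⦋0⦌).inv ≫ (Over.map g).map (toBase ((nerve f').obj (op ⦋0⦌))) =
      (pX S (Over.mk g)).map (toBase ((nerve f).obj (op ⦋0⦌))) ≫ (baseIso g).hom := by
  refine Over.OverMorphism.ext ?_
  simp [nerveIso, nerveFrom, baseIso, pX, pXBase, toBase, Descent.base]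
  exact WidePullback.lift_base ..

lemma isStrictlyGE_pXMV (Q : Over S) (P : (Over S)ᵒᵖ) : (((pX S Q).op ⋙ MV G V).obj P).IsStrictlyGE 0 :=
  isStrictlyGE_MV G V _

section Transport

variable {S₁ S₂ : TopCat.{u}} {Φ : Over S₁ ⥤ Over S₂} {T₁ : (Over S₁)ᵒᵖ ⥤ CochainComplex AddCommGrpCat.{u} ℤ}
  {T₂ : (Over S₂)ᵒᵖ ⥤ CochainComplex AddCommGrpCat.{u} ℤ} (bc : Φ.op ⋙ T₂ ≅ T₁)

/-- a column after a change of base -/
def colApp {P : Over S₁} {Q : Over S₂} (e : Φ.obj P ≅ Q) : T₁.obj (op P) ≅ T₂.obj (op Q) :=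
  (bc.app (op P)).symm ≪≫ T₂.mapIso e.symm.op

lemma colApp_nat {P P' : Over S₁} {Q Q' : Over S₂} (e : Φ.obj P ≅ Q) (e' : Φ.obj P' ≅ Q')
    (a : P' ⟶ P) (b : Q' ⟶ Q) (h : e'.inv ≫ Φ.map a = b ≫ e.inv) :
    T₁.map a.op ≫ (colApp bc e').hom = (colApp bc e).hom ≫ T₂.map b.op := by
  have h' : T₂.map (Φ.map a).op ≫ T₂.map e'.inv.op = T₂.map e.inv.op ≫ T₂.map b.op := by
    rw [← Functor.map_comp, ← Functor.map_comp, ← op_comp, ← op_comp, h]
  have hn := bc.inv.naturality a.op
  dsimp at hn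
  simp only [colApp, Iso.trans_hom, Iso.symm_hom, Iso.app_inv, Functor.mapIso_hom, Iso.op_hom, Category.assoc]
  rw [reassoc_of% hn, h']

include bc in
/-- transport of exactness along a change of base -/
theorem tExact_transport {N₁ : SimplicialObject (Over S₁)} {N₂ : SimplicialObject (Over S₂)}
    {R : Over S₂ ⥤ Over S₂} (hT₁ : ∀ P, (T₁.obj P).IsStrictlyGE 0) (hT₂ : ∀ P, ((R.op ⋙ T₂).obj P).IsStrictlyGE 0)
    (e₀ : Φ.obj Descent.base ≅ R.obj Descent.base) (e : ∀ n, Φ.obj (N₁.obj n) ≅ R.obj (N₂.obj n))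
    (he : ∀ {m n} (a : m ⟶ n), (e m).inv ≫ Φ.map (N₁.map a) = R.map (N₂.map a) ≫ (e n).inv)
    (h₀ : (e (op ⦋0⦌)).inv ≫ Φ.map (toBase _) = R.map (toBase _) ≫ e₀.inv) :
    TExact (colsT N₁ T₁ hT₁) ↔ TExact (colsT N₂ (R.op ⋙ T₂) hT₂) :=
  tExact_colsT_congr hT₁ hT₂ (colApp bc e₀)
    (NatIso.ofComponents (fun n => colApp bc (e (op n))) fun {m n} a => colApp_nat bc _ _ _ _ (he a.op))
    (colApp_nat bc _ _ _ _ h₀)

end Transport

include hP in
/-- descent of a base change -/
theorem tExact_of_desc_baseChange (h : Desc (nerve f')) :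
    TExact (colsT (nerve f) ((pX S (Over.mk g)).op ⋙ MV G V) (isStrictlyGE_pXMV G V _)) :=
  (tExact_transport (bcIso g G V) (N₁ := nerve f') (N₂ := nerve f) (R := pX S (Over.mk g))
    (isStrictlyGE_MV _ _) (isStrictlyGE_pXMV G V _) (baseIso g).symm (fun n => nerveIso g hP n.unop)
    (fun a => nerveFrom_nat g hP a.unop) (base_nat g hP)).1 (h ((CohTop.pull g).obj G) ((Opens.map g).obj V))

end Groth.Agent.FibDescLib
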