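import Groth.Agent.FibDescLib.Transfer

/-! # Double complexes of complexes -/

set_option autoImplicit false
set_option linter.style.haveILetI false

noncomputable section

universe u

open CategoryTheory CategoryTheory.Limits

namespace Groth.Agent.FibDescLib

open ColSS
open scoped ZeroObject

/-- a doubly indexed family of complexes with two commuting differentials -/
structure Bi where
  /-- the complexes -/
  K : ℕ → ℕ → CochainComplex AddCommGrpCat.{u} ℤ
  ge : ∀ m n, (K m n).IsStrictlyGE 0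
  /-- the first differential -/
  h : ∀ m n, K m n ⟶ K (m + 1) n
  /-- the second differential -/
  v : ∀ m n, K m n ⟶ K m (n + 1)
  hh : ∀ m n, h m n ≫ h (m + 1) n = 0
  vv : ∀ m n, v m n ≫ v m (n + 1) = 0
  comm : ∀ m n, h m n ≫ v (m + 1) n = v m n ≫ h m (n + 1)

namespace Bi

variable (B : Bi.{u})

/-- exchanging the directions -/
def flip : Bi.{u} where
  K m n := B.K n m
  ge m n := B.ge n m
  h m n := B.v n m
  v m n := B.h n m
  hh m n := B.vv n m
  vv m n := B.hh n m
  comm m n := (B.comm n m).symm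

/-- a slice -/
def slice (n : ℕ) : Cols.{u} where
  K m := B.K m n
  ge m := B.ge m n
  dh m := B.h m n
  dh_dh m := B.hh m n

lemma fil_d_eq (C : Cols.{u}) {q q' : ℤ} (h : q + 1 = q') (s : C.tot.X q) :
    (C.tot.d q q' s : C.sub ⊤ q').1 = C.D (Subtype.val s) := by
  subst h
  exact C.fil_d ⊤ q s

/-- the map of total complexes of slices -/
def totV (n : ℕ) : (B.slice n).tot ⟶ (B.slice (n + 1)).tot where
  f q := AddCommGrpCat.ofHom (AddMonoidHom.mk'
    (fun s => (⟨mapPre (C := B.slice n) (C' := B.slice (n + 1)) (fun m => B.v m n) s.1, mapPre_mem _ s.2⟩ :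
      (B.slice (n + 1)).sub ⊤ q))
    fun a b => Subtype.ext (map_add (mapPre (C := B.slice n) (C' := B.slice (n + 1)) fun m => B.v m n) a.1 b.1))
  comm' q q' hq := AddCommGrpCat.ext fun s => Subtype.ext ((fil_d_eq _ hq _).trans
    (Eq.trans (mapPre_D _ (fun m => (B.comm m n).symm) _).symm
      (congrArg (mapPre (C := B.slice n) (C' := B.slice (n + 1)) fun m => B.v m n) (fil_d_eq _ hq s).symm)))

lemma isStrictlyGE_tot (C : Cols.{u}) : C.tot.IsStrictlyGE 0 := by
  rw [CochainComplex.isStrictlyGE_iff]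
  intro i hi
  haveI : Subsingleton (C.tot.X i) := ⟨fun a b => Subtype.ext (funext fun p => funext fun q => by
    by_cases hq : q < 0
    · exact (C.eq_zero_of_neg _ p hq).trans (C.eq_zero_of_neg _ p hq).symm
    · exact (a.2 p q (Or.inl (by omega))).trans (b.2 p q (Or.inl (by omega))).symm)⟩
  exact AddCommGrpCat.isZero_of_subsingleton _

/-- the double complex of total complexes -/
def outer : Cols.{u} where
  K n := (B.slice n).tot
  ge n := isStrictlyGE_tot _
  dh n := B.totV n
  dh_dh n := HomologicalComplex.hom_ext _ _ fun q => AddCommGrpCat.ext fun s => Subtype.ext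
    (funext fun m => funext fun r =>
      ConcreteCategory.congr_hom (congrArg (fun φ => HomologicalComplex.Hom.f φ r) (B.vv m n)) _)

/-- the components of a family of total complexes -/
def el (x : B.outer.Pre) (m n : ℕ) (k q : ℤ) : (B.K m n).X q := (show (B.slice n).sub ⊤ k from x n k).1 m q

lemma el_add (a b : B.outer.Pre) (m n : ℕ) (k q : ℤ) : B.el (a + b) m n k q = B.el a m n k q + B.el b m n k q := rfl

lemma el_zero (x : B.outer.Pre) {m : ℕ} (n : ℕ) {k q : ℤ} (h : (m : ℤ) + q ≠ k) : B.el x m n k q = 0 :=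
  (show (B.slice n).sub ⊤ k from x n k).2 m q (Or.inl h)

lemma el_ext {x y : B.outer.Pre} (h : ∀ m n k q, B.el x m n k q = B.el y m n k q) : x = y :=
  funext fun n => funext fun k => Subtype.ext (funext fun m => funext fun q => h m n k q)

/-- the sign of the exchange -/
def ε (m n : ℕ) : ℤ := (-1) ^ (m * n)

/-- the exchange of the two directions -/
def σ : B.outer.Pre →+ B.flip.outer.Pre :=
  AddMonoidHom.mk' (fun x m k => (⟨fun n q => if (n : ℤ) + q = k then ε m n • B.el x m n ((m : ℤ) + q) q else 0,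
      fun n q h => by
        rcases h with h | h
        · exact if_neg h
        · simp at h⟩ : (B.flip.slice m).sub ⊤ k))
    fun a b => funext fun m => funext fun k => Subtype.ext (funext fun n => funext fun q => by
      show (if (n : ℤ) + q = k then ε m n • B.el (a + b) m n ((m : ℤ) + q) q else 0) =
        (if (n : ℤ) + q = k then ε m n • B.el a m n ((m : ℤ) + q) q else 0) +
          (if (n : ℤ) + q = k then ε m n • B.el b m n ((m : ℤ) + q) q else 0)
      rw [el_add]
      split_ifs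
      · exact smul_add _ _ _
      · exact (add_zero _).symm)

lemma σ_apply (x : B.outer.Pre) (m : ℕ) (k : ℤ) (n : ℕ) (q : ℤ) (h : (n : ℤ) + q = k) :
    B.flip.el (B.σ x) n m k q = (show (B.K m n).X q from ε m n • B.el x m n ((m : ℤ) + q) q) := if_pos h

lemma σ_mem {j : ℤ} {x : B.outer.Pre} (hx : x ∈ B.outer.sub ⊤ j) : B.σ x ∈ B.flip.outer.sub ⊤ j := by
  intro m k h
  rcases h with h | h
  · refine Subtype.ext (funext fun n => funext fun q => ?_)
    by_cases hq : (n : ℤ) + q = k
    · refine (B.σ_apply x m k n q hq).trans ?_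
      have e : B.el x m n ((m : ℤ) + q) q = 0 :=
        congrArg (fun z : (B.slice n).sub ⊤ ((m : ℤ) + q) => z.1 m q) (hx n ((m : ℤ) + q) (Or.inl (by omega)))
      rw [e]
      exact smul_zero _
    · exact B.flip.el_zero (B.σ x) m hq
  · simp at h

lemma ε_mul_self (m n : ℕ) : ε m n * ε m n = 1 := by
  rw [ε, ← mul_pow]
  simp

lemma σ_σ (x : B.outer.Pre) : B.flip.σ (B.σ x) = x := by
  refine B.el_ext fun m n k q => ?_
  by_cases hq : (m : ℤ) + q = k
  · subst hq
    refine (B.flip.σ_apply (B.σ x) n _ m q rfl).trans ?_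
    refine (congrArg (fun z : (B.K m n).X q => ε n m • z) (B.σ_apply x m _ n q rfl)).trans ?_
    refine (smul_smul (ε n m) (ε m n) (B.el x m n ((m : ℤ) + q) q)).trans ?_
    rw [show ε n m = ε m n by simp [ε, mul_comm], ε_mul_self, one_smul]
  · exact (B.el_zero (B.flip.σ (B.σ x)) n hq).trans (B.el_zero x n hq).symm

/-- the sign of a column -/
abbrev sg (m : ℕ) : ℤ := ((-(m : ℤ)).negOnePow : ℤˣ)

lemma sg_eq (m : ℕ) : sg m = (-1) ^ m := by
  simp [sg, Int.negOnePow_neg, Int.negOnePow_def]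

lemma ε_succ_left (m n : ℕ) : ε (m + 1) n = ε m n * sg n := by
  rw [sg_eq, ε, ε, ← pow_add]
  ring_nf

lemma ε_succ_right (m n : ℕ) : ε m (n + 1) = ε m n * sg m := by
  rw [sg_eq, ε, ε, ← pow_add]
  ring_nf

lemma sg_mul_self (m : ℕ) : sg m * sg m = 1 := by
  rw [sg_eq, ← mul_pow]
  simp

/-- the part of the total differential coming from the first direction -/
def pH (x : B.outer.Pre) : ∀ (m n : ℕ) (q : ℤ), (B.K m n).X q
  | 0, _, _ => 0
  | m + 1, n, q => (B.h m n).f q (B.el x m n ((m : ℤ) + q) q)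

/-- the part of the total differential coming from the second direction -/
def pV (x : B.outer.Pre) : ∀ (m n : ℕ) (q : ℤ), (B.K m n).X q
  | _, 0, _ => 0
  | m, n + 1, q => (B.v m n).f q (B.el x m n ((m : ℤ) + q) q)

/-- the vertical part of the total differential -/
def pD (x : B.outer.Pre) (m n : ℕ) (q : ℤ) : (B.K m n).X q :=
  (B.K m n).d (q - 1) q (B.el x m n ((m : ℤ) + (q - 1)) (q - 1))

lemma slice_D (n : ℕ) (x : B.outer.Pre) (m : ℕ) (q k : ℤ) (hk : k = (m : ℤ) + q - 1) :
    (show (B.K m n).X q from (B.slice n).D (show (B.slice n).sub ⊤ k from x n k).1 m q) =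
      B.pH x m n q + sg m • B.pD x m n q := by
  have e : ∀ (m' : ℕ) (q' k' : ℤ), k' = (m' : ℤ) + q' → B.el x m' n k' q' = B.el x m' n ((m' : ℤ) + q') q' := by
    rintro m' q' _ rfl; rfl
  obtain _ | m := m
  · refine (Cols.D_zero _ _ q).trans ?_
    show (B.K 0 n).d (q - 1) q (B.el x 0 n k (q - 1)) = (0 : (B.K 0 n).X q) + sg 0 • B.pD x 0 n q
    rw [e 0 (q - 1) k (by rw [hk]; push_cast; ring), zero_add, sg_eq, pow_zero, one_smul]
    rfl
  · refine (Cols.D_succ _ _ m q).trans ?_
    show (B.h m n).f q (B.el x m n k q) + sg (m + 1) • (B.K (m + 1) n).d (q - 1) q (B.el x (m + 1) n k (q - 1)) = _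
    rw [e m q k (by rw [hk]; push_cast; ring), e (m + 1) (q - 1) k (by rw [hk]; push_cast; ring)]
    rfl

lemma outer_D (x : B.outer.Pre) (m n : ℕ) (q k : ℤ) (hk : k = (m : ℤ) + q) :
    B.el (B.outer.D x) m n k q = B.pV x m n q + sg n • (B.pH x m n q + sg m • B.pD x m n q) := by
  subst hk
  obtain _ | n := n
  · have h1 := congrArg (fun z : (B.slice 0).sub ⊤ ((m : ℤ) + q) => z.1 m q) (Cols.D_zero B.outer x ((m : ℤ) + q))
    have h2 := (congrFun (congrFun (fil_d_eq (B.slice 0) (show (m : ℤ) + q - 1 + 1 = (m : ℤ) + q by ring)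
      (x 0 ((m : ℤ) + q - 1))) m) q).trans (B.slice_D 0 x m q _ rfl)
    refine (h1.trans h2).trans ?_
    show B.pH x m 0 q + sg m • B.pD x m 0 q = (0 : (B.K m 0).X q) + sg 0 • (B.pH x m 0 q + sg m • B.pD x m 0 q)
    rw [zero_add, sg_eq 0, pow_zero, one_smul]
  · have h1 := congrArg (fun z : (B.slice (n + 1)).sub ⊤ ((m : ℤ) + q) => z.1 m q) (Cols.D_succ B.outer x n ((m : ℤ) + q))
    have h2 := (congrFun (congrFun (fil_d_eq (B.slice (n + 1)) (show (m : ℤ) + q - 1 + 1 = (m : ℤ) + q by ring)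
      (x (n + 1) ((m : ℤ) + q - 1))) m) q).trans (B.slice_D (n + 1) x m q _ rfl)
    refine h1.trans ?_
    exact congrArg (fun z : (B.K m (n + 1)).X q => B.pV x m (n + 1) q + sg (n + 1) • z) h2

lemma σ_D (x : B.outer.Pre) : B.flip.outer.D (B.σ x) = B.σ (B.outer.D x) := by
  refine B.flip.el_ext fun n m k q => ?_
  by_cases hq : (n : ℤ) + q = k
  swap
  · exact (B.flip.el_zero _ m hq).trans (B.flip.el_zero _ m hq).symm
  have eV : (show (B.K m n).X q from B.flip.pV (B.σ x) n m q) = (ε m n * sg n) • B.pH x m n q := by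
    obtain _ | m := m
    · exact (smul_zero (A := (B.K 0 n).X q) _).symm
    · show (B.h m n).f q (B.flip.el (B.σ x) n m ((n : ℤ) + q) q) = _
      refine (congrArg ((B.h m n).f q) (B.σ_apply x m _ n q rfl)).trans ((map_zsmul ((B.h m n).f q).hom _ _).trans ?_)
      rw [ε_succ_left, mul_assoc, sg_mul_self, mul_one]
      rfl
  have eH : (show (B.K m n).X q from B.flip.pH (B.σ x) n m q) = (ε m n * sg m) • B.pV x m n q := by
    obtain _ | n := n
    · exact (smul_zero (A := (B.K m 0).X q) _).symm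
    · show (B.v m n).f q (B.flip.el (B.σ x) n m ((n : ℤ) + q) q) = _
      refine (congrArg ((B.v m n).f q) (B.σ_apply x m _ n q rfl)).trans ((map_zsmul ((B.v m n).f q).hom _ _).trans ?_)
      rw [ε_succ_right, mul_assoc, sg_mul_self, mul_one]
      rfl
  have eD : (show (B.K m n).X q from B.flip.pD (B.σ x) n m q) = ε m n • B.pD x m n q :=
    (congrArg ((B.K m n).d (q - 1) q) (B.σ_apply x m _ n (q - 1) rfl)).trans
      (map_zsmul ((B.K m n).d (q - 1) q).hom _ _)
  refine ((B.flip.outer_D (B.σ x) n m q k hq.symm).trans ?_).trans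
    ((B.σ_apply (B.outer.D x) m k n q hq).trans
      (congrArg (fun z : (B.K m n).X q => ε m n • z) (B.outer_D x m n q _ rfl))).symm
  refine (congrArg₂ (fun a b : (B.K m n).X q => a + sg m • b) eV
    (congrArg₂ (fun a b : (B.K m n).X q => a + sg n • b) eH eD)).trans ?_
  show (ε m n * sg n) • B.pH x m n q + sg m • ((ε m n * sg m) • B.pV x m n q + sg n • ε m n • B.pD x m n q) =
    ε m n • (B.pV x m n q + sg n • (B.pH x m n q + sg m • B.pD x m n q))
  simp only [smul_add, ← mul_smul]
  rw [show sg m * (ε m n * sg m) = ε m n by rw [mul_left_comm, sg_mul_self, mul_one],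
    show sg m * (sg n * ε m n) = ε m n * (sg n * sg m) by ring]
  abel

/-- the zero double complex -/
def zeroCols : Cols.{u} where
  K _ := 0
  ge _ := (CochainComplex.isStrictlyGE_iff _ _).2 fun i _ =>
    (HomologicalComplex.eval _ _ i).map_isZero (isZero_zero _)
  dh _ := 0
  dh_dh _ := comp_zero

lemma subsingleton_zero (q : ℤ) : Subsingleton ((0 : CochainComplex AddCommGrpCat.{u} ℤ).X q) :=
  AddCommGrpCat.subsingleton_of_isZero ((HomologicalComplex.eval _ _ q).map_isZero (isZero_zero _))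

lemma tExact_zero : TExact zeroCols.{u} := fun n x _ _ =>
  ⟨0, zero_mem _, funext fun p => funext fun q => (subsingleton_zero q).elim _ _⟩

/-- exactness of a complex, elementwise -/
def Ex (K : CochainComplex AddCommGrpCat.{u} ℤ) : Prop :=
  ∀ (q : ℤ) (k : K.X q), K.d q (q + 1) k = 0 → ∃ w, K.d (q - 1) q w = k

lemma qi_zero_iff (K : CochainComplex AddCommGrpCat.{u} ℤ) :
    QI (0 : K ⟶ (0 : CochainComplex AddCommGrpCat.{u} ℤ)) ↔ Ex K := by
  refine ⟨fun h q k hk => ?_, fun h q k l hk _ => ?_⟩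
  · obtain ⟨w, _, hw, -⟩ := h q k 0 hk ((subsingleton_zero q).elim _ _)
    exact ⟨w, hw⟩
  · obtain ⟨w, hw⟩ := h q k hk
    exact ⟨w, 0, hw, (subsingleton_zero (q - 1)).elim _ _⟩

lemma ex_tot_iff (C : Cols.{u}) : Ex C.tot ↔ TExact C := by
  refine ⟨fun h n x hx hD => ?_, fun h q k hk => ?_⟩
  · obtain ⟨w, hw⟩ := h n ⟨x, hx⟩ (Subtype.ext ((fil_d_eq C rfl _).trans hD))
    exact ⟨w.1, w.2, (fil_d_eq C (by ring) w).symm.trans (congrArg Subtype.val hw)⟩
  · obtain ⟨τ, hτ, e⟩ := h q k.1 k.2 ((fil_d_eq C rfl k).symm.trans (congrArg Subtype.val hk))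
    exact ⟨⟨τ, hτ⟩, Subtype.ext ((fil_d_eq C (by ring) _).trans e)⟩

/-- all columns exact makes the double complex exact -/
theorem tExact_of_cols {C : Cols.{u}} (h : ∀ p, Ex (C.K p)) : TExact C :=
  tExact_of_qi (C := C) (C' := zeroCols) (fun _ => 0) (fun p => comp_zero.trans comp_zero.symm)
    (fun p => (qi_zero_iff _).2 (h p)) tExact_zero

/-- the first column -/
theorem ex_zero {C : Cols.{u}} (h : ∀ p, Ex (C.K (p + 1))) (hC : TExact C) : Ex (C.K 0) :=
  (qi_zero_iff _).1 (qi_zero (C := C) (C' := zeroCols) (fun _ => 0) (fun p => comp_zero.trans comp_zero.symm)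
    (fun p => (qi_zero_iff _).2 (h p)) hC tExact_zero)

/-- a slice is exact as soon as the other slices and all transverse slices are -/
theorem fubini (ha : ∀ n, TExact (B.slice (n + 1))) (hb : ∀ m, TExact (B.flip.slice m)) : TExact (B.slice 0) := by
  refine (ex_tot_iff _).1 (ex_zero (C := B.outer) (fun n => (ex_tot_iff _).2 (ha n)) fun j x hx hD => ?_)
  obtain ⟨t, ht, e⟩ := tExact_of_cols (C := B.flip.outer) (fun m => (ex_tot_iff _).2 (hb m)) j (B.σ x) (B.σ_mem hx)
    (by rw [B.σ_D, hD, map_zero])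
  refine ⟨B.flip.σ t, B.flip.σ_mem ht, ?_⟩
  exact (B.flip.σ_D t).trans ((congrArg B.flip.σ e).trans (B.σ_σ x))

end Bi

end Groth.Agent.FibDescLib
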