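import Groth.Agent.FibDescLib.Fam
import Groth.Agent.FibDescLib.Abstract
import Groth.Agent.CohTopLib.Functors
import Mathlib.CategoryTheory.Adjunction.Unique

/-! # Cohomological descent through the unit -/

set_option autoImplicit false
set_option linter.style.haveILetI false

noncomputable section

universe u

open CategoryTheory CategoryTheory.Limits Opposite TopologicalSpace Simplicial Pseudofunctor.CoGrothendieck FibSite

namespace Groth.Agent.FibDescLib

open Godement

variable {Y : (WithInitial SimplexCategory)ᵒᵖ ⥤ TopCat.{u}}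

lemma ofPush_mapUnit {G G' : BS Y} (φ : G ⟶ G') (p : SimplexCategory) (H : DS Y) (ψ : G' ⟶ (pushA Y).obj H) :
    ofPush G (φ ≫ ψ) p = (CohTop.pull (augMap Y p)).map φ ≫ ofPush G' ψ p := by
  refine Eq.trans ?_ ((adj (augMap Y p)).homEquiv_naturality_left_symm φ (pushTerm G' ψ p))
  exact congrArg ((adj (augMap Y p)).homEquiv G (restrP H p)).symm
    (CategoryTheory.Sheaf.hom_ext (NatTrans.ext (funext fun V => rfl)))

variable (Y) in
/-- the inverse image functor -/
def famF : BS Y ⥤ DS Y :=
  Adjunction.leftAdjointOfEquiv (F_obj := fun G => fam G) (fun G H => famHomEquiv G H) fun G H H' g h => by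
    show famUnit G ≫ (pushA Y).map (h ≫ g) = (famUnit G ≫ (pushA Y).map h) ≫ (pushA Y).map g
    rw [Functor.map_comp]
    exact (Category.assoc _ _ _).symm

variable (Y) in
/-- its adjunction -/
def famAdj : famF Y ⊣ pushA Y := Adjunction.adjunctionOfEquivLeft _ _

lemma famAdj_unit (G : BS Y) : (famAdj Y).unit.app G = famUnit G := by
  refine ((famAdj Y).homEquiv_id G).symm.trans ?_
  refine ((famAdj Y).homEquiv_unit _ _ _).trans ?_
  rw [CategoryTheory.Functor.map_id]
  refine (Category.comp_id _).trans ?_
  show famUnit G ≫ (pushA Y).map (𝟙 (fam G)) = _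
  rw [CategoryTheory.Functor.map_id]
  exact Category.comp_id _

lemma famF_map_app {G G' : BS Y} (φ : G ⟶ G') (p : SimplexCategory) (W : Opens (Np Y p)) :
    ((famF Y).map φ).hom.app (op (pObj Y p W)) = ((CohTop.pull (augMap Y p)).map φ).hom.app (op W) := by
  show (ofPush G (φ ≫ famUnit G' ≫ (pushA Y).map (𝟙 _)) p).hom.app (op W) = _
  rw [CategoryTheory.Functor.map_id, show famUnit G' ≫ 𝟙 ((pushA Y).obj (fam G')) = famUnit G' from Category.comp_id _,
    ofPush_mapUnit]
  let ι' : pl G' p ⟶ restrP (fam G') p := ⟨(famIso G' p).inv⟩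
  have e : ofPush G' (famUnit G') p = ι' := by
    refine ((adj (augMap Y p)).homEquiv _ _).injective ?_
    rw [ofPush, Equiv.apply_symm_apply, Adjunction.homEquiv_unit]
    exact CategoryTheory.Sheaf.hom_ext (NatTrans.ext (funext fun V => AddCommGrpCat.ext fun s =>
      prj_unitSec G' V.unop s p))
  rw [e]
  exact Category.comp_id (((CohTop.pull (augMap Y p)).map φ).hom.app (op W))

lemma injective_app_of_mono {X : TopCat.{u}} {F G : CohTop.Ab X} (φ : F ⟶ G) [Mono φ] (W : Opens X) :
    Function.Injective (φ.hom.app (op W)) := by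
  haveI : Mono φ.hom := inferInstanceAs (Mono ((sheafToPresheaf _ _).map φ))
  exact (AddCommGrpCat.mono_iff_injective _).1 inferInstance

instance preservesMonomorphisms_famF : (famF Y).PreservesMonomorphisms where
  preserves {G G'} φ hφ := by
    refine CategoryTheory.Sheaf.mono_of_injective _ fun x => ?_
    obtain ⟨⟨⟨p⟩, W⟩⟩ := x
    haveI : PreservesFiniteLimits (CohTop.pull (augMap Y p)) := inferInstance
    have key : ∀ {A B : CohTop.Ab (S₀ Y)} (ψ : A ⟶ B), Mono ψ →
        Function.Injective (((CohTop.pull (augMap Y p)).map ψ).hom.app (op W)) := fun ψ hψ => by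
      haveI := hψ
      exact injective_app_of_mono ((CohTop.pull (augMap Y p)).map ψ) W
    intro a b hab
    exact key φ hφ (((ConcreteCategory.congr_hom (famF_map_app φ p W) a).symm.trans hab).trans
      (ConcreteCategory.congr_hom (famF_map_app φ p W) b))

instance isLeftAdjoint_famF : (famF Y).IsLeftAdjoint := (famAdj Y).isLeftAdjoint

instance preservesFiniteColimits_famF : PreservesFiniteColimits (famF Y) :=
  haveI : PreservesColimitsOfSize.{0, 0} (famF Y) := (famAdj Y).leftAdjoint_preservesColimits
  PreservesColimitsOfSize.preservesFiniteColimits _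

instance additive_famF : (famF Y).Additive :=
  haveI := preservesBinaryBiproducts_of_preservesBinaryCoproducts (famF Y)
  Functor.additive_of_preservesBinaryBiproducts _

instance preservesFiniteLimits_famF : PreservesFiniteLimits (famF Y) :=
  (Functor.preservesFiniteLimits_iff_forall_exact_map_and_mono (famF Y)).2 fun S hS => by
    haveI := hS.mono_f
    exact ⟨((Functor.preservesFiniteColimits_iff_forall_exact_map_and_epi (famF Y)).1 inferInstance S hS).1, inferInstance⟩

variable (Y) in
/-- The unit is an isomorphism and the inverse images are acyclic for the direct image. -/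
def AcycF : Prop := ∀ G : BS Y, IsIso (famUnit G) ∧ GrothSS.IsAcyclicObj (pushA Y) (fam G)

section

attribute [local instance] HasDerivedCategory.standard

lemma isAcyclicObj_of_iso {C D : Type*} [Category C] [Abelian C] [HasInjectiveResolutions C] [Category D] [Abelian D]
    {F : C ⥤ D} [F.Additive] [PreservesFiniteLimits F] {A A' : C} (e : A ≅ A') (h : GrothSS.IsAcyclicObj F A) :
    GrothSS.IsAcyclicObj F A' := fun q => (h q).of_iso ((F.rightDerived (q + 1)).mapIso e).symm

/-- Descent is the unit criterion. -/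
theorem isCohDescentTop_iff : FibDesc.IsCohDescentTop Y ↔ AcycF Y := by
  refine ⟨fun hY G => ?_, fun h => ?_⟩
  · obtain ⟨h₁, h₂, h₃, h₄, h₅, h₆, h⟩ := hY
    have hA := acyc_of_bijective (B := FibDesc.BaseSh (FibDesc.topAug Y) (FibDesc.topAugTop Y) AddCommGrpCat.{u})
      (C := FibDesc.DSh (FibDesc.topAug Y) (FibDesc.topAugTop Y) AddCommGrpCat.{u})
      (FibDesc.adj (FibDesc.topAug Y) (FibDesc.topAugTop Y) AddCommGrpCat.{u}) h G
    let e := (famAdj Y).leftAdjointUniq (FibDesc.adj (FibDesc.topAug Y) (FibDesc.topAugTop Y) AddCommGrpCat.{u})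
    refine ⟨?_, isAcyclicObj_of_iso (e.app G).symm hA.2⟩
    have he := Adjunction.unit_leftAdjointUniq_hom_app (famAdj Y)
      (FibDesc.adj (FibDesc.topAug Y) (FibDesc.topAugTop Y) AddCommGrpCat.{u}) G
    rw [famAdj_unit] at he
    haveI := hA.1
    haveI : IsIso (famUnit G ≫ (pushA Y).map (e.hom.app G)) := he ▸ hA.1
    exact @IsIso.of_isIso_comp_right _ _ _ _ _ (famUnit G) ((pushA Y).map (e.hom.app G))
      ((pushA Y).mapIso (e.app G)).isIso_hom this
  · let adjB := FibDesc.adj (FibDesc.topAug Y) (FibDesc.topAugTop Y) AddCommGrpCat.{u}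
    let e := (famAdj Y).leftAdjointUniq adjB
    haveI hp : PreservesFiniteLimits (FibDesc.pull (FibDesc.topAug Y) (FibDesc.topAugTop Y) AddCommGrpCat.{u}) :=
      preservesFiniteLimits_of_natIso e
    refine ⟨inferInstance, inferInstance, inferInstance, inferInstance, inferInstance, hp, fun K L => ?_⟩
    refine bijective_of_acyc adjB (fun G => ⟨?_, isAcyclicObj_of_iso (e.app G) (h G).2⟩) K L
    rw [← Adjunction.unit_leftAdjointUniq_hom_app (famAdj Y) adjB G, famAdj_unit]
    exact IsIso.comp_isIso' (h G).1 ((pushA Y).mapIso (e.app G)).isIso_hom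

end

end Groth.Agent.FibDescLib
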