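import Groth.Agent.FibDescLib.Map
import Groth.Agent.FibDescLib.Criterion

/-! # Cohomological descent through the Godement double complexes -/

set_option autoImplicit false
set_option linter.style.haveILetI false

noncomputable section

universe u

open CategoryTheory CategoryTheory.Limits Opposite TopologicalSpace Simplicial Pseudofunctor.CoGrothendieck FibSite
open AlgebraicTopology

namespace Groth.Agent.FibDescLib

open Godement SoftSheaf Descent.Rel

section Space

variable {X : TopCat.{u}}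

/-- exactness of sheaves on a space, locally -/
theorem exact_iff_local (S : ShortComplex (CohTop.Ab X)) :
    S.Exact ↔ ∀ (U : Opens X) (x : S.X₂.obj.obj (op U)), S.g.hom.app (op U) x = 0 →
      ∀ s ∈ U, ∃ (V : Opens X) (hV : V ≤ U), s ∈ V ∧ ∃ t, S.f.hom.app (op V) t = S.X₂.obj.map (homOfLE hV).op x := by
  have hk : ∀ (U : Opens X) (t : S.X₁.obj.obj (op U)),
      (kernel.ι S.g).hom.app (op U) ((kernel.lift S.g S.f S.zero).hom.app (op U) t) = S.f.hom.app (op U) t := fun U t =>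
    ConcreteCategory.congr_hom (congrArg (fun m : S.X₁ ⟶ S.X₂ => m.hom.app (op U))
      (kernel.lift_ι S.g S.f S.zero)) t
  rw [S.exact_iff_epi_kernel_lift]
  refine ⟨fun _ U x hx s hs => ?_, fun h => ?_⟩
  · let T : ShortComplex (CohTop.Ab X) := ShortComplex.mk (kernel.ι S.g) S.g (kernel.condition _)
    obtain ⟨z, rfl⟩ := TopCat.Sheaf.sections_exact_of_left_exact (S := T)
      (ShortComplex.exact_of_f_is_kernel _ (kernelIsKernel _)) (inferInstanceAs (Mono (kernel.ι S.g))) x hx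
    have hsurj : TopCat.Presheaf.IsLocallySurjective (kernel.lift S.g S.f S.zero).hom :=
      (CategoryTheory.Sheaf.isLocallySurjective_iff_epi' (φ := kernel.lift S.g S.f S.zero)).2 inferInstance
    obtain ⟨V, hV, ⟨t, ht⟩, hsV⟩ := (TopCat.Presheaf.isLocallySurjective_iff _).1 hsurj U z s hs
    exact ⟨V, hV, hsV, t, ((hk V t).symm.trans (congrArg _ ht)).trans
      (ConcreteCategory.congr_hom ((kernel.ι S.g).hom.naturality (homOfLE hV).op) z)⟩
  · refine (CategoryTheory.Sheaf.isLocallySurjective_iff_epi' (φ := kernel.lift S.g S.f S.zero)).1 ?_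
    refine (TopCat.Presheaf.isLocallySurjective_iff (kernel.lift S.g S.f S.zero).hom).2 fun U z s hs => ?_
    obtain ⟨V, hV, hsV, t, ht⟩ := h U ((kernel.ι S.g).hom.app (op U) z) (ConcreteCategory.congr_hom
      (congrArg (fun m : kernel S.g ⟶ S.X₃ => m.hom.app (op U)) (kernel.condition S.g)) z) s hs
    refine ⟨V, hV, ⟨t, ?_⟩, hsV⟩
    apply QCohBase.CovSystem.app_injective_of_mono (kernel.ι S.g)
    exact ((hk V t).trans ht).trans (ConcreteCategory.congr_hom ((kernel.ι S.g).hom.naturality (homOfLE hV).op) z).symm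

lemma isIso_of_bijective {F F' : CohTop.Ab X} (φ : F ⟶ F')
    (h : ∀ U : Opens X, Function.Bijective (φ.hom.app (op U))) : IsIso φ := by
  haveI : ∀ U, IsIso (φ.hom.app U) := fun U => (ConcreteCategory.isIso_iff_bijective _).2 (h U.unop)
  haveI : IsIso φ.hom := NatIso.isIso_of_isIso_app _
  haveI : IsIso ((sheafToPresheaf _ _).map φ) := this
  exact isIso_of_reflects_iso φ (sheafToPresheaf _ _)

/-- the Godement resolution -/
def resK (F : CohTop.Ab X) : Res F where
  T n := G0 (Qn F n)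
  d n := π (Qn F n) ≫ η (Qn F (n + 1))
  d_d n := by
    refine CategoryTheory.Sheaf.hom_ext (NatTrans.ext (funext fun U => AddCommGrpCat.ext fun s => ?_))
    exact (congrArg ((η (Qn F (n + 2))).hom.app U) (π_η_app (Qn F (n + 1)) U.unop _)).trans (map_zero _)
  flasque n := isFlasque_G0 _
  ι := η F
  inj U := η_app_injective F U
  ι_d := by
    show η (Qn F 0) ≫ π (Qn F 0) ≫ η (Qn F 1) = 0
    rw [← Category.assoc, η_π, zero_comp]
  zero U x hx := (dS_eq_zero_iff F 0 U x).1 hx
  succ n U x hx s hs := exists_local_preimage F n U x hx s hs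

end Space

variable {Y : (WithInitial SimplexCategory)ᵒᵖ ⥤ TopCat.{u}} (G : CohTop.Ab (S₀ Y))

/-- the augmentation on a term -/
def ιI (p : SimplexCategory) : pl G p ⟶ restrP (IX G 0) p :=
  ⟨(famIso G p).inv ≫ Functor.whiskerLeft (ι (FibDesc.part (FibDesc.topAug Y)) (op p)).op (Iι G).hom⟩

lemma ιI_app (p : SimplexCategory) (W : Opens (Np Y p)) (g : (pl G p).obj.obj (op W)) :
    (ιI G p).hom.app (op W) g = (Iι G).hom.app (op (pObj Y p W)) g := rfl

/-- restriction to a term of a morphism -/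
def restrPMap {H H' : DS Y} (φ : H ⟶ H') (p : SimplexCategory) : restrP H p ⟶ restrP H' p :=
  ⟨Functor.whiskerLeft (ι (FibDesc.part (FibDesc.topAug Y)) (op p)).op φ.hom⟩

instance mono_Iι : Mono (Iι G) := mono_of_isLimit_fork (Ires G).isLimitKernelFork

lemma exists_Iι_eq {p : SimplexCategory} {W : Opens (Np Y p)} (x : sec (IX G 0) p W)
    (hx : (Id G 0).hom.app (op (pObj Y p W)) x = 0) :
    ∃ g, (Iι G).hom.app (op (pObj Y p W)) g = x := by
  let S : ShortComplex (DS Y) := ShortComplex.mk (Iι G) (Id G 0) (Iι_Id G)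
  have hS : S.Exact := ShortComplex.exact_of_f_is_kernel _ (Ires G).isLimitKernelFork
  have h := hS.map_of_mono_of_preservesKernel (ev Y (op (pObj Y p W))) (inferInstanceAs (Mono (Iι G))) inferInstance
  exact ((S.map (ev Y (op (pObj Y p W)))).ab_exact_iff).1 h x hx

lemma Iι_app_injective {p : SimplexCategory} {W : Opens (Np Y p)} :
    Function.Injective ((Iι G).hom.app (op (pObj Y p W))) := by
  haveI : Mono ((ev Y (op (pObj Y p W))).map (Iι G)) := inferInstance
  exact (AddCommGrpCat.mono_iff_injective _).1 this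

/-- the injective resolution on a term -/
def resI (p : SimplexCategory) : Res (pl G p) where
  T n := restrP (IX G n) p
  d n := restrPMap (Id G n) p
  d_d n := CategoryTheory.Sheaf.hom_ext (congrArg (Functor.whiskerLeft _)
    (congrArg (fun m : IX G n ⟶ IX G (n + 1 + 1) => m.hom) ((Ires G).cocomplex.d_comp_d n (n + 1) (n + 1 + 1))))
  flasque n := isFlasque_restrP (IX G n) p
  ι := ιI G p
  inj U := Iι_app_injective G
  ι_d := CategoryTheory.Sheaf.hom_ext (NatTrans.ext (funext fun W => AddCommGrpCat.ext fun g =>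
    ConcreteCategory.congr_hom (congrArg (fun m : fam G ⟶ IX G 1 => m.hom.app (op (pObj Y p W.unop))) (Iι_Id G)) g))
  zero U x hx := exists_Iι_eq G x hx
  succ n U x hx s hs := by
    obtain ⟨V, hV, hsV, t, ht⟩ := (exact_iff_locIm _).1 ((Ires G).exact_succ n) p U x hx s hs
    exact ⟨V, hV, hsV, t, ht.trans (restrP_map (IX G (n + 1)) hV x).symm⟩

/-- the comparison on a term -/
def fTerm (p : SimplexCategory) (n : ℕ) : (resK (pl G p)).T n ⟶ (resI G p).T n :=
  ⟨(godIso G p n).inv ≫ Functor.whiskerLeft (ι (FibDesc.part (FibDesc.topAug Y)) (op p)).op (fK G n).hom⟩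

lemma qin_fNat (p : SimplexCategory) (W : Opens (Np Y p)) : QIN ((fNat G).app (op (pObj Y p W))) := by
  have h := Res.qin (resK (pl G p)) (resI G p) (fTerm G p)
    (fun n => CategoryTheory.Sheaf.hom_ext (NatTrans.ext (funext fun U => AddCommGrpCat.ext fun s => by
      refine (ConcreteCategory.congr_hom (congrArg (fun m : God G n ⟶ IX G (n + 1) =>
        m.hom.app (op (pObj Y p U.unop))) (fK_comm G n)) s).trans ?_
      exact congrArg ((fK G (n + 1)).hom.app (op (pObj Y p U.unop))) (godD_apply G n s))))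
    (CategoryTheory.Sheaf.hom_ext (NatTrans.ext (funext fun U => AddCommGrpCat.ext fun g =>
      ConcreteCategory.congr_hom (congrArg (fun m : fam G ⟶ IX G 0 => m.hom.app (op (pObj Y p U.unop))) (godη_fK0 G)) g)))
    W
  have hd : ∀ n (k : SG (pl G p) n W), ((godPre G).obj (op (pObj Y p W))).d n (n + 1) k = dS (pl G p) n W k :=
    fun n k => ConcreteCategory.congr_hom (cxU_d (pl G p) W n) k
  exact ⟨fun k hk hk' => h.1 k ((hd 0 k).symm.trans hk) hk',
    fun k l hk hkl => by
      obtain ⟨w, hw, hw'⟩ := h.2.1 k l ((hd 1 k).symm.trans hk) hkl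
      exact ⟨w, (hd 0 w).trans hw, hw'⟩,
    fun n k l hk hkl => by
      obtain ⟨w, v, hw, hv⟩ := h.2.2 n k l ((hd (n + 2) k).symm.trans hk) hkl
      exact ⟨w, v, (hd (n + 1) w).trans hw, hv⟩⟩

lemma qi_γ (V : Opens (S₀ Y)) (p : ℕ) : QI (γ G V (p + 1)) := qi_ext _ (qin_fNat G ⦋p⦌ (preA V ⦋p⦌))

theorem tExact_colsK_iff (V : Opens (S₀ Y)) : TExact (colsK G V) ↔ QIN (β G V) := by
  refine ⟨fun h => qin_of_qi _ (qi_zero (γ G V) (γ_dh G V) (qi_γ G V) h (tExact_colsI G V)), fun h => ?_⟩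
  refine tExact_of_qi (γ G V) (γ_dh G V) (fun p => ?_) (tExact_colsI G V)
  rcases p with _ | p
  · exact qi_ext _ h
  · exact qi_γ G V p

/-- the unit at the identity -/
def uBase : G ⟶ FP G (baseO (Y := Y)) := (adj (baseO (Y := Y)).hom).unit.app G

instance isIso_uBase : IsIso (uBase G) := by
  haveI : (CohTop.pull (𝟙 (S₀ Y))).Full := Functor.Full.of_iso pullIdIso.symm
  haveI : (CohTop.pull (𝟙 (S₀ Y))).Faithful := Functor.Faithful.of_iso pullIdIso.symm
  exact inferInstanceAs (IsIso ((adj (𝟙 (S₀ Y))).unit.app G))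

/-- the augmentation over the base -/
def jBase : G ⟶ (pushA Y).obj (IX G 0) := famUnit G ≫ (pushA Y).map (Iι G)

lemma β_η (V : Opens (S₀ Y)) (g : G.obj.obj (op V)) :
    (β G V).f 0 ((η (FP G (baseO (Y := Y)))).hom.app (op V) ((uBase G).hom.app (op V) g)) =
      (jBase G).hom.app (op V) g := by
  refine prj_ext (IX G 0) V ?_
  refine Eq.trans (εN_βf G V 0 _) ?_
  refine Eq.trans ?_ (prj_app (fam G) V (Iι G) le_rfl _).symm
  refine Eq.trans ?_ (congrArg ((Iι G).hom.app (op (pObj Y ⦋0⦌ (preA V ⦋0⦌)))) (prj_unitSec G V g ⦋0⦌)).symm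
  refine Eq.trans ?_ (ConcreteCategory.congr_hom (congrArg (fun m : fam G ⟶ IX G 0 => m.hom.app (op (pObj Y ⦋0⦌ (preA V ⦋0⦌))))
    (godη_fK0 G)) (unitAt G ⦋0⦌ V g))
  refine congrArg ((fK G 0).hom.app (op (pObj Y ⦋0⦌ (preA V ⦋0⦌)))) ?_
  have key : ∀ (a' : Np Y ⦋0⦌ ⟶ S₀ Y) (w : augMap Y ⦋0⦌ ≫ (baseO (Y := Y)).hom = a') (y : Np Y ⦋0⦌)
      (hy : augMap Y ⦋0⦌ y ∈ V) (hy' : a' y ∈ V),
      germ ((CohTop.pull a').obj G) _ y hy ((coh G (augMap Y ⦋0⦌) w).app V ((uBase G).hom.app (op V) g)) =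
        germ ((CohTop.pull a').obj G) _ y hy'
          (Coh.app (g := a') (F := G) (F' := (CohTop.pull a').obj G) ((adj a').unit.app G) V g) := by
    rintro a' rfl y hy hy'
    exact congrArg (germ ((CohTop.pull (augMap Y ⦋0⦌ ≫ (baseO (Y := Y)).hom)).obj G) _ y hy) (ConcreteCategory.congr_hom
      (congrArg (fun m : G ⟶ (CohTop.push (augMap Y ⦋0⦌ ≫ (baseO (Y := Y)).hom)).obj _ => m.hom.app (op V))
        (unit_cohOf G (baseO (Y := Y)).hom (augMap Y ⦋0⦌))) g)
  refine funext fun y => ?_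
  refine ((coh G (toBase ((nrv Y).obj (op ⦋0⦌))).left (Over.w (toBase ((nrv Y).obj (op ⦋0⦌))))).stalk_germ V y.1 y.2
    ((uBase G).hom.app (op V) g)).trans ?_
  exact key (augMap Y ⦋0⦌) (Over.w (toBase ((nrv Y).obj (op ⦋0⦌)))) y.1 y.2 y.2

end Groth.Agent.FibDescLib
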