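import Groth.Agent.FibDescLib.Fam
import Groth.Agent.Descent.Cosimp
import Mathlib.Topology.Sheaves.SheafCondition.UniqueGluing

/-! # Cofree sheaves on the total site, and the shape of injective sheaves -/

set_option autoImplicit false
set_option linter.style.haveILetI false

noncomputable section

universe u

open CategoryTheory CategoryTheory.Limits Opposite TopologicalSpace Simplicial Pseudofunctor.CoGrothendieck FibSite
open AlgebraicTopology

namespace Groth.Agent.FibDescLib

open Godement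

variable {Y : (WithInitial SimplexCategory)ᵒᵖ ⥤ TopCat.{u}} (H : DS Y)

/-- the families of germs -/
abbrev CSec (p : SimplexCategory) (W : Opens (Np Y p)) : Type u :=
  ∀ (q : SimplexCategory) (α : p ⟶ q) (y : ((Opens.map (face Y α)).obj W : Opens (Np Y q))),
    CohTop.stalk (restrP H q) y.1

lemma mem_comp {p p' q : SimplexCategory} {g : p ⟶ p'} {α : p' ⟶ q} {W : Opens (Np Y p)} {W' : Opens (Np Y p')}
    (h : W' ≤ (Opens.map (face Y g)).obj W) {y : Np Y q} (hy : face Y α y ∈ W') : face Y (g ≫ α) y ∈ W := by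
  rw [face_comp]
  exact h hy

/-- transition of the families -/
def cTr {p p' : SimplexCategory} (g : p ⟶ p') {W : Opens (Np Y p)} {W' : Opens (Np Y p')}
    (h : W' ≤ (Opens.map (face Y g)).obj W) : CSec H p W →+ CSec H p' W' :=
  AddMonoidHom.mk' (fun s q α y => s q (g ≫ α) ⟨y.1, mem_comp h y.2⟩) fun _ _ => rfl

lemma cSec_congr {p q : SimplexCategory} {W : Opens (Np Y p)} (s : CSec H p W) {α α' : p ⟶ q} (e : α = α')
    (y : Np Y q) (hy : face Y α y ∈ W) (hy' : face Y α' y ∈ W) : s q α ⟨y, hy⟩ = s q α' ⟨y, hy'⟩ := by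
  subst e; rfl

/-- the presheaf of the families -/
def cofreePre : (P0 Y)ᵒᵖ ⥤ AddCommGrpCat.{u} where
  obj x := AddCommGrpCat.of (CSec H x.unop.base.unop x.unop.fiber)
  map {x y} φ := AddCommGrpCat.ofHom (cTr H φ.unop.base.unop (hom_le φ.unop))
  map_id x := AddCommGrpCat.ext fun s => funext fun q => funext fun α => funext fun y =>
    cSec_congr H s (Category.id_comp α) y.1 _ _
  map_comp {x y z} φ ψ := AddCommGrpCat.ext fun s => funext fun q => funext fun α => funext fun t =>
    cSec_congr H s (Category.assoc _ _ α) t.1 _ _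

lemma isSheaf_cofreePre : Presheaf.IsSheaf (FibDesc.totPart (FibDesc.topAug Y) (FibDesc.topAugTop Y)) (cofreePre H) :=
  (Groth.Agent.FibTop.isSheaf_iff (isPreFibSite_part Y) _).2 fun ⟨p⟩ => by
    show TopCat.Presheaf.IsSheaf (X := Np Y p) ((ι (FibDesc.part (FibDesc.topAug Y)) (op p)).op ⋙ cofreePre H)
    rw [TopCat.Presheaf.isSheaf_iff_isSheafUniqueGluing]
    intro κ U sf hsf
    have hc : ∀ (i j : κ) (q : SimplexCategory) (α : p ⟶ q) (y : Np Y q) (hi : face Y α y ∈ U i) (hj : face Y α y ∈ U j),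
        (sf i : CSec H p (U i)) q α ⟨y, hi⟩ = (sf j : CSec H p (U j)) q α ⟨y, hj⟩ := fun i j q α y hi hj => by
      have h := congrFun (congrFun (congrFun (hsf i j) q) α) ⟨y, hi, hj⟩
      exact (cSec_congr H (sf i : CSec H p (U i)) (Category.id_comp α).symm y hi _).trans
        (h.trans (cSec_congr H (sf j : CSec H p (U j)) (Category.id_comp α) y _ hj))
    refine ⟨fun q α y => (sf (Opens.mem_iSup.1 y.2).choose : CSec H p _) q α ⟨y.1, (Opens.mem_iSup.1 y.2).choose_spec⟩,
      fun i => ?_, fun t ht => ?_⟩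
    · funext q α ⟨y, hy⟩
      have hy' : face Y (𝟙 p ≫ α) y ∈ U i := by rw [Category.id_comp]; exact hy
      exact (hc (Opens.mem_iSup.1 ((le_iSup U i) hy')).choose i q (𝟙 p ≫ α) y
        (Opens.mem_iSup.1 ((le_iSup U i) hy')).choose_spec hy').trans
          (cSec_congr H (sf i : CSec H p (U i)) (Category.id_comp α) y hy' hy)
    · funext q α ⟨y, hy⟩
      have hi := (Opens.mem_iSup.1 hy).choose_spec
      exact (cSec_congr H (t : CSec H p (iSup U)) (Category.id_comp α).symm y hy _).trans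
        (congrFun (congrFun (congrFun (ht (Opens.mem_iSup.1 hy).choose) q) α) ⟨y, hi⟩)

/-- the cofree sheaf -/
def cofree : DS Y := ⟨cofreePre H, isSheaf_cofreePre H⟩

lemma tr_cofree {p p' : SimplexCategory} {g : p ⟶ p'} {W : Opens (Np Y p)} {W' : Opens (Np Y p')}
    (h : W' ≤ (Opens.map (face Y g)).obj W) (s : CSec H p W) : tr (cofree H) g h s = cTr H g h s := rfl

lemma restrP_germ_tr {p : SimplexCategory} {W W' : Opens (Np Y p)} (h : W' ≤ W) (x : sec H p W) (y : Np Y p)
    (hy : y ∈ W') : germ (restrP H p) W' y hy (tr H (𝟙 p) (le_id h) x) = germ (restrP H p) W y (h hy) x := by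
  rw [← restrP_map H h x]
  exact TopCat.Presheaf.germ_res_apply (restrP H p).obj (homOfLE h) y hy x

/-- into the cofree sheaf -/
def toCofree : H ⟶ cofree H :=
  ⟨{ app := fun x => AddCommGrpCat.ofHom (AddMonoidHom.mk'
      (fun (s : sec H x.unop.base.unop x.unop.fiber) =>
        (fun q α y => germ (restrP H q) ((Opens.map (face Y α)).obj x.unop.fiber) y.1 y.2 (tr H α le_rfl s) :
          CSec H x.unop.base.unop x.unop.fiber))
      fun a b => funext fun q => funext fun α => funext fun y => by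
        show germ (restrP H q) _ y.1 y.2 _ = germ (restrP H q) _ y.1 y.2 _ + germ (restrP H q) _ y.1 y.2 _
        exact (congrArg _ (map_add (tr H α le_rfl).hom a b)).trans (map_add _ _ _))
     naturality := fun x x' φ => AddCommGrpCat.ext fun s => funext fun q => funext fun α => funext fun ⟨y, hy⟩ => by
        have hφ : H.obj.map φ s = tr H φ.unop.base.unop (hom_le φ.unop) s :=
          congrArg (fun m => H.obj.map m s) (Quiver.Hom.unop_inj (thin_ext Y rfl))
        show germ (restrP H q) _ y hy (tr H α le_rfl (H.obj.map φ s)) =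
          germ (restrP H q) _ y (mem_comp (hom_le φ.unop) hy) (tr H (φ.unop.base.unop ≫ α) le_rfl s)
        rw [hφ, tr_tr]
        refine Eq.trans ?_ (restrP_germ_tr H (le_comp (hom_le φ.unop) le_rfl) _ y hy)
        rw [tr_tr]
        exact congrArg _ (tr_congr H (Category.comp_id _).symm _ _ s) }⟩

lemma toCofree_app {p : SimplexCategory} {W : Opens (Np Y p)} (s : sec H p W) (q : SimplexCategory) (α : p ⟶ q)
    (y : Np Y q) (hy : face Y α y ∈ W) :
    ((toCofree H).hom.app (op (pObj Y p W)) s : CSec H p W) q α ⟨y, hy⟩ =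
      germ (restrP H q) ((Opens.map (face Y α)).obj W) y hy (tr H α le_rfl s) := rfl

instance mono_toCofree : Mono (toCofree H) := by
  refine CategoryTheory.Sheaf.mono_of_injective _ fun x => ?_
  obtain ⟨⟨⟨p⟩, W⟩⟩ := x
  revert W
  intro (W : Opens (Np Y p)) a b hab
  refine TopCat.Presheaf.section_ext (restrP H p) W a b fun y hy => ?_
  have hy' : face Y (𝟙 p) y ∈ W := le_id le_rfl hy
  have h := congrFun (congrFun (congrFun hab p) (𝟙 p)) ⟨y, hy'⟩
  rw [toCofree_app, toCofree_app] at h
  have e : ∀ s : sec H p W, germ (restrP H p) ((Opens.map (face Y (𝟙 p))).obj W) y hy' (tr H (𝟙 p) le_rfl s) =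
      germ (restrP H p) W y hy s := fun s => by
    have hle : (Opens.map (face Y (𝟙 p))).obj W ≤ W := fun z hz => by
      exact (congrArg (fun f : Np Y p ⟶ Np Y p => f z ∈ W)
        (show face Y (𝟙 p) = 𝟙 _ from congrArg CommaMorphism.left ((nrv Y).map_id (op p)))).mp hz
    exact (congrArg _ (tr_congr H rfl le_rfl (le_id hle) s)).trans (restrP_germ_tr H hle s y hy')
  exact (e a).symm.trans (h.trans (e b))

variable (V : Opens (S₀ Y))

/-- the cosimplicial group of sections over an open of the base -/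
def cosH : CosimplicialObject AddCommGrpCat.{u} where
  obj p := sec H p (preA V p)
  map g := tr H g (preA_face V g)
  map_id p := AddCommGrpCat.ext fun x => tr_id_self H x
  map_comp g g' := AddCommGrpCat.ext fun x => (tr_tr H (preA_face V g) (preA_face V g') x).symm

lemma cosH_δ (p : ℕ) (i : Fin (p + 2)) (x : sec H ⦋p⦌ (preA V ⦋p⦌)) :
    (cosH H V).δ i x = tr H (SimplexCategory.δ i) (preA_face V _) x := rfl

lemma objD_natural {A B : CosimplicialObject AddCommGrpCat.{u}} (φ : A ⟶ B) (p : ℕ) (x : A.obj ⦋p⦌) :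
    φ.app ⦋p + 1⦌ (AlternatingCofaceMapComplex.objD A p x) = AlternatingCofaceMapComplex.objD B p (φ.app ⦋p⦌ x) := by
  rw [Descent.objD_apply, Descent.objD_apply, map_sum]
  refine Finset.sum_congr rfl fun i _ => ?_
  rw [map_zsmul]
  exact congrArg _ (ConcreteCategory.congr_hom (φ.naturality (SimplexCategory.δ i)) x)

/-- functoriality of the sections in the sheaf -/
def cosMap {H' : DS Y} (φ : H ⟶ H') : cosH H V ⟶ cosH H' V where
  app p := φ.hom.app (op (pObj Y p (preA V p)))
  naturality p q g := AddCommGrpCat.ext fun x => app_tr φ (preA_face V g) x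

/-- a morphism after the new initial vertex -/
def cons0 {p : ℕ} {q : SimplexCategory} (α : ⦋p⦌ ⟶ q) : ⦋p + 1⦌ ⟶ q :=
  SimplexCategory.Hom.mk ⟨Fin.cons 0 α.toOrderHom, fun i j hij => by
    induction i using Fin.cases with
    | zero => simp
    | succ i =>
      induction j using Fin.cases with
      | zero => simp at hij
      | succ j => simpa using α.toOrderHom.monotone (Fin.succ_le_succ_iff.1 hij)⟩

lemma δ_zero_cons0 {p : ℕ} {q : SimplexCategory} (α : ⦋p⦌ ⟶ q) : SimplexCategory.δ 0 ≫ cons0 α = α := by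
  refine SimplexCategory.Hom.ext _ _ (OrderHom.ext _ _ (funext fun i => ?_))
  show (Fin.cons 0 α.toOrderHom : Fin (p + 2) → _) (Fin.succAbove 0 i) = _
  rw [Fin.zero_succAbove, Fin.cons_succ]

lemma δ_succ_cons0 {p : ℕ} {q : SimplexCategory} (i : Fin (p + 2)) (α : ⦋p + 1⦌ ⟶ q) :
    SimplexCategory.δ i.succ ≫ cons0 α = cons0 (SimplexCategory.δ i ≫ α) := by
  refine SimplexCategory.Hom.ext _ _ (OrderHom.ext _ _ (funext fun j => ?_))
  show (Fin.cons 0 α.toOrderHom : Fin (p + 3) → _) (Fin.succAbove i.succ j) =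
    (Fin.cons 0 (SimplexCategory.δ i ≫ α).toOrderHom : Fin (p + 2) → _) j
  induction j using Fin.cases with
  | zero => rw [Fin.succ_succAbove_zero, Fin.cons_zero, Fin.cons_zero]
  | succ j =>
    rw [Fin.succ_succAbove_succ, Fin.cons_succ, Fin.cons_succ]
    rfl

lemma face_preA {p q : SimplexCategory} (α : p ⟶ q) {y : Np Y q} :
    face Y α y ∈ preA V p ↔ y ∈ preA V q := by
  show augMap Y p (face Y α y) ∈ V ↔ augMap Y q y ∈ V
  rw [show augMap Y p (face Y α y) = augMap Y q y from ConcreteCategory.congr_hom (Over.w ((nrv Y).map α.op)) y]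

/-- the extra degeneracy -/
def hC (p : ℕ) : sec (cofree H) ⦋p + 1⦌ (preA V ⦋p + 1⦌) →+ sec (cofree H) ⦋p⦌ (preA V ⦋p⦌) :=
  AddMonoidHom.mk' (fun (s : CSec H ⦋p + 1⦌ (preA V ⦋p + 1⦌)) => (fun q α y =>
    s q (cons0 α) ⟨y.1, (face_preA V _).2 ((face_preA V α).1 y.2)⟩ : CSec H ⦋p⦌ (preA V ⦋p⦌))) fun _ _ => rfl

theorem exact_of_h (A : CosimplicialObject AddCommGrpCat.{u}) (h : ∀ p, A.obj ⦋p + 1⦌ →+ A.obj ⦋p⦌)
    (h3 : ∀ p (x : A.obj ⦋p⦌), h p (A.δ 0 x) = x)
    (h4 : ∀ p (i : Fin (p + 2)) (x : A.obj ⦋p + 1⦌), h (p + 1) (A.δ i.succ x) = A.δ i (h p x))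
    (p : ℕ) (x : A.obj ⦋p + 1⦌) (hx : AlternatingCofaceMapComplex.objD A (p + 1) x = 0) :
    ∃ w, AlternatingCofaceMapComplex.objD A p w = x := by
  refine ⟨h p x, ?_⟩
  have := congrArg (h (p + 1)) hx
  rw [Descent.objD_apply, map_sum, Fin.sum_univ_succ, map_zero] at this
  simp only [map_zsmul, map_neg, h3, h4, Fin.val_zero, pow_zero, one_smul, Fin.val_succ, pow_succ,
    mul_neg, mul_one, neg_smul, Finset.sum_neg_distrib] at this
  rw [Descent.objD_apply]
  exact (add_neg_eq_zero.1 this).symm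

theorem exact_cofree (p : ℕ) (x : sec (cofree H) ⦋p + 1⦌ (preA V ⦋p + 1⦌))
    (hx : AlternatingCofaceMapComplex.objD (cosH (cofree H) V) (p + 1) x = 0) :
    ∃ w, AlternatingCofaceMapComplex.objD (cosH (cofree H) V) p w = x := by
  have h3 : ∀ k (z : sec (cofree H) ⦋k⦌ (preA V ⦋k⦌)), hC H V k ((cosH (cofree H) V).δ 0 z) = z := fun k z =>
    funext fun q => funext fun α => funext fun y =>
      cSec_congr H (z : CSec H ⦋k⦌ _) (δ_zero_cons0 α) y.1 _ y.2
  have h4 : ∀ k (i : Fin (k + 2)) (z : sec (cofree H) ⦋k + 1⦌ (preA V ⦋k + 1⦌)),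
      hC H V (k + 1) ((cosH (cofree H) V).δ i.succ z) = (cosH (cofree H) V).δ i (hC H V k z) := fun k i z =>
    funext fun q => funext fun α => funext fun y =>
      cSec_congr H (z : CSec H ⦋k + 1⦌ _) (δ_succ_cons0 i α) y.1 _ _
  exact exact_of_h (cosH (cofree H) V) (hC H V) h3 h4 p x hx

variable (I : DS Y) [Injective I]

/-- the retraction of the cofree sheaf onto an injective sheaf -/
abbrev retr : cofree I ⟶ I := Injective.factorThru (𝟙 I) (toCofree I)

lemma retr_app {p : SimplexCategory} {W : Opens (Np Y p)} (x : sec I p W) :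
    (retr I).hom.app (op (pObj Y p W)) ((toCofree I).hom.app (op (pObj Y p W)) x) = x :=
  ConcreteCategory.congr_hom (congrArg (fun m : I ⟶ I => m.hom.app (op (pObj Y p W)))
    (Injective.comp_factorThru (𝟙 I) (toCofree I))) x

/-- injective sheaves are flasque on the terms -/
theorem isFlasque_restrP (p : SimplexCategory) : TopCat.Sheaf.IsFlasque (restrP I p) := by
  classical
  refine ⟨fun {U W} i => (AddCommGrpCat.epi_iff_surjective _).2 fun s => ?_⟩
  have hle : (W.unop : Opens (Np Y p)) ≤ U.unop := i.unop.le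
  let z : CSec I p W.unop := (toCofree I).hom.app (op (pObj Y p W.unop)) s
  let z' : CSec I p U.unop := fun q α y => if h : face Y α y.1 ∈ W.unop then z q α ⟨y.1, h⟩ else 0
  refine ⟨(retr I).hom.app (op (pObj Y p U.unop)) z', ?_⟩
  refine (restrP_map I hle _).trans ?_
  refine (app_tr (retr I) (le_id hle) z').symm.trans ?_
  refine (congrArg ((retr I).hom.app (op (pObj Y p W.unop))) ?_).trans (retr_app I s)
  funext q α ⟨y, hy⟩
  exact (cSec_congr I z' (Category.id_comp α) y _ (hle hy)).trans (dif_pos hy)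

/-- the rows of an injective sheaf are exact -/
theorem augExact_cosH : Descent.AugExact (cosH I V) (prj I V (le_refl (preA V ⦋0⦌))) where
  inj a b h := prj_ext I V h
  exact₀ x hx := exists_prj I V x (by
    rw [Descent.objD_apply, Fin.sum_univ_two, cosH_δ, cosH_δ] at hx
    simp [add_neg_eq_zero] at hx
    exact hx)
  exact p x hx := by
    obtain ⟨w, hw⟩ := exact_cofree I V p ((cosMap I V (toCofree I)).app ⦋p + 1⦌ x)
      ((objD_natural (cosMap I V (toCofree I)) (p + 1) x).symm.trans
        ((congrArg ((cosMap I V (toCofree I)).app ⦋p + 1 + 1⦌) hx).trans (map_zero _)))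
    exact ⟨(cosMap (cofree I) V (retr I)).app ⦋p⦌ w, (objD_natural (cosMap (cofree I) V (retr I)) p w).symm.trans
      ((congrArg ((cosMap (cofree I) V (retr I)).app ⦋p + 1⦌) hw).trans (retr_app I x))⟩

end Groth.Agent.FibDescLib
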