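import Groth.Agent.FibDescLib.Bi
import Groth.Agent.FibDescLib.BaseChange
import Mathlib.AlgebraicTopology.SimplicialObject.ChainHomotopy

/-! # Functoriality of the augmented double complexes in the simplicial space -/

set_option autoImplicit false
set_option backward.isDefEq.respectTransparency false
set_option linter.style.haveILetI false

noncomputable section

universe u

open CategoryTheory CategoryTheory.Limits Opposite Simplicial AlgebraicTopology

namespace Groth.Agent.FibDescLib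

open ColSS Descent Descent.Rel

section TotMap

variable {C C' C'' : Cols.{u}} (f : ∀ p, C.K p ⟶ C'.K p) (hf : ∀ p, f p ≫ C'.dh p = C.dh p ≫ f (p + 1))

/-- the map of total complexes -/
def totMap : C.tot ⟶ C'.tot where
  f q := AddCommGrpCat.ofHom (AddMonoidHom.mk' (fun s => (⟨mapPre f s.1, mapPre_mem f s.2⟩ : C'.sub ⊤ q))
    fun a b => Subtype.ext (map_add (mapPre f) a.1 b.1))
  comm' q q' hq := AddCommGrpCat.ext fun s => Subtype.ext ((Bi.fil_d_eq _ hq _).trans
    (Eq.trans (mapPre_D f hf _).symm (congrArg (mapPre f) (Bi.fil_d_eq _ hq s).symm)))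

lemma mapPre_comp (g : ∀ p, C'.K p ⟶ C''.K p) (x : C.Pre) : mapPre g (mapPre f x) = mapPre (fun p => f p ≫ g p) x := rfl

lemma mapPre_id (x : C.Pre) : mapPre (fun p => 𝟙 (C.K p)) x = x := rfl

/-- elementwise data of a homotopy equivalence gives a quasi-isomorphism of total complexes -/
theorem qi_totMap (g : ∀ p, C'.K p ⟶ C.K p) (hg : ∀ p, g p ≫ C.dh p = C'.dh p ≫ g (p + 1))
    (hgf : ∀ p, g p ≫ f p = 𝟙 (C'.K p)) (S : C.Pre →+ C.Pre)
    (hS : ∀ (n : ℤ) (x : C.Pre), x ∈ C.sub ⊤ n → S x ∈ C.sub ⊤ (n - 1))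
    (hSD : ∀ x, C.D (S x) + S (C.D x) = x - mapPre g (mapPre f x)) : QI (totMap f hf) := by
  have hfg : ∀ y : C'.Pre, mapPre f (mapPre g y) = y := fun y =>
    (mapPre_comp g f y).trans ((congrArg (fun φ => mapPre φ y) (funext hgf)).trans (mapPre_id y))
  intro q k l hk hkl
  have hk' : C.D k.1 = 0 := (Bi.fil_d_eq C rfl k).symm.trans (congrArg Subtype.val hk)
  have hkl' : mapPre f k.1 = C'.D l.1 := (congrArg Subtype.val hkl).trans (Bi.fil_d_eq C' (by ring) l)
  let w₀ := S k.1 + mapPre g l.1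
  have hw₀ : C.D w₀ = k.1 := by
    rw [map_add, ← mapPre_D g hg, ← hkl']
    have := hSD k.1
    rw [hk', map_zero, add_zero] at this
    rw [this, sub_add_cancel]
  have hw₀m : w₀ ∈ C.sub ⊤ (q - 1) := add_mem (hS q k.1 k.2) (mapPre_mem g l.2)
  let w := w₀ - mapPre g (mapPre f (S k.1))
  have hwm : w ∈ C.sub ⊤ (q - 1) := sub_mem hw₀m (mapPre_mem g (mapPre_mem f (hS q k.1 k.2)))
  have hc : C'.D (mapPre f (S k.1)) = 0 := by
    have := hSD k.1
    rw [hk', map_zero, add_zero] at this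
    rw [← mapPre_D f hf, this, map_sub, hfg, sub_self]
  refine ⟨⟨w, hwm⟩, 0, Subtype.ext ((Bi.fil_d_eq C (by ring) _).trans ?_), Subtype.ext ?_⟩
  · show C.D w = k.1
    rw [map_sub, hw₀, ← mapPre_D g hg, hc, map_zero, sub_zero]
  · rw [map_zero, add_zero]
    show mapPre f w = l.1
    rw [map_sub, map_add, hfg, hfg, add_sub_cancel_left]

end TotMap

variable {S : TopCat.{u}} (T : (Over S)ᵒᵖ ⥤ CochainComplex AddCommGrpCat.{u} ℤ) (hT : ∀ P, (T.obj P).IsStrictlyGE 0)

/-- maps of augmented double complexes from maps of simplicial spaces -/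
def colN {N N' : SimplicialObject (Over S)} (φ : N' ⟶ N) : ∀ p, (colsT N T hT).K p ⟶ (colsT N' T hT).K p
  | 0 => 𝟙 _
  | p + 1 => T.map (φ.app (op ⦋p⦌)).op

lemma colN_dh {N N' : SimplicialObject (Over S)} (φ : N' ⟶ N) (p : ℕ) :
    colN T hT φ p ≫ (colsT N' T hT).dh p = (colsT N T hT).dh p ≫ colN T hT φ (p + 1) := by
  rcases p with _ | p
  · refine (Category.id_comp _).trans (Eq.trans ?_ (T.map_comp _ _))
    exact congrArg (fun k => T.map (Quiver.Hom.op k)) (toBase_unique (φ.app (op ⦋0⦌) ≫ toBase _)).symm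
  · exact objD_natural' (Functor.whiskerRight (NatTrans.rightOp φ) T : N.rightOp ⋙ T ⟶ N'.rightOp ⋙ T) p

/-- a column as a functor of the simplicial space -/
def colF (p : ℕ) : (SimplicialObject (Over S))ᵒᵖ ⥤ CochainComplex AddCommGrpCat.{u} ℤ where
  obj N := (colsT N.unop T hT).K p
  map φ := colN T hT φ.unop p
  map_id N := by
    rcases p with _ | p
    · rfl
    · exact T.map_id _
  map_comp φ ψ := by
    rcases p with _ | p
    · exact (Category.id_comp _).symm
    · exact T.map_comp _ _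

/-- the differential of the columns as a natural transformation -/
def dhF (p : ℕ) : colF T hT p ⟶ colF T hT (p + 1) where
  app N := (colsT N.unop T hT).dh p
  naturality _ _ φ := colN_dh T hT φ.unop p

variable {N X : SimplicialObject (Over S)} {φ ψ : N ⟶ X} (H : SimplicialObject.Homotopy φ ψ)

/-- the components of the chain homotopy -/
def hP (p : ℕ) : T.obj (op (X.obj (op ⦋p + 1⦌))) ⟶ T.obj (op (N.obj (op ⦋p⦌))) :=
  (SimplicialObject.Homotopy.ToChainHomotopy.hom (H.whiskerRight T.rightOp) p (p + 1)).unop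

lemma objD_rightOp (K : SimplicialObject (Over S)) (p : ℕ) :
    AlternatingFaceMapComplex.objD (K ⋙ T.rightOp) p = (AlternatingCofaceMapComplex.objD (K.rightOp ⋙ T) p).op := by
  rw [AlternatingCofaceMapComplex.objD, AlternatingFaceMapComplex.objD, op_sum]
  refine Finset.sum_congr rfl fun i _ => ?_
  rw [op_zsmul]
  rfl

/-- the differential of the terms -/
abbrev dX (K : SimplicialObject (Over S)) (p : ℕ) :
    T.obj (op (K.obj (op ⦋p⦌))) ⟶ T.obj (op (K.obj (op ⦋p + 1⦌))) :=
  AlternatingCofaceMapComplex.objD (K.rightOp ⋙ T) p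

lemma alt_d (K : SimplicialObject (Over S)) (p : ℕ) :
    ((alternatingFaceMapComplex _).obj (K ⋙ T.rightOp)).d (p + 1) p = (dX T K p).op :=
  (alternatingFaceMapComplex_obj_d _ p).trans (objD_rightOp T K p)

lemma hP_zero : T.map (φ.app (op ⦋0⦌)).op = dX T X 0 ≫ hP T H 0 + T.map (ψ.app (op ⦋0⦌)).op := by
  have h := (H.whiskerRight T.rightOp).toChainHomotopy.comm 0
  rw [Homotopy.dNext_zero_chainComplex, Homotopy.prevD_chainComplex, zero_add] at h
  refine (congrArg Quiver.Hom.unop h).trans ?_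
  erw [alt_d]
  rfl

lemma hP_succ (p : ℕ) :
    T.map (φ.app (op ⦋p + 1⦌)).op =
      hP T H p ≫ dX T N p + dX T X (p + 1) ≫ hP T H (p + 1) + T.map (ψ.app (op ⦋p + 1⦌)).op := by
  have h := (H.whiskerRight T.rightOp).toChainHomotopy.comm (p + 1)
  rw [Homotopy.dNext_succ_chainComplex, Homotopy.prevD_chainComplex] at h
  refine (congrArg Quiver.Hom.unop h).trans ?_
  erw [alt_d, alt_d]
  rfl

lemma combine {A : Type*} [AddCommGroup A] (s s' : ℤˣ) (hs : s' = -s) (a b c e d : A) (h : a = e + c + b) :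
    (e + s • d) + (c + s' • d) = a - b := by
  subst hs
  rw [h, Units.neg_smul]
  abel

lemma map_zsmul_unit' {A B : Type*} [AddCommGroup A] [AddCommGroup B] (f : A →+ B) (s : ℤˣ) (a : A) :
    f (s • a) = s • f a := by
  rw [Units.smul_def, Units.smul_def, map_zsmul]

lemma negOnePow_step (p : ℕ) : (-((p + 2 : ℕ) : ℤ)).negOnePow = -(-((p + 1 : ℕ) : ℤ)).negOnePow := by
  rw [show -((p + 2 : ℕ) : ℤ) = -((p + 1 : ℕ) : ℤ) - 1 by omega, Int.negOnePow_sub, Int.negOnePow_one]
  simp

/-- the homotopy on total complexes -/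
def sHom : (colsT X T hT).Pre →+ (colsT N T hT).Pre :=
  AddMonoidHom.mk' (fun x p q => match p with
    | 0 => 0
    | p + 1 => (hP T H p).f q (x (p + 2) q))
    fun a b => funext fun p => funext fun q => by
      rcases p with _ | p
      · exact (add_zero _).symm
      · exact map_add ((hP T H p).f q).hom _ _

lemma sHom_zero (x : (colsT X T hT).Pre) (q : ℤ) : sHom T hT H x 0 q = 0 := rfl

lemma sHom_succ (x : (colsT X T hT).Pre) (p : ℕ) (q : ℤ) : sHom T hT H x (p + 1) q = (hP T H p).f q (x (p + 2) q) := rfl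

lemma sHom_mem (n : ℤ) (x : (colsT X T hT).Pre) (hx : x ∈ (colsT X T hT).sub ⊤ n) :
    sHom T hT H x ∈ (colsT N T hT).sub ⊤ (n - 1) := by
  intro p q h
  rcases h with h | h
  · rcases p with _ | p
    · rfl
    · show (hP T H p).f q (x (p + 2) q) = 0
      rw [hx (p + 2) q (Or.inl (by push_cast at h ⊢; omega))]
      exact map_zero _
  · simp at h

theorem sHom_D (x : (colsT X T hT).Pre) :
    (colsT N T hT).D (sHom T hT H x) + sHom T hT H ((colsT X T hT).D x) =
      mapPre (colN T hT φ) x - mapPre (colN T hT ψ) x := by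
  funext p q
  show (colsT N T hT).D (sHom T hT H x) p q + sHom T hT H ((colsT X T hT).D x) p q =
    (colN T hT φ p).f q (x p q) - (colN T hT ψ p).f q (x p q)
  rcases p with _ | p
  · rw [Cols.D_zero, sHom_zero, sHom_zero, map_zero]
    exact (zero_add _).trans (sub_self _).symm
  have hr : sHom T hT H ((colsT X T hT).D x) (p + 1) q =
      (hP T H p).f q ((dX T X p).f q (x (p + 1) q)) +
        (-((p + 2 : ℕ) : ℤ)).negOnePow •
          (T.obj (op (N.obj (op ⦋p⦌)))).d (q - 1) q ((hP T H p).f (q - 1) (x (p + 2) (q - 1))) := by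
    refine (congrArg ((hP T H p).f q) ((colsT X T hT).D_succ x (p + 1) q)).trans ((map_add ((hP T H p).f q).hom _ _).trans ?_)
    refine congrArg (_ + ·) ((map_zsmul_unit' ((hP T H p).f q).hom _ _).trans ?_)
    exact congrArg (_ • ·) (ConcreteCategory.congr_hom ((hP T H p).comm (q - 1) q) (x (p + 2) (q - 1))).symm
  rw [Cols.D_succ, hr]
  refine combine _ _ (negOnePow_step p) _ _ _ _ _ ?_
  rcases p with _ | p
  · rw [sHom_zero, map_zero]
    refine (ConcreteCategory.congr_hom
      (congrArg (fun k : T.obj (op (X.obj (op ⦋0⦌))) ⟶ T.obj (op (N.obj (op ⦋0⦌))) => k.f q) (hP_zero T H)) (x 1 q)).trans ?_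
    show (hP T H 0).f q ((dX T X 0).f q (x 1 q)) + (T.map (ψ.app (op ⦋0⦌)).op).f q (x 1 q) = _
    exact congrArg₂ (· + ·) (zero_add _).symm rfl
  · exact ConcreteCategory.congr_hom
      (congrArg (fun k : T.obj (op (X.obj (op ⦋p + 1⦌))) ⟶ T.obj (op (N.obj (op ⦋p + 1⦌))) => k.f q) (hP_succ T H p))
      (x (p + 1 + 1) q)

end Groth.Agent.FibDescLib
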