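import Mathlib.AlgebraicTopology.SimplicialObject.Coskeletal
import Mathlib.CategoryTheory.Functor.KanExtension.Pointwise
import Mathlib.CategoryTheory.Limits.Constructions.Over.Basic
import Mathlib.Topology.Category.TopCat.Limits.Basic

/-! # Simplicial objects determined by their low levels -/

set_option autoImplicit false
set_option linter.style.haveILetI false

noncomputable section

universe v w

open CategoryTheory CategoryTheory.Limits Opposite Simplicial

namespace Groth.Agent.FibDescLib

variable {C : Type w} [Category.{v} C]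

/-- every compatible family of maps to the levels `≤ m` lifts uniquely -/
def IsCosk (m : ℕ) (X : SimplicialObject C) : Prop :=
  ∀ (p : SimplexCategory) (W : C) (c : ∀ (j : SimplexCategory), j.len ≤ m → (j ⟶ p) → (W ⟶ X.obj (op j))),
    (∀ (j j' : SimplexCategory) (hj : j.len ≤ m) (hj' : j'.len ≤ m) (γ : j' ⟶ j) (α : j ⟶ p),
      c j hj α ≫ X.map γ.op = c j' hj' (γ ≫ α)) →
    ∃! φ : W ⟶ X.obj (op p), ∀ (j : SimplexCategory) (hj : j.len ≤ m) (α : j ⟶ p), φ ≫ X.map α.op = c j hj α

namespace IsCosk

variable {m : ℕ} {X : SimplicialObject C} (hX : IsCosk m X)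

include hX

lemma hom_ext {p : SimplexCategory} {W : C} {φ ψ : W ⟶ X.obj (op p)}
    (h : ∀ (j : SimplexCategory), j.len ≤ m → ∀ α : j ⟶ p, φ ≫ X.map α.op = ψ ≫ X.map α.op) : φ = ψ :=
  (hX p W (fun j _ α => φ ≫ X.map α.op) fun j j' _ _ γ α => by
    rw [Category.assoc, ← X.map_comp, ← op_comp]).unique (fun _ _ _ => rfl) fun j hj α => (h j hj α).symm

lemma nat_ext {Z : SimplicialObject C} {φ ψ : Z ⟶ X}
    (h : ∀ (j : SimplexCategory), j.len ≤ m → φ.app (op j) = ψ.app (op j)) : φ = ψ :=
  NatTrans.ext (funext fun p => hX.hom_ext fun j hj α => by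
    rw [← φ.naturality α.op, ← ψ.naturality α.op, h j hj])

section Extend

variable {Z : SimplicialObject C} (f : ∀ (j : SimplexCategory), j.len ≤ m → (Z.obj (op j) ⟶ X.obj (op j)))
  (hf : ∀ (j j' : SimplexCategory) (hj : j.len ≤ m) (hj' : j'.len ≤ m) (γ : j' ⟶ j),
    Z.map γ.op ≫ f j' hj' = f j hj ≫ X.map γ.op)

include hf in
lemma cone_compat (p : SimplexCategory) (j j' : SimplexCategory) (hj : j.len ≤ m) (hj' : j'.len ≤ m)
    (γ : j' ⟶ j) (α : j ⟶ p) : (Z.map α.op ≫ f j hj) ≫ X.map γ.op = Z.map (γ ≫ α).op ≫ f j' hj' := by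
  rw [Category.assoc, ← hf j j' hj hj' γ, op_comp, Z.map_comp, Category.assoc]

/-- the components of an extension -/
def extendApp (p : SimplexCategory) : Z.obj (op p) ⟶ X.obj (op p) :=
  (hX p (Z.obj (op p)) (fun j hj α => Z.map α.op ≫ f j hj) (cone_compat hX f hf p)).choose

lemma extendApp_map (p j : SimplexCategory) (hj : j.len ≤ m) (α : j ⟶ p) :
    extendApp hX f hf p ≫ X.map α.op = Z.map α.op ≫ f j hj :=
  (hX p (Z.obj (op p)) (fun j hj α => Z.map α.op ≫ f j hj) (cone_compat hX f hf p)).choose_spec.1 j hj α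

/-- a family of maps in the levels `≤ m` extends -/
def extend : Z ⟶ X where
  app p := extendApp hX f hf p.unop
  naturality p q g := hX.hom_ext fun j hj α => by
    refine (Category.assoc _ _ _).trans ((congrArg (Z.map g ≫ ·) (extendApp_map hX f hf q.unop j hj α)).trans ?_)
    refine Eq.trans ?_ (Category.assoc _ _ _).symm
    refine Eq.trans ?_ (congrArg (extendApp hX f hf p.unop ≫ ·) (X.map_comp g α.op))
    refine Eq.trans ?_ (extendApp_map hX f hf p.unop j hj (α ≫ g.unop)).symm
    rw [op_comp, Z.map_comp, Category.assoc]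
    rfl

lemma extend_app (j : SimplexCategory) (hj : j.len ≤ m) : (extend hX f hf).app (op j) = f j hj :=
  hX.hom_ext fun i hi α => (extendApp_map hX f hf j i hi α).trans (hf j i hj hi α)

end Extend

/-- more levels also suffice -/
lemma mono {m' : ℕ} (h : m ≤ m') : IsCosk m' X := fun p W c hc => by
  obtain ⟨φ, hφ, hu⟩ := hX p W (fun j hj α => c j (hj.trans h) α) fun j j' hj hj' γ α => hc j j' _ _ γ α
  refine ⟨φ, fun j hj α => hX.hom_ext fun i hi γ => ?_, fun ψ hψ => hu ψ fun j hj α => hψ j _ α⟩
  rw [Category.assoc, ← X.map_comp, ← op_comp, hφ i hi (γ ≫ α), hc j i hj (hi.trans h) γ α]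

/-- isomorphic in the levels `≤ m` makes isomorphic -/
lemma isIso_of_le {Y : SimplicialObject C} (hY : IsCosk m Y) (φ : X ⟶ Y)
    (h : ∀ (j : SimplexCategory), j.len ≤ m → IsIso (φ.app (op j))) : IsIso φ := by
  let f : ∀ (j : SimplexCategory), j.len ≤ m → (Y.obj (op j) ⟶ X.obj (op j)) := fun j hj =>
    haveI := h j hj
    inv (φ.app (op j))
  have hf : ∀ (j j' : SimplexCategory) (hj : j.len ≤ m) (hj' : j'.len ≤ m) (γ : j' ⟶ j),
      Y.map γ.op ≫ f j' hj' = f j hj ≫ X.map γ.op := fun j j' hj hj' γ => by
    haveI := h j hj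
    haveI := h j' hj'
    show Y.map γ.op ≫ inv (φ.app (op j')) = inv (φ.app (op j)) ≫ X.map γ.op
    rw [IsIso.eq_inv_comp, ← Category.assoc, IsIso.comp_inv_eq, φ.naturality]
  refine ⟨extend hX f hf, hX.nat_ext fun j hj => ?_, hY.nat_ext fun j hj => ?_⟩
  · haveI := h j hj
    rw [NatTrans.comp_app, extend_app hX f hf j hj]
    exact IsIso.hom_inv_id _
  · haveI := h j hj
    rw [NatTrans.comp_app, extend_app hX f hf j hj]
    exact IsIso.inv_hom_id _

end IsCosk

section Cosk

variable (n : ℕ) [∀ (F : (SimplexCategory.Truncated n)ᵒᵖ ⥤ C),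
    (SimplexCategory.Truncated.inclusion n).op.HasRightKanExtension F]
  [∀ (F : (SimplexCategory.Truncated n)ᵒᵖ ⥤ C),
    (SimplexCategory.Truncated.inclusion n).op.HasPointwiseRightKanExtension F]

lemma isIso_counit (K : SimplicialObject C) :
    IsIso ((SimplicialObject.coskAdj n).counit.app ((SimplicialObject.truncation n).obj K)) :=
  (Functor.isPointwiseRightKanExtensionOfIsRightKanExtension ((SimplicialObject.cosk n).obj K)
    ((SimplicialObject.coskAdj n).counit.app ((SimplicialObject.truncation n).obj K))).isIso_hom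

/-- coskeleta are determined by their low levels -/
theorem isCosk_cosk (K : SimplicialObject C) : IsCosk n ((SimplicialObject.cosk n).obj K) := fun p W c hc => by
  let L := (SimplexCategory.Truncated.inclusion n).op
  let X := (SimplicialObject.cosk n).obj K
  let F := (SimplicialObject.truncation n).obj K
  let ε : L ⋙ X ⟶ F := (SimplicialObject.coskAdj n).counit.app F
  haveI : IsIso ε := isIso_counit n K
  have hL := Functor.isPointwiseRightKanExtensionOfIsRightKanExtension X ε (op p)
  let s : Cone (StructuredArrow.proj (op p) L ⋙ F) :=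
    { pt := W
      π :=
      { app := fun g => c g.right.unop.obj g.right.unop.property g.hom.unop ≫ ε.app g.right
        naturality := fun g g' φ => by
          have e1 := hc g.right.unop.obj g'.right.unop.obj g.right.unop.property g'.right.unop.property
            (L.map φ.right).unop g.hom.unop
          have e2 : (L.map φ.right).unop ≫ g.hom.unop = g'.hom.unop := congrArg Quiver.Hom.unop (StructuredArrow.w φ)
          rw [e2] at e1
          refine (Category.id_comp _).trans (Eq.trans ?_ (Category.assoc _ _ _).symm)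
          refine Eq.trans ?_ (congrArg (c g.right.unop.obj g.right.unop.property g.hom.unop ≫ ·) (ε.naturality φ.right))
          refine Eq.trans ?_ (Category.assoc _ _ _)
          exact congrArg (· ≫ ε.app g'.right) e1.symm } }
  have key : ∀ (φ : W ⟶ X.obj (op p)),
      (∀ (j : SimplexCategory) (hj : j.len ≤ n) (α : j ⟶ p), φ ≫ X.map α.op = c j hj α) ↔
        ∀ g, φ ≫ ((Functor.RightExtension.mk X ε).coneAt (op p)).π.app g = s.π.app g := fun φ => by
    refine ⟨fun h g => (Category.assoc _ _ _).symm.trans
      (congrArg (· ≫ ε.app g.right) (h _ g.right.unop.property g.hom.unop)), fun h j hj α => ?_⟩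
    refine (cancel_mono (ε.app (op (⟨j, hj⟩ : SimplexCategory.Truncated n)))).1 ?_
    exact (Category.assoc _ _ _).trans (h (StructuredArrow.mk (Y := op (⟨j, hj⟩ : SimplexCategory.Truncated n)) α.op))
  exact ⟨hL.lift s, (key _).2 fun g => hL.fac s g, fun ψ hψ => hL.uniq s ψ ((key ψ).1 hψ)⟩

/-- the unit is invertible in the levels `≤ n` -/
lemma isIso_unit (K : SimplicialObject C) (j : SimplexCategory) (hj : j.len ≤ n) :
    IsIso (((SimplicialObject.coskAdj n).unit.app K).app (op j)) := by
  haveI := isIso_counit n K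
  have h := congrArg (fun φ : (SimplicialObject.truncation n).obj K ⟶ (SimplicialObject.truncation n).obj K =>
    φ.app (op (⟨j, hj⟩ : SimplexCategory.Truncated n))) ((SimplicialObject.coskAdj n).left_triangle_components K)
  have : ((SimplicialObject.coskAdj n).unit.app K).app (op j) ≫
      ((SimplicialObject.coskAdj n).counit.app ((SimplicialObject.truncation n).obj K)).app
        (op (⟨j, hj⟩ : SimplexCategory.Truncated n)) = 𝟙 (K.obj (op j)) := h
  exact @IsIso.of_isIso_fac_right _ _ _ _ _ _ _ _
    (NatIso.isIso_app_of_isIso ((SimplicialObject.coskAdj n).counit.app ((SimplicialObject.truncation n).obj K)) _)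
    (IsIso.id _) this

end Cosk

section Over

universe u

variable {S : TopCat.{u}} (n : ℕ)

instance hasPointwiseRightKanExtension_truncated (F : (SimplexCategory.Truncated n)ᵒᵖ ⥤ Over S) :
    (SimplexCategory.Truncated.inclusion n).op.HasPointwiseRightKanExtension F := fun _ => inferInstance

end Over

end Groth.Agent.FibDescLib
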