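import Groth.Agent.FibDescLib.Cosk
import Mathlib.AlgebraicTopology.SimplicialObject.Homotopy

/-! # Maps into coskeletal objects agreeing in low levels are homotopic -/

set_option autoImplicit false
set_option linter.style.haveILetI false

noncomputable section

universe v w

open CategoryTheory CategoryTheory.Limits Opposite Simplicial SimplexCategory

namespace Groth.Agent.FibDescLib

lemma factor_of_ne_id {m : ℕ} {j : SimplexCategory} (hj : j.len = m + 1) (γ : j ⟶ j) (hγ : γ ≠ 𝟙 j) :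
    ∃ (k : SimplexCategory) (e : j ⟶ k) (μ : k ⟶ j), k.len ≤ m ∧ e ≫ μ = γ := by
  refine ⟨image γ, factorThruImage γ, image.ι γ, ?_, image.fac γ⟩
  by_contra hk
  have h1 := len_le_of_mono (image.ι γ)
  have hkj : image γ = j := SimplexCategory.ext (by omega)
  have hm : Mono γ := by
    rw [← image.fac γ]
    haveI : IsIso (factorThruImage γ) := by
      generalize hg : factorThruImage γ = g
      haveI : Epi g := hg ▸ inferInstance
      clear hg
      revert g
      rw [hkj]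
      intro g hg
      haveI := hg
      rw [eq_id_of_epi g]
      infer_instance
    infer_instance
  exact hγ (eq_id_of_mono γ)

variable {C : Type w} [Category.{v} C] {m : ℕ} {Z X : SimplicialObject C} {f g : Z ⟶ X}
  (hX : IsCosk (m + 1) X) (h : ∀ (j : SimplexCategory), j.len ≤ m → f.app (op j) = g.app (op j))

/-- one of the two maps, according to a face -/
def pick (f g : Z ⟶ X) (j : SimplexCategory) (b : Bool) : Z.obj (op j) ⟶ X.obj (op j) :=
  if b then f.app (op j) else g.app (op j)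

include h in
lemma pick_of_le (j : SimplexCategory) (hj : j.len ≤ m) (b : Bool) : pick f g j b = f.app (op j) := by
  rcases b
  · exact (h j hj).symm
  · rfl

lemma pick_nat_same {j j' : SimplexCategory} (γ : j' ⟶ j) (b : Bool) :
    Z.map γ.op ≫ pick f g j' b = pick f g j b ≫ X.map γ.op := by
  rcases b <;> exact NatTrans.naturality _ _

include h in
lemma pick_nat {j j' : SimplexCategory} (hj : j.len ≤ m + 1) (hj' : j'.len ≤ m + 1) (γ : j' ⟶ j) (b b' : Bool)
    (hb : ∀ e : j = j', γ = eqToHom e.symm → b = b') :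
    Z.map γ.op ≫ pick f g j' b' = pick f g j b ≫ X.map γ.op := by
  by_cases h1 : j'.len ≤ m
  · rw [pick_of_le h j' h1, ← pick_of_le h j' h1 b]
    exact pick_nat_same γ b
  by_cases h2 : j.len ≤ m
  · rw [pick_of_le h j h2, ← pick_of_le h j h2 b']
    exact pick_nat_same γ b'
  obtain rfl : j = j' := SimplexCategory.ext (by omega)
  by_cases hγ : γ = 𝟙 j
  · rw [hb rfl hγ]
    exact pick_nat_same γ b'
  obtain ⟨k, e, μ, hk, rfl⟩ := factor_of_ne_id (show j.len = m + 1 by omega) γ hγ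
  rw [op_comp, Z.map_comp, X.map_comp, Category.assoc, pick_nat_same e b', pick_of_le h k hk b',
    ← pick_of_le h k hk b, ← Category.assoc, pick_nat_same μ b, Category.assoc]

/-- whether a face lies below a given vertex -/
def below {p : ℕ} (i : ℕ) {j : SimplexCategory} (α : j ⟶ ⦋p⦌) : Bool :=
  decide (∀ x, ((α.toOrderHom x : Fin (p + 1)) : ℕ) ≤ i)

lemma below_eq {p q : ℕ} {i i' : ℕ} {j : SimplexCategory} (α : j ⟶ ⦋p⦌) (α' : j ⟶ ⦋q⦌)
    (hh : ∀ x, ((α.toOrderHom x : Fin (p + 1)) : ℕ) ≤ i ↔ ((α'.toOrderHom x : Fin (q + 1)) : ℕ) ≤ i') :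
    below i α = below i' α' := decide_eq_decide.2 (forall_congr' hh)

include h in
lemma cone_hom (p : ℕ) (i : Fin (p + 1)) (j j' : SimplexCategory) (hj : j.len ≤ m + 1) (hj' : j'.len ≤ m + 1)
    (γ : j' ⟶ j) (α : j ⟶ ⦋p + 1⦌) :
    (Z.map (α ≫ σ i).op ≫ pick f g j (below (i : ℕ) α)) ≫ X.map γ.op =
      Z.map ((γ ≫ α) ≫ σ i).op ≫ pick f g j' (below (i : ℕ) (γ ≫ α)) := by
  rw [Category.assoc γ α, op_comp (f := γ) (g := α ≫ σ i), Z.map_comp, Category.assoc, Category.assoc]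
  refine congrArg (Z.map (α ≫ σ i).op ≫ ·) (pick_nat h hj hj' γ _ _ fun e hγ => ?_).symm
  subst e
  rw [hγ, eqToHom_refl, Category.id_comp]

/-- the components of the homotopy -/
def hcomp {p : ℕ} (i : Fin (p + 1)) : Z _⦋p⦌ ⟶ X _⦋p + 1⦌ :=
  (hX ⦋p + 1⦌ (Z _⦋p⦌) (fun j _ α => Z.map (α ≫ σ i).op ≫ pick f g j (below (i : ℕ) α))
    (cone_hom h p i)).choose

lemma hcomp_map {p : ℕ} (i : Fin (p + 1)) (j : SimplexCategory) (hj : j.len ≤ m + 1) (α : j ⟶ ⦋p + 1⦌) :
    hcomp hX h i ≫ X.map α.op = Z.map (α ≫ σ i).op ≫ pick f g j (below (i : ℕ) α) :=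
  (hX ⦋p + 1⦌ (Z _⦋p⦌) (fun j _ α => Z.map (α ≫ σ i).op ≫ pick f g j (below (i : ℕ) α))
    (cone_hom h p i)).choose_spec.1 j hj α

lemma hcomp_map' {p : ℕ} (i : Fin (p + 1)) {q : ℕ} (δ' : ⦋q⦌ ⟶ ⦋p + 1⦌) (j : SimplexCategory) (hj : j.len ≤ m + 1)
    (α : j ⟶ ⦋q⦌) :
    (hcomp hX h i ≫ X.map δ'.op) ≫ X.map α.op =
      Z.map (α ≫ δ' ≫ σ i).op ≫ pick f g j (below (i : ℕ) (α ≫ δ')) := by
  rw [Category.assoc, ← X.map_comp, ← op_comp, hcomp_map hX h i j hj (α ≫ δ'), Category.assoc]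

lemma map_hcomp {p q : ℕ} (i : Fin (q + 1)) (δ' : ⦋q⦌ ⟶ ⦋p⦌) (j : SimplexCategory) (hj : j.len ≤ m + 1)
    (α : j ⟶ ⦋q + 1⦌) :
    (Z.map δ'.op ≫ hcomp hX h i) ≫ X.map α.op = Z.map (α ≫ σ i ≫ δ').op ≫ pick f g j (below (i : ℕ) α) := by
  rw [Category.assoc, hcomp_map hX h i j hj α, ← Category.assoc, ← Z.map_comp, ← op_comp, Category.assoc]

lemma le_δ_iff {n : ℕ} (k : Fin (n + 2)) (x : Fin (n + 1)) (i : ℕ) :
    (((SimplexCategory.δ k).toOrderHom x : Fin (n + 2)) : ℕ) ≤ i ↔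
      ((x : ℕ) < k ∧ (x : ℕ) ≤ i) ∨ ((k : ℕ) ≤ x ∧ (x : ℕ) + 1 ≤ i) := by
  show ((k.succAbove x : Fin (n + 2)) : ℕ) ≤ i ↔ _
  simp only [Fin.succAbove, Fin.lt_def, Fin.val_castSucc]
  split_ifs <;> simp <;> omega

lemma le_σ_iff {n : ℕ} (k : Fin (n + 1)) (x : Fin (n + 2)) (i : ℕ) :
    (((SimplexCategory.σ k).toOrderHom x : Fin (n + 1)) : ℕ) ≤ i ↔
      ((x : ℕ) ≤ k ∧ (x : ℕ) ≤ i) ∨ ((k : ℕ) < x ∧ (x : ℕ) ≤ i + 1) := by
  show ((Fin.predAbove k x : Fin (n + 1)) : ℕ) ≤ i ↔ _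
  simp only [Fin.predAbove, Fin.lt_def, Fin.val_castSucc]
  split_ifs <;> simp <;> omega

/-- maps agreeing in the levels `≤ m` into an object determined by the levels `≤ m + 1` are homotopic -/
def homotopyOfLe : SimplicialObject.Homotopy f g where
  h i := hcomp hX h i
  h_zero_comp_δ_zero n := hX.hom_ext fun j hj α => by
    refine (hcomp_map' hX h 0 (δ 0) j hj α).trans ?_
    have : below ((0 : Fin (n + 1)) : ℕ) (α ≫ δ 0) = false := by
      refine decide_eq_false fun hh => ?_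
      have := (le_δ_iff (0 : Fin (n + 2)) (α.toOrderHom 0) _).1 (hh 0)
      simp at this
    rw [this, show δ (0 : Fin (n + 2)) = δ (Fin.castSucc 0) from rfl, δ_comp_σ_self, Category.comp_id]
    exact g.naturality α.op
  h_last_comp_δ_last n := hX.hom_ext fun j hj α => by
    refine (hcomp_map' hX h (Fin.last n) (δ (Fin.last (n + 1))) j hj α).trans ?_
    have : below ((Fin.last n : Fin (n + 1)) : ℕ) (α ≫ δ (Fin.last (n + 1))) = true := by
      refine decide_eq_true fun x => (le_δ_iff (Fin.last (n + 1)) (α.toOrderHom x) _).2 ?_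
      simp only [Fin.val_last]
      have := (α.toOrderHom x).isLt
      simp only [len_mk] at this
      omega
    rw [this, δ_comp_σ_succ' (by simp), Category.comp_id]
    exact f.naturality α.op
  h_succ_comp_δ_castSucc_of_lt {n} i k hik := hX.hom_ext fun j hj α => by
    refine ((hcomp_map' hX h k.succ (δ i.castSucc) j hj α).trans ?_).trans (map_hcomp hX h k (δ i) j hj α).symm
    rw [δ_comp_σ_of_le hik]
    refine congrArg (fun b => _ ≫ pick f g j b) (below_eq _ _ fun x => ?_)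
    refine (le_δ_iff i.castSucc (α.toOrderHom x) _).trans ?_
    simp only [Fin.le_def, Fin.val_castSucc, Fin.val_succ] at hik ⊢
    omega
  h_succ_comp_δ_castSucc_succ {n} k := hX.hom_ext fun j hj α => by
    refine ((hcomp_map' hX h k.succ _ j hj α).trans ?_).trans (hcomp_map' hX h k.castSucc _ j hj α).symm
    rw [δ_comp_σ_self' (by simp), δ_comp_σ_succ' (by simp)]
    refine congrArg (fun b => _ ≫ pick f g j b) (below_eq _ _ fun x => ?_)
    refine (le_δ_iff k.castSucc.succ (α.toOrderHom x) _).trans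
      (Iff.trans ?_ (le_δ_iff k.castSucc.succ (α.toOrderHom x) _).symm)
    simp only [Fin.val_castSucc, Fin.val_succ]
    omega
  h_castSucc_comp_δ_succ_of_lt {n} i k hki := hX.hom_ext fun j hj α => by
    refine ((hcomp_map' hX h k.castSucc (δ i.succ) j hj α).trans ?_).trans (map_hcomp hX h k (δ i) j hj α).symm
    rw [δ_comp_σ_of_gt hki]
    refine congrArg (fun b => _ ≫ pick f g j b) (below_eq _ _ fun x => ?_)
    refine (le_δ_iff i.succ (α.toOrderHom x) _).trans ?_
    simp only [Fin.lt_def, Fin.val_castSucc, Fin.val_succ] at hki ⊢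
    omega
  h_comp_σ_castSucc_of_le {n} i k hik := hX.hom_ext fun j hj α => by
    refine ((hcomp_map' hX h k (σ i.castSucc) j hj α).trans ?_).trans (map_hcomp hX h k.succ (σ i) j hj α).symm
    rw [σ_comp_σ hik]
    refine congrArg (fun b => _ ≫ pick f g j b) (below_eq _ _ fun x => ?_)
    refine (le_σ_iff i.castSucc (α.toOrderHom x) _).trans ?_
    simp only [Fin.le_def, Fin.val_castSucc, Fin.val_succ] at hik ⊢
    omega
  h_comp_σ_succ_of_lt {n} i k hki := hX.hom_ext fun j hj α => by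
    refine ((hcomp_map' hX h k (σ i.succ) j hj α).trans ?_).trans (map_hcomp hX h k.castSucc (σ i) j hj α).symm
    rw [← σ_comp_σ hki]
    refine congrArg (fun b => _ ≫ pick f g j b) (below_eq _ _ fun x => ?_)
    refine (le_σ_iff i.succ (α.toOrderHom x) _).trans ?_
    simp only [Fin.le_def, Fin.val_castSucc, Fin.val_succ] at hki ⊢
    omega

end Groth.Agent.FibDescLib
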