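import Groth.Agent.FibDescLib.BaseChange

/-! # Descent is local on the base -/

set_option autoImplicit false
set_option backward.isDefEq.respectTransparency false
set_option linter.style.haveILetI false

noncomputable section

universe u

open CategoryTheory CategoryTheory.Limits Opposite TopologicalSpace Simplicial AlgebraicTopology

namespace Groth.Agent.FibDescLib

open Godement SoftSheaf Descent Descent.Rel

variable {S : TopCat.{u}} (G : CohTop.Ab S)

/-- a map inducing a local homeomorphism bijectively between preimages induces an isomorphism -/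
theorem isIso_MV_map (V : Opens S) {P P' : Over S} (a : P ⟶ P') (ha : IsLocalHomeomorph a.left)
    (hinj : Function.Injective a.left) (hsurj : ∀ y ∈ pre V P', ∃ z, a.left z = y) :
    IsIso ((MV G V).map a.op) := by
  classical
  haveI : IsIso ((M0V G V).map a.op) := by
    haveI : ∀ n, IsIso (((M0V G V).map a.op).f n) := fun n => by
      refine (ConcreteCategory.isIso_iff_bijective _).2 ⟨fun s t hst => funext fun y => ?_, fun t => ?_⟩
      · obtain ⟨y, hy⟩ := y
        obtain ⟨z, rfl⟩ := hsurj y hy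
        have hz : z ∈ pre V P := by
          show P.hom z ∈ V
          rw [← Descent.hom_left a z]
          exact hy
        exact (bijective_stalk_Qnmap ha _ (fun y => bijective_coh_stalk G _ _ y) n z).1 (congrFun hst ⟨z, hz⟩)
      · let φ : (pre V P : Opens P.left) ≃ (pre V P' : Opens P'.left) :=
          Equiv.ofBijective (fun z => ⟨a.left z.1, pre_le V a z.2⟩)
            ⟨fun z z' e => Subtype.ext (hinj (congrArg Subtype.val e)), fun y => by
              obtain ⟨z, hz⟩ := hsurj y.1 y.2
              refine ⟨⟨z, ?_⟩, Subtype.ext hz⟩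
              show P.hom z ∈ V
              rw [← Descent.hom_left a z, hz]
              exact y.2⟩
        choose w hw using fun z : (pre V P : Opens P.left) =>
          (bijective_stalk_Qnmap ha (coh G a.left (Over.w a)) (fun y => bijective_coh_stalk G _ _ y) n z.1).2 (t z)
        refine ⟨Equiv.piCongrLeft (fun y : (pre V P' : Opens P'.left) => Descent.St G n P' y.1) φ w, funext fun z => ?_⟩
        show Descent.stMap G n a z.1
          (Equiv.piCongrLeft (fun y : (pre V P' : Opens P'.left) => Descent.St G n P' y.1) φ w (φ z)) = t z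
        rw [Equiv.piCongrLeft_apply_apply]
        exact hw z
    exact HomologicalComplex.Hom.isIso_of_components _
  exact inferInstanceAs (IsIso ((ComplexShape.embeddingUpNat.extendFunctor AddCommGrpCat.{u}).map ((M0V G V).map a.op)))

/-- the first projection -/
def pXfst (Q : Over S) : pX S Q ⟶ 𝟭 (Over S) where
  app P := Over.homMk (pullback.fst _ _) rfl
  naturality P P' a := Over.OverMorphism.ext (by simp [pX])

variable {Q : Over S} (hQ : Topology.IsOpenEmbedding Q.hom)

include hQ in
lemma isOpenEmbedding_pXfst (P : Over S) : Topology.IsOpenEmbedding ((pXfst Q).app P).left :=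
  TopCat.fst_isOpenEmbedding_of_right P.hom hQ

include hQ in
/-- over an open subspace the product does nothing -/
theorem tExact_of_open {V : Opens S} (hV : (V : Set S) ⊆ Set.range Q.hom) (N : SimplicialObject (Over S))
    (h : TExact (colsT N ((pX S Q).op ⋙ MV G V) (isStrictlyGE_pXMV G V Q))) :
    TExact (colsT N (MV G V) (isStrictlyGE_MV G V)) := by
  have hiso : ∀ P : (Over S)ᵒᵖ, IsIso ((MV G V).map ((pXfst Q).app P.unop).op) := fun P => by
    refine isIso_MV_map G V _ (isOpenEmbedding_pXfst hQ P.unop).isLocalHomeomorph (isOpenEmbedding_pXfst hQ P.unop).injective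
      fun y hy => ?_
    obtain ⟨w, hw⟩ := hV hy
    refine ⟨(TopCat.pullbackIsoProdSubtype P.unop.hom Q.hom).inv ⟨(y, w), hw.symm⟩, ?_⟩
    exact TopCat.pullbackIsoProdSubtype_inv_fst_apply _ _ _
  haveI := hiso
  let β : MV G V ≅ (pX S Q).op ⋙ MV G V :=
    NatIso.ofComponents (fun P => asIso ((MV G V).map ((pXfst Q).app P.unop).op)) fun {P P'} a => by
      refine ((MV G V).map_comp _ _).symm.trans ((congrArg (MV G V).map ?_).trans ((MV G V).map_comp _ _))
      exact Quiver.Hom.unop_inj ((pXfst Q).naturality a.unop).symm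
  exact (tExact_colsT_congr (isStrictlyGE_MV G V) (isStrictlyGE_pXMV G V Q) (β.app _)
    (Functor.isoWhiskerLeft N.rightOp β) (β.hom.naturality _)).2 h

/-- exactness is local on the base -/
theorem tExact_of_local (N : SimplicialObject (Over S)) (V : Opens S)
    (h : ∀ s : S, ∃ W : Opens S, s ∈ W ∧ ∀ U ≤ W, TExact (CV G N U)) : TExact (CV G N V) := fun n x hx hxD => by
  have hloc : ∀ (U : Opens S) (m : ℤ) (c : (CV G N U).Pre), c ∈ (CV G N U).sub ⊤ m → (CV G N U).D c = 0 →
      ∀ s ∈ U, ∃ (U' : Opens S) (h : U' ≤ U), s ∈ U' ∧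
        ∃ t ∈ (CV G N U').sub ⊤ (m - 1), rPre G N h c = (CV G N U').D t := fun U m c hc hcD s hs => by
    obtain ⟨W, hsW, hW⟩ := h s
    obtain ⟨t, ht, e⟩ := hW (U ⊓ W) inf_le_right m (rPre G N inf_le_left c) (ColSS.mapPre_mem _ hc) (by
      rw [← ColSS.mapPre_D _ (colMap_dh N _ _ (resNatZ G inf_le_left)), hcD, map_zero])
    exact ⟨U ⊓ W, inf_le_left, ⟨hs, hsW⟩, t, ht, e.symm⟩
  obtain ⟨h0, h1⟩ := sections_exact (totSh G N) (totD G N) (totD_totD G N) (isFlasque_totSh G N)
    (fun U x hx s hs => by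
      obtain ⟨U', h', hs', t, ht, e⟩ := hloc U _ x.1 x.2 (congrArg Subtype.val hx) s hs
      refine ⟨U', h', hs', Subtype.ext (e.trans ?_)⟩
      rw [sub_neg_eq_zero G N (show ((0 : ℕ) : ℤ) - 1 < 0 by omega) ht, map_zero]
      rfl)
    (fun m U x hx s hs => by
      obtain ⟨U', h', hs', t, ht, e⟩ := hloc U _ x.1 x.2 (congrArg Subtype.val hx) s hs
      rw [show ((m + 1 : ℕ) : ℤ) - 1 = (m : ℤ) by push_cast; omega] at ht
      exact ⟨U', h', hs', ⟨t, ht⟩, Subtype.ext e.symm⟩) V
  by_cases hn : n < 0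
  · exact ⟨0, zero_mem _, by rw [map_zero, sub_neg_eq_zero G N hn hx]⟩
  obtain ⟨m, rfl⟩ := Int.eq_ofNat_of_zero_le (not_lt.1 hn)
  rcases m with _ | m
  · have := congrArg Subtype.val (h0 ⟨x, hx⟩ (Subtype.ext hxD))
    exact ⟨0, zero_mem _, by rw [map_zero]; exact this.symm⟩
  · obtain ⟨t, ht⟩ := h1 m ⟨x, hx⟩ (Subtype.ext hxD)
    refine ⟨t.1, ?_, congrArg Subtype.val ht⟩
    rw [show ((m + 1 : ℕ) : ℤ) - 1 = (m : ℤ) by push_cast; omega]
    exact t.2

/-- descent is local on the base -/
theorem desc_of_local {X : TopCat.{u}} (f : X ⟶ S)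
    (h : ∀ s : S, ∃ W : Opens S, s ∈ W ∧
      Desc (nerve (pullback.snd f (TopCat.ofHom ⟨Subtype.val, continuous_subtype_val⟩ : TopCat.of W ⟶ S)))) :
    Desc (nerve f) := fun G V => tExact_of_local G (nerve f) V fun s => by
  obtain ⟨W, hs, hW⟩ := h s
  refine ⟨W, hs, fun U hU => ?_⟩
  refine tExact_of_open G (Q := Over.mk (TopCat.ofHom ⟨Subtype.val, continuous_subtype_val⟩ : TopCat.of W ⟶ S))
    W.2.isOpenEmbedding_subtypeVal (fun y hy => ⟨⟨y, hU hy⟩, rfl⟩) (nerve f) ?_
  exact tExact_of_desc_baseChange _ G U (IsPullback.of_hasPullback f _) hW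

end Groth.Agent.FibDescLib

namespace Groth.Agent.FibDescLib

/-- maps with local sections are universally of descent -/
theorem isUnivCohDescentMap_of_local_sections {X S : TopCat.{u}} (f : X ⟶ S)
    (h : ∀ s : S, ∃ (W : Opens S) (σ : TopCat.of W ⟶ X), s ∈ W ∧
      σ ≫ f = TopCat.ofHom ⟨Subtype.val, continuous_subtype_val⟩) :
    FibDesc.IsUnivCohDescentMap f := fun S' g => by
  refine (isCohDescentMap_iff_desc _).2 (desc_of_local _ fun s => ?_)
  obtain ⟨W, σ, hs, hσ⟩ := h (g s)
  refine ⟨(Opens.map g).obj W, hs, ?_⟩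
  let ι' : TopCat.of ((Opens.map g).obj W) ⟶ S' := TopCat.ofHom ⟨Subtype.val, continuous_subtype_val⟩
  let τ : TopCat.of ((Opens.map g).obj W) ⟶ TopCat.of W :=
    TopCat.ofHom ⟨fun y => ⟨g y.1, y.2⟩, (g.hom.continuous.comp continuous_subtype_val).subtype_mk _⟩
  refine desc_of_section _ (pullback.lift (pullback.lift (τ ≫ σ) ι' ?_) (𝟙 _) ?_) (pullback.lift_snd _ _ _)
  · rw [Category.assoc, hσ]
    rfl
  · rw [pullback.lift_snd, Category.id_comp]

end Groth.Agent.FibDescLib
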