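import Groth.Agent.FibDescLib.Bi
import Groth.Agent.FibDescLib.LocalBase

/-! # Products of simplicial spaces over a base -/

set_option autoImplicit false
set_option backward.isDefEq.respectTransparency false
set_option linter.style.haveILetI false

noncomputable section

universe u

open CategoryTheory CategoryTheory.Limits Opposite TopologicalSpace Simplicial AlgebraicTopology

namespace Groth.Agent.FibDescLib

open Godement SoftSheaf Descent Descent.Rel

variable {S : TopCat.{u}}

/-- functoriality of the product in the second factor -/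
def pXMap {Q Q' : Over S} (b : Q ⟶ Q') : pX S Q ⟶ pX S Q' where
  app P := Over.homMk (pullback.lift (pullback.fst P.hom Q.hom) (pullback.snd P.hom Q.hom ≫ b.left)
    (by rw [Category.assoc, Over.w b, pullback.condition])) (pullback.lift_fst_assoc _ _ _ _)
  naturality P P' a := Over.OverMorphism.ext (pullback.hom_ext (by simp [pX]) (by simp [pX]))

lemma pXMap_id (Q : Over S) : pXMap (𝟙 Q) = 𝟙 (pX S Q) :=
  NatTrans.ext (funext fun P => Over.OverMorphism.ext (pullback.hom_ext (by simp [pX, pXMap]) (by simp [pX, pXMap])))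

lemma pXMap_comp {Q Q' Q'' : Over S} (b : Q ⟶ Q') (b' : Q' ⟶ Q'') : pXMap (b ≫ b') = pXMap b ≫ pXMap b' :=
  NatTrans.ext (funext fun P => Over.OverMorphism.ext (pullback.hom_ext (by simp [pX, pXMap]) (by simp [pX, pXMap])))

/-- exchanging the factors -/
def pXSwap (P Q : Over S) : (pX S Q).obj P ≅ (pX S P).obj Q :=
  Over.isoMk (pullbackSymmetry P.hom Q.hom) (by
    show _ ≫ pullback.fst _ _ ≫ _ = pullback.fst _ _ ≫ _
    rw [pullbackSymmetry_hom_comp_fst_assoc, pullback.condition])

lemma pXSwap_nat (P : Over S) {Q Q' : Over S} (b : Q ⟶ Q') :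
    (pXMap b).app P ≫ (pXSwap P Q').hom = (pXSwap P Q).hom ≫ (pX S P).map b :=
  Over.OverMorphism.ext (pullback.hom_ext (by simp [pX, pXMap, pXSwap]) (by simp [pX, pXMap, pXSwap]))

variable (G : CohTop.Ab S) (V : Opens S)

/-- the Godement complexes of products -/
def Ψ : (Over S)ᵒᵖ ⥤ (Over S)ᵒᵖ ⥤ CochainComplex AddCommGrpCat.{u} ℤ where
  obj Q := (pX S Q.unop).op ⋙ MV G V
  map b := Functor.whiskerRight (NatTrans.op (pXMap b.unop)) (MV G V)
  map_id Q := by ext1; ext1 P; simp [pXMap_id]
  map_comp b b' := by ext1; ext1 P; simp [pXMap_comp]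

variable (N M : SimplicialObject (Over S))

/-- the levels of an augmented simplicial space -/
def oLev : ℕ → Over S
  | 0 => Descent.base
  | n + 1 => M.obj (op ⦋n⦌)

/-- the alternating differential in the functor category -/
def vN : ∀ n, (Ψ G V).obj (op (oLev M n)) ⟶ (Ψ G V).obj (op (oLev M (n + 1)))
  | 0 => (Ψ G V).map (toBase (M.obj (op ⦋0⦌))).op
  | n + 1 => AlternatingCofaceMapComplex.objD (M.rightOp ⋙ Ψ G V) n

lemma vN_vN : ∀ n, vN G V M n ≫ vN G V M (n + 1) = 0
  | 0 => by
    have h : ∀ i : Fin 2, (Ψ G V).map (toBase (M.obj (op ⦋0⦌))).op ≫ CosimplicialObject.δ (M.rightOp ⋙ Ψ G V) i =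
        (Ψ G V).map (toBase (M.obj (op ⦋1⦌))).op := fun i => by
      refine ((Ψ G V).map_comp _ _).symm.trans (congrArg (Ψ G V).map ?_)
      exact congrArg Quiver.Hom.op (toBase_unique (M.δ i ≫ toBase (M.obj (op ⦋0⦌))))
    show (Ψ G V).map (toBase (M.obj (op ⦋0⦌))).op ≫ AlternatingCofaceMapComplex.objD (M.rightOp ⋙ Ψ G V) 0 = 0
    rw [AlternatingCofaceMapComplex.objD, Fin.sum_univ_two, Preadditive.comp_add, Preadditive.comp_zsmul,
      Preadditive.comp_zsmul, h, h]
    simp
  | n + 1 => AlternatingCofaceMapComplex.d_squared (M.rightOp ⋙ Ψ G V) n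

lemma colMap_zero {T T' : (Over S)ᵒᵖ ⥤ CochainComplex AddCommGrpCat.{u} ℤ} (hT : ∀ P, (T.obj P).IsStrictlyGE 0)
    (hT' : ∀ P, (T'.obj P).IsStrictlyGE 0) (m : ℕ) : colMap N hT hT' (0 : T ⟶ T') m = 0 := by
  rcases m with _ | m <;> rfl

/-- a double complex of complexes from a complex of functors -/
def biOfFamily (T : ℕ → (Over S)ᵒᵖ ⥤ CochainComplex AddCommGrpCat.{u} ℤ) (hT : ∀ n P, ((T n).obj P).IsStrictlyGE 0)
    (v : ∀ n, T n ⟶ T (n + 1)) (hv : ∀ n, v n ≫ v (n + 1) = 0) : Bi.{u} where
  K m n := (colsT N (T n) (hT n)).K m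
  ge m n := (colsT N (T n) (hT n)).ge m
  h m n := (colsT N (T n) (hT n)).dh m
  v m n := colMap N (hT n) (hT (n + 1)) (v n) m
  hh m n := (colsT N (T n) (hT n)).dh_dh m
  vv m n := (colMap_comp N (hT n) (hT (n + 1)) (hT (n + 1 + 1)) (v n) (v (n + 1)) m).trans
    ((congrArg (fun α => colMap N (hT n) (hT (n + 1 + 1)) α m) (hv n)).trans (colMap_zero N _ _ m))
  comm m n := (colMap_dh N (hT n) (hT (n + 1)) (v n) m).symm

lemma isStrictlyGE_Ψ (n : ℕ) (P : (Over S)ᵒᵖ) : (((Ψ G V).obj (op (oLev M n))).obj P).IsStrictlyGE 0 :=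
  isStrictlyGE_MV G V _

/-- the double complex of complexes of two simplicial spaces -/
def prodBi : Bi.{u} :=
  biOfFamily N (fun n => (Ψ G V).obj (op (oLev M n))) (isStrictlyGE_Ψ G V M) (vN G V M) (vN_vN G V M)

/-- the column isomorphism of the transverse slices -/
def flipCol (m : ℕ) : ∀ n, ((prodBi G V N M).flip.slice m).K n ≅
    (colsT M ((pX S (oLev N m)).op ⋙ MV G V) (isStrictlyGE_pXMV G V _)).K n
  | 0 => match m with
    | 0 => (MV G V).mapIso (pXSwap Descent.base Descent.base).symm.op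
    | m + 1 => (MV G V).mapIso (pXSwap (N.obj (op ⦋m⦌)) Descent.base).symm.op
  | n + 1 => match m with
    | 0 => (MV G V).mapIso (pXSwap Descent.base (M.obj (op ⦋n⦌))).symm.op
    | m + 1 => (MV G V).mapIso (pXSwap (N.obj (op ⦋m⦌)) (M.obj (op ⦋n⦌))).symm.op

lemma swap_nat (P : Over S) {Q Q' : Over S} (b : Q ⟶ Q') :
    ((Ψ G V).map b.op).app (op P) ≫ ((MV G V).mapIso (pXSwap P Q).symm.op).hom =
      ((MV G V).mapIso (pXSwap P Q').symm.op).hom ≫ (MV G V).map ((pX S P).map b).op := by
  show (MV G V).map ((pXMap b).app P).op ≫ (MV G V).map (pXSwap P Q).inv.op = (MV G V).map (pXSwap P Q').inv.op ≫ _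
  rw [← Functor.map_comp, ← Functor.map_comp, ← op_comp, ← op_comp]
  refine congrArg (fun k => (MV G V).map (Quiver.Hom.op k)) ?_
  rw [Iso.inv_comp_eq, ← Category.assoc, Iso.eq_comp_inv]
  exact pXSwap_nat P b

lemma swap_nat_objD (P : Over S) (n : ℕ) :
    ((MV G V).mapIso (pXSwap P (M.obj (op ⦋n⦌))).symm.op).hom ≫
        AlternatingCofaceMapComplex.objD (M.rightOp ⋙ ((pX S P).op ⋙ MV G V)) n =
      (AlternatingCofaceMapComplex.objD (M.rightOp ⋙ Ψ G V) n).app (op P) ≫
        ((MV G V).mapIso (pXSwap P (M.obj (op ⦋n + 1⦌))).symm.op).hom := by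
  rw [AlternatingCofaceMapComplex.objD, AlternatingCofaceMapComplex.objD, NatTrans.app_sum, Preadditive.comp_sum,
    Preadditive.sum_comp]
  refine Finset.sum_congr rfl fun i _ => ?_
  rw [NatTrans.app_zsmul, Preadditive.comp_zsmul, Preadditive.zsmul_comp]
  exact congrArg _ (swap_nat G V P (M.map (SimplexCategory.δ i).op)).symm

lemma flipCol_dh (m : ℕ) : ∀ n, (flipCol G V N M m n).hom ≫
    (colsT M ((pX S (oLev N m)).op ⋙ MV G V) (isStrictlyGE_pXMV G V _)).dh n =
      ((prodBi G V N M).flip.slice m).dh n ≫ (flipCol G V N M m (n + 1)).hom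
  | 0 => match m with
    | 0 => (swap_nat G V Descent.base (toBase (M.obj (op ⦋0⦌)))).symm
    | m + 1 => (swap_nat G V (N.obj (op ⦋m⦌)) (toBase (M.obj (op ⦋0⦌)))).symm
  | n + 1 => match m with
    | 0 => swap_nat_objD G V M Descent.base n
    | m + 1 => swap_nat_objD G V M (N.obj (op ⦋m⦌)) n

/-- exactness of the first of two simplicial spaces from the products -/
theorem tExact_of_product
    (ha : ∀ n, TExact (colsT N ((pX S (M.obj (op ⦋n⦌))).op ⋙ MV G V) (isStrictlyGE_pXMV G V _)))
    (hb : ∀ m, TExact (colsT M ((pX S (oLev N m)).op ⋙ MV G V) (isStrictlyGE_pXMV G V _))) :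
    TExact (colsT N (MV G V) (isStrictlyGE_MV G V)) := by
  refine tExact_of_open G (Q := (Descent.base : Over S)) (Homeomorph.refl S).isOpenEmbedding
    (fun y _ => ⟨y, rfl⟩) N ?_
  refine (tExact_congr (C := (prodBi G V N M).slice 0) (C' := colsT N ((pX S Descent.base).op ⋙ MV G V) _)
    (fun p => Iso.refl _) fun p => (Category.id_comp _).trans (Category.comp_id _).symm).1 ((prodBi G V N M).fubini ?_ ?_)
  · intro n
    exact (tExact_congr (C := (prodBi G V N M).slice (n + 1))
      (C' := colsT N ((pX S (M.obj (op ⦋n⦌))).op ⋙ MV G V) (isStrictlyGE_pXMV G V _))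
      (fun p => Iso.refl _) fun p => (Category.id_comp _).trans (Category.comp_id _).symm).2 (ha n)
  · intro m
    exact (tExact_congr (flipCol G V N M m) (flipCol_dh G V N M m)).2 (hb m)

variable {X Y : TopCat.{u}}

/-- the descent of a map from descent after base change along a nerve -/
theorem desc_of_baseChange_nerve (u : X ⟶ S) (v : Y ⟶ S) (hv : FibDesc.IsUnivCohDescentMap v)
    (h : ∀ n : ℕ, FibDesc.IsCohDescentMap (pullback.snd u ((nerve v).obj (op ⦋n⦌)).hom)) :
    Desc (nerve u) := fun G V => tExact_of_product G V (nerve u) (nerve v)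
  (fun n => tExact_of_desc_baseChange ((nerve v).obj (op ⦋n⦌)).hom G V (IsPullback.of_hasPullback _ _)
    ((isCohDescentMap_iff_desc _).1 (h n)))
  (fun m => tExact_of_desc_baseChange (oLev (nerve u) m).hom G V (IsPullback.of_hasPullback _ _)
    ((isCohDescentMap_iff_desc _).1 (hv _ (oLev (nerve u) m).hom)))

/-- invariance of descent -/
theorem desc_of_iso {X' : TopCat.{u}} {f : X ⟶ S} {f' : X' ⟶ S} {e : X' ⟶ X}
    (hP : IsPullback e f' f (𝟙 S)) (h : Desc (nerve f')) : Desc (nerve f) := fun G V =>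
  tExact_of_open G (Q := (Descent.base : Over S)) (Homeomorph.refl S).isOpenEmbedding (fun y _ => ⟨y, rfl⟩) (nerve f)
    (tExact_of_desc_baseChange (𝟙 S) G V hP h)

/-- every base change of a map universally of descent is of descent -/
theorem isCohDescentMap_of_isPullback {X' S' : TopCat.{u}} {f : X ⟶ S} {g : S' ⟶ S} {g' : X' ⟶ X} {f' : X' ⟶ S'}
    (hP : IsPullback g' f' f g) (h : FibDesc.IsUnivCohDescentMap f) : FibDesc.IsCohDescentMap f' := by
  refine (isCohDescentMap_iff_desc _).2 (desc_of_iso (e := hP.isoPullback.inv) (IsPullback.of_horiz_isIso ⟨?_⟩)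
    ((isCohDescentMap_iff_desc _).1 (h S' g)))
  rw [hP.isoPullback_inv_snd, Category.comp_id]

/-- being universally of descent is stable under base change -/
theorem isUniv_of_isPullback {X' S' : TopCat.{u}} {f : X ⟶ S} {g : S' ⟶ S} {g' : X' ⟶ X} {f' : X' ⟶ S'}
    (hP : IsPullback g' f' f g) (h : FibDesc.IsUnivCohDescentMap f) : FibDesc.IsUnivCohDescentMap f' := fun T a =>
  isCohDescentMap_of_isPullback ((IsPullback.of_hasPullback f' a).paste_horiz hP) h

/-- being universally of descent descends along maps universally of descent -/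
theorem isUniv_of_baseChange {S' : TopCat.{u}} (f : X ⟶ S) (g : S' ⟶ S) (hg : FibDesc.IsUnivCohDescentMap g)
    (h : FibDesc.IsUnivCohDescentMap (pullback.snd f g)) : FibDesc.IsUnivCohDescentMap f := fun T a => by
  refine (isCohDescentMap_iff_desc _).2 (desc_of_baseChange_nerve _ (pullback.snd g a)
    (isUniv_of_isPullback (IsPullback.of_hasPullback g a) hg) fun n => ?_)
  let b := ((nerve (pullback.snd g a)).obj (op ⦋n⦌)).hom
  let c : ((nerve (pullback.snd g a)).obj (op ⦋n⦌)).left ⟶ S' :=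
    WidePullback.π (objs := fun _ : Fin (n + 1) => pullback g a) (fun _ : Fin (n + 1) => pullback.snd g a) 0 ≫ pullback.fst g a
  have hc : c ≫ g = b ≫ a := by
    refine (Category.assoc _ _ _).trans ((congrArg (_ ≫ ·) pullback.condition).trans ?_)
    exact WidePullback.π_arrow_assoc (fun _ : Fin (n + 1) => pullback.snd g a) 0 a
  have outer : IsPullback (pullback.fst (pullback.snd f a) b ≫ pullback.fst f a) (pullback.snd (pullback.snd f a) b) f (c ≫ g) :=
    hc ▸ (IsPullback.of_hasPullback (pullback.snd f a) b).paste_horiz (IsPullback.of_hasPullback f a)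
  refine isCohDescentMap_of_isPullback
    (g' := pullback.lift (pullback.fst (pullback.snd f a) b ≫ pullback.fst f a) (pullback.snd (pullback.snd f a) b ≫ c)
      (outer.w.trans (Category.assoc _ _ _).symm))
    (IsPullback.of_right (by rw [pullback.lift_fst]; exact outer) (pullback.lift_snd _ _ _) (IsPullback.of_hasPullback f g)) h

/-- a map with a section is universally of descent -/
theorem isUniv_of_section (f : X ⟶ S) (s : S ⟶ X) (hs : s ≫ f = 𝟙 S) : FibDesc.IsUnivCohDescentMap f := fun S' g =>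
  (isCohDescentMap_iff_desc _).2 (desc_of_section _ (pullback.lift (g ≫ s) (𝟙 S')
    (by rw [Category.assoc, hs, Category.comp_id, Category.id_comp])) (pullback.lift_snd _ _ _))

/-- the second map of a composite universally of descent -/
theorem isUniv_of_comp (f : Y ⟶ X) (g : X ⟶ S) (h : FibDesc.IsUnivCohDescentMap (f ≫ g)) :
    FibDesc.IsUnivCohDescentMap g :=
  isUniv_of_baseChange g (f ≫ g) h (isUniv_of_section _ (pullback.lift f (𝟙 Y) (by rw [Category.id_comp]))
    (pullback.lift_snd _ _ _))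

/-- composites -/
theorem isUniv_comp (f : Y ⟶ X) (g : X ⟶ S) (hf : FibDesc.IsUnivCohDescentMap f) (hg : FibDesc.IsUnivCohDescentMap g) :
    FibDesc.IsUnivCohDescentMap (f ≫ g) := by
  refine isUniv_of_baseChange (f ≫ g) g hg ?_
  let h' : pullback (f ≫ g) g ⟶ pullback g g := pullback.lift (pullback.fst _ _ ≫ f) (pullback.snd _ _)
    (by rw [Category.assoc]; exact pullback.condition)
  have hh' : h' ≫ pullback.snd g g = pullback.snd (f ≫ g) g := pullback.lift_snd _ _ _
  have hu : FibDesc.IsUnivCohDescentMap h' := by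
    refine isUniv_of_isPullback (g := pullback.fst g g) (g' := pullback.fst (f ≫ g) g) ?_ hf
    exact IsPullback.of_bot (by rw [hh']; exact IsPullback.of_hasPullback (f ≫ g) g) (pullback.lift_fst _ _ _).symm
      (IsPullback.of_hasPullback g g)
  let δ : X ⟶ pullback g g := pullback.lift (𝟙 X) (𝟙 X) rfl
  refine isUniv_of_comp (pullback.fst h' δ) (pullback.snd (f ≫ g) g) ?_
  have e : pullback.fst h' δ ≫ pullback.snd (f ≫ g) g = pullback.snd h' δ :=
    (congrArg (pullback.fst h' δ ≫ ·) hh'.symm).trans ((Category.assoc _ _ _).symm.trans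
      ((congrArg (· ≫ pullback.snd g g) pullback.condition).trans ((Category.assoc _ _ _).trans
        ((congrArg (pullback.snd h' δ ≫ ·) (pullback.lift_snd _ _ _)).trans (Category.comp_id _)))))
  rw [e]
  exact isUniv_of_isPullback (IsPullback.of_hasPullback h' δ) hu

/-- fibre products -/
theorem isUniv_pullback_map {X X' Y Y' : TopCat.{u}} (pA : X' ⟶ S) (pB : Y' ⟶ S)
    (f : X ⟶ X') (g : Y ⟶ Y') (hf : FibDesc.IsUnivCohDescentMap f) (hg : FibDesc.IsUnivCohDescentMap g) :
    FibDesc.IsUnivCohDescentMap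
      (pullback.map (f ≫ pA) (g ≫ pB) pA pB f g (𝟙 S) (Category.comp_id _) (Category.comp_id _)) := by
  let a := pullback.map (f ≫ pA) (g ≫ pB) pA (g ≫ pB) f (𝟙 Y) (𝟙 S) (Category.comp_id _) (by simp)
  let b := pullback.map pA (g ≫ pB) pA pB (𝟙 X') g (𝟙 S) (by simp) (Category.comp_id _)
  have e : pullback.map (f ≫ pA) (g ≫ pB) pA pB f g (𝟙 S) (Category.comp_id _) (Category.comp_id _) = a ≫ b :=
    pullback.hom_ext (by simp [a, b]) (by simp [a, b])
  rw [e]
  refine isUniv_comp a b (isUniv_of_isPullback (g := pullback.fst pA (g ≫ pB)) (g' := pullback.fst (f ≫ pA) (g ≫ pB))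
    (IsPullback.of_bot ?_ (by simp [a]) (IsPullback.of_hasPullback pA (g ≫ pB))) hf)
    (isUniv_of_isPullback (g := pullback.snd pA pB) (g' := pullback.snd pA (g ≫ pB))
      (IsPullback.of_bot ?_ (by simp [b]) (IsPullback.of_hasPullback pA pB).flip) hg)
  · rw [show a ≫ pullback.snd pA (g ≫ pB) = pullback.snd (f ≫ pA) (g ≫ pB) from by simp [a]]
    exact IsPullback.of_hasPullback _ _
  · rw [show b ≫ pullback.fst pA pB = pullback.fst pA (g ≫ pB) from by simp [b]]
    exact (IsPullback.of_hasPullback _ _).flip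

end Groth.Agent.FibDescLib
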