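import Groth.Agent.FibDescLib.AugBi
import Groth.Agent.FibDescLib.CoskHom
import Groth.Agent.FibDescLib.Product

/-! # Descent passes to the next coskeleton -/

set_option autoImplicit false
set_option backward.isDefEq.respectTransparency false
set_option linter.style.haveILetI false

noncomputable section

universe u

open CategoryTheory CategoryTheory.Limits Opposite TopologicalSpace Simplicial AlgebraicTopology SimplexCategory

namespace Groth.Agent.FibDescLib

open ColSS Descent Descent.Rel

variable {S : TopCat.{u}} {m : ℕ} {K' L : SimplicialObject (Over S)} (r : K' ⟶ L)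

section Tower

lemma isUniv_of_isIso {A B : TopCat.{u}} (f : A ⟶ B) [IsIso f] : FibDesc.IsUnivCohDescentMap f :=
  isUniv_of_section f (inv f) (IsIso.inv_hom_id f)

lemma exists_tower (hr : FibDesc.IsUnivCohDescentMap (r.app (op ⦋m + 1⦌)).left) (p : SimplexCategory)
    (s : Finset (⦋m + 1⦌ ⟶ p)) :
    ∃ (W : Over S) (π : W ⟶ L.obj (op p)), FibDesc.IsUnivCohDescentMap π.left ∧
      ∃ x : ∀ α ∈ s, W ⟶ K'.obj (op ⦋m + 1⦌), ∀ α hα, x α hα ≫ r.app _ = π ≫ L.map α.op := by
  classical
  induction s using Finset.induction with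
  | empty => exact ⟨_, 𝟙 _, isUniv_of_isIso _, fun α hα => absurd hα (Finset.notMem_empty α),
      fun α hα => absurd hα (Finset.notMem_empty α)⟩
  | @insert a s ha ih =>
    obtain ⟨W, π, hπ, x, hx⟩ := ih
    let f := (π ≫ L.map a.op).left
    let g := (r.app (op ⦋m + 1⦌)).left
    let W' : Over S := Over.mk (pullback.fst f g ≫ W.hom)
    let p₁ : W' ⟶ W := Over.homMk (pullback.fst f g) rfl
    let p₂ : W' ⟶ K'.obj (op ⦋m + 1⦌) := Over.homMk (pullback.snd f g) (by
      show _ = pullback.fst f g ≫ W.hom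
      rw [← Over.w (r.app (op ⦋m + 1⦌)), ← pullback.condition_assoc, Over.w (π ≫ L.map a.op)])
    have hp : p₂ ≫ r.app _ = p₁ ≫ π ≫ L.map a.op := Over.OverMorphism.ext pullback.condition.symm
    refine ⟨W', p₁ ≫ π, ?_, fun α hα => if h : α = a then p₂
      else p₁ ≫ x α ((Finset.mem_insert.1 hα).resolve_left h), fun α hα => ?_⟩
    · exact isUniv_comp _ _ (isUniv_of_isPullback (IsPullback.of_hasPullback f g).flip hr) hπ
    · dsimp only
      split_ifs with h
      · subst h
        rw [hp, Category.assoc]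
      · rw [Category.assoc, hx, Category.assoc]

variable (hK : IsCosk (m + 1) K') (hL : IsCosk m L) (hiso : ∀ (j : SimplexCategory), j.len ≤ m → IsIso (r.app (op j)))

/-- the inverse in a low level -/
def rinv (j : SimplexCategory) (hj : j.len ≤ m) : L.obj (op j) ⟶ K'.obj (op j) :=
  haveI := hiso j hj
  inv (r.app (op j))

lemma rinv_r (j : SimplexCategory) (hj : j.len ≤ m) : rinv r hiso j hj ≫ r.app (op j) = 𝟙 _ := by
  haveI := hiso j hj
  exact IsIso.inv_hom_id _

lemma r_rinv (j : SimplexCategory) (hj : j.len ≤ m) : r.app (op j) ≫ rinv r hiso j hj = 𝟙 _ := by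
  haveI := hiso j hj
  exact IsIso.hom_inv_id _

lemma rinv_nat {j k : SimplexCategory} (hj : j.len ≤ m) (hk : k.len ≤ m) (γ : j ⟶ k) :
    rinv r hiso k hk ≫ K'.map γ.op = L.map γ.op ≫ rinv r hiso j hj := by
  calc rinv r hiso k hk ≫ K'.map γ.op
      = rinv r hiso k hk ≫ (K'.map γ.op ≫ r.app (op j)) ≫ rinv r hiso j hj := by
        rw [Category.assoc, r_rinv, Category.comp_id]
    _ = L.map γ.op ≫ rinv r hiso j hj := by
        rw [r.naturality, Category.assoc, ← Category.assoc (rinv r hiso k hk), rinv_r, Category.id_comp]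

section Cone

variable {p : SimplexCategory} {W : Over S} (π : W ⟶ L.obj (op p))

/-- a value through a lower level -/
def dval {j k : SimplexCategory} (hk : k.len ≤ m) (e : j ⟶ k) (μ : k ⟶ p) : W ⟶ K'.obj (op j) :=
  π ≫ L.map μ.op ≫ rinv r hiso k hk ≫ K'.map e.op

lemma dval_comp {j k i : SimplexCategory} (hk : k.len ≤ m) (hi : i.len ≤ m) (e : j ⟶ k) (a : k ⟶ i) (μ : i ⟶ p) :
    dval r hiso π hi (e ≫ a) μ = dval r hiso π hk e (a ≫ μ) := by
  simp only [dval, op_comp, Functor.map_comp, Category.assoc]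
  rw [← Category.assoc (rinv r hiso i hi), rinv_nat r hiso hk hi a, Category.assoc]

lemma dval_r {j k : SimplexCategory} (hk : k.len ≤ m) (e : j ⟶ k) (μ : k ⟶ p) :
    dval r hiso π hk e μ ≫ r.app (op j) = π ≫ L.map (e ≫ μ).op := by
  rw [dval, Category.assoc, Category.assoc, Category.assoc, r.naturality, ← Category.assoc (rinv r hiso k hk),
    rinv_r, Category.id_comp, op_comp, L.map_comp]

lemma dval_unique {j k i : SimplexCategory} (hk : k.len ≤ m) (hi : i.len ≤ m) (e : j ⟶ k) (μ : k ⟶ p) [Epi e]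
    (δ : j ⟶ i) (β : i ⟶ p) (h : δ ≫ β = e ≫ μ) : dval r hiso π hi δ β = dval r hiso π hk e μ := by
  have h1 := (image.fac β).symm
  have hi' : (image β).len ≤ m := by
    have := len_le_of_epi (factorThruImage β)
    omega
  rw [h1, ← dval_comp r hiso π hi hi' δ (factorThruImage β) (image.ι β)]
  have h' : (δ ≫ factorThruImage β) ≫ image.ι β = e ≫ μ := by rw [Category.assoc, image.fac, h]
  generalize δ ≫ factorThruImage β = δ' at h' ⊢
  haveI : IsSplitEpi e := isSplitEpi_of_epi e
  let se := CategoryTheory.section_ e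
  have h2 : (se ≫ δ') ≫ image.ι β = μ := by rw [Category.assoc, h', IsSplitEpi.id_assoc]
  have h3 : e ≫ se ≫ δ' = δ' := by
    rw [← cancel_mono (image.ι β), Category.assoc, h2, h']
  rw [← h3, dval_comp r hiso π hk hi' e (se ≫ δ') (image.ι β), h2]

lemma exists_low {j : SimplexCategory} (α : j ⟶ p) (hα : j.len ≤ m ∨ ¬Mono α) (hj : j.len ≤ m + 1) :
    (image α).len ≤ m := by
  have h := len_le_of_epi (factorThruImage α)
  rcases hα with hα | hα
  · omega
  by_contra hc
  have hlen : (image α).len = j.len := by omega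
  refine hα ?_
  rw [← image.fac α]
  haveI : Mono (factorThruImage α) := by
    rw [SimplexCategory.mono_iff_injective]
    exact ((Fintype.bijective_iff_surjective_and_card _).2
      ⟨(epi_iff_surjective (f := factorThruImage α)).1 inferInstance, by simp [hlen]⟩).1
  infer_instance

variable (x : ∀ α : ⦋m + 1⦌ ⟶ p, W ⟶ K'.obj (op ⦋m + 1⦌))

open scoped Classical in
/-- the cone of a family over the faces -/
def cval (j : SimplexCategory) (hj : j.len ≤ m + 1) (α : j ⟶ p) : W ⟶ K'.obj (op j) :=
  if hα : j.len ≤ m ∨ ¬Mono α then dval r hiso π (exists_low α hα hj) (factorThruImage α) (image.ι α)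
  else x (eqToHom (SimplexCategory.ext (show (⦋m + 1⦌).len = j.len by
      show m + 1 = j.len
      omega)) ≫ α) ≫ K'.map (eqToHom (SimplexCategory.ext (show j.len = (⦋m + 1⦌).len by
      show j.len = m + 1
      omega))).op

lemma cval_low (j : SimplexCategory) (hj : j.len ≤ m + 1) (α : j ⟶ p) {i : SimplexCategory} (hi : i.len ≤ m)
    (δ : j ⟶ i) (β : i ⟶ p) (h : δ ≫ β = α) : cval r hiso π x j hj α = dval r hiso π hi δ β := by
  have hα : j.len ≤ m ∨ ¬Mono α := by
    refine Classical.byCases Or.inl fun hj' => Or.inr fun hm => hj' ?_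
    haveI : Mono (δ ≫ β) := h.symm ▸ hm
    haveI : Mono δ := mono_of_mono δ β
    have := len_le_of_mono δ
    omega
  rw [cval, dif_pos hα]
  exact (dval_unique r hiso π (exists_low α hα hj) hi (factorThruImage α) (image.ι α) δ β
    (h.trans (image.fac α).symm)).symm

lemma cval_r (hx : ∀ α, Mono α → x α ≫ r.app _ = π ≫ L.map α.op) (j : SimplexCategory) (hj : j.len ≤ m + 1)
    (α : j ⟶ p) : cval r hiso π x j hj α ≫ r.app (op j) = π ≫ L.map α.op := by
  rw [cval]
  split_ifs with hα
  · rw [dval_r, image.fac]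
  · obtain rfl : j = ⦋m + 1⦌ := SimplexCategory.ext (show j.len = m + 1 by omega)
    rw [eqToHom_refl, op_id, K'.map_id, Category.comp_id, Category.id_comp,
      hx α (not_not.1 fun h => hα (Or.inr h))]

lemma cval_compat (hx : ∀ α, Mono α → x α ≫ r.app _ = π ≫ L.map α.op) (j j' : SimplexCategory)
    (hj : j.len ≤ m + 1) (hj' : j'.len ≤ m + 1) (γ : j' ⟶ j) (α : j ⟶ p) :
    cval r hiso π x j hj α ≫ K'.map γ.op = cval r hiso π x j' hj' (γ ≫ α) := by
  by_cases h1 : j'.len ≤ m
  · haveI := hiso j' h1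
    rw [← cancel_mono (r.app (op j')), cval_r r hiso π x hx, Category.assoc, r.naturality, ← Category.assoc,
      cval_r r hiso π x hx, op_comp, L.map_comp, Category.assoc]
  by_cases h2 : j.len ≤ m
  · rw [cval_low r hiso π x j hj α h2 (𝟙 j) α (Category.id_comp α), cval_low r hiso π x j' hj' _ h2 γ α rfl]
    simp only [dval, op_id, K'.map_id, Category.comp_id, Category.assoc]
  obtain rfl : j' = j := SimplexCategory.ext (by omega)
  by_cases hγ : γ = 𝟙 j'
  · subst hγ
    rw [op_id, K'.map_id, Category.comp_id, Category.id_comp]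
  obtain ⟨k, e, μ, hk, rfl⟩ := factor_of_ne_id (show j'.len = m + 1 by omega) γ hγ
  rw [cval_low r hiso π x j' hj' ((e ≫ μ) ≫ α) hk e (μ ≫ α) (Category.assoc _ _ _).symm, dval,
    op_comp, K'.map_comp, ← Category.assoc, ← Category.assoc (π), ← Category.assoc (π ≫ _)]
  refine congrArg (· ≫ K'.map e.op) ?_
  haveI := hiso k hk
  rw [← cancel_mono (r.app (op k)), Category.assoc, r.naturality, ← Category.assoc, cval_r r hiso π x hx,
    Category.assoc, Category.assoc, Category.assoc, rinv_r, Category.comp_id, op_comp, L.map_comp]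

end Cone

include hK hL hiso in
/-- all levels are universally of descent -/
theorem isUniv_app (hr : FibDesc.IsUnivCohDescentMap (r.app (op ⦋m + 1⦌)).left) (p : SimplexCategory) :
    FibDesc.IsUnivCohDescentMap (r.app (op p)).left := by
  classical
  haveI : Fintype (⦋m + 1⦌ ⟶ p) := Fintype.ofFinite _
  obtain ⟨W, π, hπ, x, hx⟩ := exists_tower r hr p Finset.univ
  let x' : ∀ α : ⦋m + 1⦌ ⟶ p, W ⟶ K'.obj (op ⦋m + 1⦌) := fun α => x α (Finset.mem_univ α)
  have hx' : ∀ α, Mono α → x' α ≫ r.app _ = π ≫ L.map α.op := fun α _ => hx α _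
  obtain ⟨φ, hφ, -⟩ := hK p W (cval r hiso π x') (cval_compat r hiso π x' hx')
  have : φ ≫ r.app (op p) = π := (hL.mono (Nat.le_succ m)).hom_ext fun j hj α => by
    rw [Category.assoc, ← r.naturality, ← Category.assoc, hφ j hj α, cval_r r hiso π x' hx' j hj α]
  refine isUniv_of_comp φ.left _ ?_
  rw [← Over.comp_left, this]
  exact hπ

end Tower

section Nerves

/-- the terms of the nerves of the levels -/
def Zobj (q : SimplexCategory) (p : SimplexCategoryᵒᵖ) : Over S :=
  (Over.map (L.obj p).hom).obj ((nerve (r.app p).left).obj (op q))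

/-- the nerves of the levels, in a fixed degree -/
def Zlev (q : SimplexCategory) : SimplicialObject (Over S) where
  obj p := Zobj r q p
  map {p p'} g := Over.homMk
    (WidePullback.lift (WidePullback.base (fun _ : Fin (q.len + 1) => (r.app p).left) ≫ (L.map g).left)
      (fun i => WidePullback.π (fun _ : Fin (q.len + 1) => (r.app p).left) i ≫ (K'.map g).left)
      (fun i => by
        have h : (K'.map g).left ≫ (r.app p').left = (r.app p).left ≫ (L.map g).left :=
          congrArg Over.Hom.left (r.naturality g)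
        rw [Category.assoc, h, WidePullback.π_arrow_assoc]))
    ((WidePullback.lift_base_assoc _ _ _ _ _).trans (by
      rw [Category.assoc]
      exact congrArg (_ ≫ ·) (Over.w (L.map g))))
  map_id p := Over.OverMorphism.ext (WidePullback.hom_ext _ _ _
    (fun i => by simp [Zobj, Descent.nerve]) (by simp [Zobj, Descent.nerve]))
  map_comp g g' := Over.OverMorphism.ext (WidePullback.hom_ext _ _ _
    (fun i => by simp [Zobj, Descent.nerve]) (by simp [Zobj, Descent.nerve]))

/-- the map to the target -/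
def Zbase (q : SimplexCategory) : Zlev r q ⟶ L where
  app p := Over.homMk (WidePullback.base (fun _ : Fin (q.len + 1) => (r.app p).left)) rfl
  naturality p p' g := Over.OverMorphism.ext (by simp [Zlev])

/-- the projections -/
def Zπ (q : SimplexCategory) (i : Fin (q.len + 1)) : Zlev r q ⟶ K' where
  app p := Over.homMk (WidePullback.π (fun _ : Fin (q.len + 1) => (r.app p).left) i) (by
    show _ = WidePullback.base _ ≫ (L.obj p).hom
    rw [← WidePullback.π_arrow (fun _ : Fin (q.len + 1) => (r.app p).left) i, Category.assoc]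
    exact congrArg (_ ≫ ·) (Over.w (r.app p)).symm)
  naturality p p' g := Over.OverMorphism.ext (by simp [Zlev])

lemma Zπ_r (q : SimplexCategory) (i : Fin (q.len + 1)) : Zπ r q i ≫ r = Zbase r q :=
  NatTrans.ext (funext fun p => Over.OverMorphism.ext
    (WidePullback.π_arrow (fun _ : Fin (q.len + 1) => (r.app p).left) i))

lemma Z_ext {q : SimplexCategory} {W : Over S} {p : SimplexCategoryᵒᵖ} {a b : W ⟶ (Zlev r q).obj p}
    (h : ∀ i, a ≫ (Zπ r q i).app p = b ≫ (Zπ r q i).app p) (h' : a ≫ (Zbase r q).app p = b ≫ (Zbase r q).app p) :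
    a = b :=
  Over.OverMorphism.ext (WidePullback.hom_ext _ _ _ (fun i => congrArg CommaMorphism.left (h i))
    (congrArg CommaMorphism.left h'))

/-- the nerves of the levels -/
def Zc : SimplicialObject (SimplicialObject (Over S)) where
  obj q := Zlev r q.unop
  map a :=
    { app := fun p => (Over.map (L.obj p).hom).map ((nerve (r.app p).left).map a)
      naturality := fun p p' g => Over.OverMorphism.ext (WidePullback.hom_ext _ _ _
        (fun i => by simp [Zlev, Descent.nerve]) (by simp [Zlev, Descent.nerve])) }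
  map_id q := NatTrans.ext (funext fun p =>
    (congrArg (Over.map (L.obj p).hom).map ((nerve (r.app p).left).map_id q)).trans ((Over.map _).map_id _))
  map_comp a b := NatTrans.ext (funext fun p =>
    (congrArg (Over.map (L.obj p).hom).map ((nerve (r.app p).left).map_comp a b)).trans ((Over.map _).map_comp _ _))

lemma Zc_base {q q' : SimplexCategory} (a : q ⟶ q') : (Zc r).map a.op ≫ Zbase r q = Zbase r q' :=
  NatTrans.ext (funext fun p => Over.OverMorphism.ext (by simp [Zc, Zbase, Descent.nerve]))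

/-- the augmented object of the nerves -/
def augZ : AugSS S where
  L := L
  Z := Zc r
  ε := Zbase r ⦋0⦌
  hε := (Zc_base r (SimplexCategory.δ 0)).trans (Zc_base r (SimplexCategory.δ 1)).symm

/-- the diagonals -/
def Zdiag (q : SimplexCategory) : K' ⟶ Zlev r q where
  app p := Over.homMk (WidePullback.lift (r.app p).left (fun _ => 𝟙 _) (fun _ => Category.id_comp _))
    ((WidePullback.lift_base_assoc _ _ _ _ _).trans (Over.w (r.app p)))
  naturality p p' g := Over.OverMorphism.ext (WidePullback.hom_ext _ _ _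
    (fun i => by simp [Zlev]; exact (Category.id_comp _).symm) (by
      have h : (K'.map g).left ≫ (r.app p').left = (r.app p).left ≫ (L.map g).left :=
        congrArg Over.Hom.left (r.naturality g)
      simp [Zlev, h]))

lemma Zdiag_π (q : SimplexCategory) (i : Fin (q.len + 1)) : Zdiag r q ≫ Zπ r q i = 𝟙 K' :=
  NatTrans.ext (funext fun p => Over.OverMorphism.ext
    (WidePullback.lift_π _ (r.app p).left (fun _ : Fin (q.len + 1) => 𝟙 (K'.obj p).left) (fun _ => Category.id_comp _) i))

lemma Zdiag_base (q : SimplexCategory) : Zdiag r q ≫ Zbase r q = r :=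
  NatTrans.ext (funext fun p => Over.OverMorphism.ext
    (WidePullback.lift_base _ (r.app p).left (fun _ : Fin (q.len + 1) => 𝟙 (K'.obj p).left) (fun _ => Category.id_comp _)))

/-- the diagonal as a map of augmented objects -/
def homDiag : AugSS.Hom (AugSS.const K') (augZ r) where
  l := r
  z :=
    { app := fun q => Zdiag r q.unop
      naturality := fun q q' a => NatTrans.ext (funext fun p => Over.OverMorphism.ext (WidePullback.hom_ext _ _ _
        (fun i => by simp [AugSS.const, augZ, Zc, Zdiag, Descent.nerve])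
        (by simp [AugSS.const, augZ, Zc, Zdiag, Descent.nerve]))) }
  w := (Category.id_comp r).trans (Zdiag_base r ⦋0⦌).symm

variable (hK : IsCosk (m + 1) K') (hL : IsCosk m L) (hiso : ∀ (j : SimplexCategory), j.len ≤ m → IsIso (r.app (op j)))

include hK hL in
lemma isCosk_Zlev (q : SimplexCategory) : IsCosk (m + 1) (Zlev r q) := by
  intro p W c hc
  have hL' := hL.mono (Nat.le_succ m)
  obtain ⟨ψ, hψ, -⟩ := hL' p W (fun j hj α => c j hj α ≫ (Zbase r q).app (op j)) fun j j' hj hj' γ α => by
    rw [Category.assoc, ← (Zbase r q).naturality, ← Category.assoc, hc]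
  have hi : ∀ i, ∃ φ : W ⟶ K'.obj (op p),
      ∀ (j : SimplexCategory) (hj : j.len ≤ m + 1) (α : j ⟶ p), φ ≫ K'.map α.op = c j hj α ≫ (Zπ r q i).app (op j) :=
    fun i => (hK p W (fun j hj α => c j hj α ≫ (Zπ r q i).app (op j)) fun j j' hj hj' γ α => by
      rw [Category.assoc, ← (Zπ r q i).naturality, ← Category.assoc, hc]).exists
  choose φ hφ using hi
  have hcomp : ∀ i, φ i ≫ r.app (op p) = ψ := fun i => hL'.hom_ext fun j hj α => by
    rw [Category.assoc, ← r.naturality, ← Category.assoc, hφ i j hj α, hψ j hj α, Category.assoc, ← NatTrans.comp_app,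
      Zπ_r]
  let Φ : W ⟶ (Zlev r q).obj (op p) :=
    Over.homMk (WidePullback.lift ψ.left (fun i => (φ i).left) (fun i => congrArg CommaMorphism.left (hcomp i)))
      ((WidePullback.lift_base_assoc _ _ _ _ _).trans (Over.w ψ))
  have hΦπ : ∀ i, Φ ≫ (Zπ r q i).app (op p) = φ i := fun i => Over.OverMorphism.ext (WidePullback.lift_π _ _ _ _ i)
  have hΦb : Φ ≫ (Zbase r q).app (op p) = ψ := Over.OverMorphism.ext (WidePullback.lift_base _ _ _ _)
  refine ⟨Φ, fun j hj α => Z_ext r (fun i => ?_) ?_, fun Φ' h' => Z_ext r (fun i => ?_) ?_⟩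
  · rw [Category.assoc, (Zπ r q i).naturality, ← Category.assoc, hΦπ, hφ i j hj α]
  · rw [Category.assoc, (Zbase r q).naturality, ← Category.assoc, hΦb, hψ j hj α]
  · refine hK.hom_ext fun j hj α => ?_
    rw [hΦπ, hφ i j hj α, Category.assoc, ← (Zπ r q i).naturality, ← Category.assoc, h' j hj α]
  · refine hL'.hom_ext fun j hj α => ?_
    rw [hΦb, hψ j hj α, Category.assoc, ← (Zbase r q).naturality, ← Category.assoc, h' j hj α]

include hiso in
lemma agree_low (q : SimplexCategory) (i : Fin (q.len + 1)) (j : SimplexCategory) (hj : j.len ≤ m) :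
    (𝟙 (Zlev r q) : Zlev r q ⟶ Zlev r q).app (op j) = (Zπ r q i ≫ Zdiag r q).app (op j) := by
  haveI := hiso j hj
  refine Z_ext r (fun i' => ?_) ?_
  · rw [NatTrans.id_app, Category.id_comp, NatTrans.comp_app, Category.assoc, ← NatTrans.comp_app (Zdiag r q),
      Zdiag_π, NatTrans.id_app, Category.comp_id, ← cancel_mono (r.app (op j)), ← NatTrans.comp_app,
      ← NatTrans.comp_app, Zπ_r, Zπ_r]
  · rw [NatTrans.id_app, Category.id_comp, NatTrans.comp_app, Category.assoc, ← NatTrans.comp_app (Zdiag r q),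
      Zdiag_base, ← NatTrans.comp_app, Zπ_r]

variable (T : (Over S)ᵒᵖ ⥤ CochainComplex AddCommGrpCat.{u} ℤ) (hT : ∀ P, (T.obj P).IsStrictlyGE 0)

include hK hL hiso in
lemma qi_diag (n : ℕ) : QI ((homDiag r).outer T hT (n + 1)) := by
  let q : SimplexCategory := ⦋n⦌
  let H := homotopyOfLe (isCosk_Zlev r hK hL q) (agree_low r hiso q 0)
  refine qi_totMap (C := colsT (Zlev r q) T hT) (C' := colsT K' T hT) (colN T hT (Zdiag r q))
    (colN_dh T hT (Zdiag r q)) (colN T hT (Zπ r q 0)) (colN_dh T hT (Zπ r q 0)) (fun p => ?_)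
    (sHom T hT H) (sHom_mem T hT H) (fun x => ?_)
  · refine (((colF T hT p).map_comp (Zπ r q 0).op (Zdiag r q).op).symm).trans ?_
    rw [← op_comp, Zdiag_π]
    exact (colF T hT p).map_id _
  · refine (sHom_D T hT H x).trans (congrArg₂ (· - ·) ?_ ?_)
    · exact (congrArg (fun f => mapPre f x) (funext fun p => (colF T hT p).map_id (op (Zlev r q)))).trans (mapPre_id x)
    · exact congrArg (fun f => mapPre f x)
        (funext fun p => (colF T hT p).map_comp (Zdiag r q).op (Zπ r q 0).op)

variable (G : CohTop.Ab S) (V : Opens S)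

lemma tExact_flip (p : ℕ) (hd : FibDesc.IsUnivCohDescentMap (r.app (op ⦋p⦌)).left) :
    TExact (((augZ r).bi (MV G V) (isStrictlyGE_MV G V)).flip.slice (p + 1)) := by
  let f := (r.app (op ⦋p⦌)).left
  let g := (L.obj (op ⦋p⦌)).hom
  have hf : FibDesc.IsCohDescentMap f := isCohDescentMap_of_isPullback
    (g' := 𝟙 _) (g := 𝟙 _) (IsPullback.of_horiz_isIso ⟨by simp [f]⟩) hd
  let T₁ := MV ((CohTop.pull g).obj G) ((Opens.map g).obj V)
  let C := colsT (nerve f) T₁ (isStrictlyGE_MV _ _)
  let C' := ((augZ r).bi (MV G V) (isStrictlyGE_MV G V)).flip.slice (p + 1)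
  let e₀ : (Over.map g).obj Descent.base ≅ L.obj (op ⦋p⦌) := Over.isoMk (Iso.refl _) rfl
  let α : (nerve f).rightOp ⋙ T₁ ≅ (Zc r).rightOp ⋙ colF (MV G V) (isStrictlyGE_MV G V) (p + 1) :=
    NatIso.ofComponents (fun q => colApp (bcIso g G V) (Iso.refl ((Over.map g).obj ((nerve f).obj (op q)))))
      fun {q q'} a => colApp_nat (bcIso g G V) (Iso.refl _) (Iso.refl _) _ _ (by
        simp only [Iso.refl_inv, Category.id_comp, Category.comp_id]
        rfl)
  let e : ∀ n, C.K n ≅ C'.K n
    | 0 => colApp (bcIso g G V) e₀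
    | n + 1 => α.app ⦋n⦌
  refine (tExact_congr e fun n => ?_).1 ((isCohDescentMap_iff_desc f).1 hf _ _)
  rcases n with _ | n
  · refine (colApp_nat (bcIso g G V) e₀ (Iso.refl _) (toBase _) ((Zbase r ⦋0⦌).app (op ⦋p⦌)) ?_).symm
    exact Over.OverMorphism.ext (by simp [e₀, Zbase, toBase, Descent.nerve, f, Descent.base])
  · exact objD_natural' α.hom n

end Nerves

variable (hK : IsCosk (m + 1) K') (hL : IsCosk m L) (hiso : ∀ (j : SimplexCategory), j.len ≤ m → IsIso (r.app (op j)))

include hK hL hiso in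
/-- the inductive step of hypercovering descent -/
theorem desc_step (hr : FibDesc.IsUnivCohDescentMap (r.app (op ⦋m + 1⦌)).left) (h : Desc L) : Desc K' :=
  fun G V => (homDiag r).tExact_of_qi (MV G V) (isStrictlyGE_MV G V)
    (fun p => tExact_flip r G V p (isUniv_app r hK hL hiso hr _))
    (AugSS.tExact_outer_const (MV G V) (isStrictlyGE_MV G V) K')
    (qi_diag r hK hL hiso (MV G V) (isStrictlyGE_MV G V)) (h G V)

end Groth.Agent.FibDescLib
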