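import Groth.Agent.FibDescLib.Bridge

/-! # Cohomological descent is exactness of the Godement double complexes -/

set_option autoImplicit false
set_option linter.style.haveILetI false

noncomputable section

universe u

open CategoryTheory CategoryTheory.Limits Opposite TopologicalSpace Simplicial Pseudofunctor.CoGrothendieck FibSite

namespace Groth.Agent.FibDescLib

open Godement SoftSheaf Descent.Rel

/-- The augmented Godement double complexes of a simplicial space over a base are exact. -/
def Desc {S : TopCat.{u}} (N : SimplicialObject (Over S)) : Prop :=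
  ∀ (G : CohTop.Ab S) (V : Opens S), TExact (colsT N (MV G V) (isStrictlyGE_MV G V))

variable {Y : (WithInitial SimplexCategory)ᵒᵖ ⥤ TopCat.{u}} (G : CohTop.Ab (S₀ Y))

/-- the Godement resolution of the sheaf on the base -/
def resB : Res G :=
  { resK (FP G (baseO (Y := Y))) with
    ι := uBase G ≫ η (FP G (baseO (Y := Y)))
    inj := fun U => (η_app_injective (FP G (baseO (Y := Y))) U).comp
      (QCohBase.CovSystem.app_injective_of_mono (uBase G) U)
    ι_d := by
      refine CategoryTheory.Sheaf.hom_ext (NatTrans.ext (funext fun U => AddCommGrpCat.ext fun g => ?_))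
      exact (dS_eq_zero_iff (FP G (baseO (Y := Y))) 0 U.unop _).2 ⟨(uBase G).hom.app U g, rfl⟩
    zero := fun U x hx => by
      obtain ⟨q, rfl⟩ := (dS_eq_zero_iff (FP G (baseO (Y := Y))) 0 U x).1 hx
      refine ⟨(inv (uBase G)).hom.app (op U) q, ?_⟩
      exact congrArg ((η (FP G (baseO (Y := Y)))).hom.app (op U)) (ConcreteCategory.congr_hom
        (congrArg (fun m : FP G (baseO (Y := Y)) ⟶ FP G (baseO (Y := Y)) => m.hom.app (op U))
          (IsIso.inv_hom_id (uBase G))) q) }

/-- the comparison over the base, as maps of sheaves -/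
def fB (n : ℕ) : (resK (FP G (baseO (Y := Y)))).T n ⟶ (pushA Y).obj (IX G n) :=
  ⟨{ app := fun V => (β G V.unop).f n
     naturality := fun V W k => AddCommGrpCat.ext fun s => by
      have hk : (W.unop : Opens (S₀ Y)) ≤ V.unop := (show (W.unop : Opens (S₀ Y)) ⟶ V.unop from k.unop).le
      refine prj_ext (IX G n) W.unop ((εN_βf G W.unop n _).trans ?_)
      refine Eq.trans ?_ (prj_res (IX G n) V.unop hk le_rfl ((β G V.unop).f n s)).symm
      rw [prj_le]
      refine Eq.trans ?_ (congrArg (tr (IX G n) (𝟙 _) _) (εN_βf G V.unop n s)).symm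
      refine Eq.trans (congrArg ((fK G n).hom.app (op (pObj Y ⦋0⦌ (preA W.unop ⦋0⦌)))) ?_)
        (app_tr (fK G n) (le_id (pre_mono (augMap Y ⦋0⦌) hk)) _)
      refine (funext fun y => ?_ : _ = _).trans (gTr_id G (pre_mono (augMap Y ⦋0⦌) hk) n _).symm
      rfl }⟩

lemma dK_apply (V : Opens (S₀ Y)) (n : ℕ) (k : (baseK G V).X n) :
    (baseK G V).d n (n + 1) k = ((resB G).d n).hom.app (op V) k :=
  ConcreteCategory.congr_hom (cxU_d (FP G (baseO (Y := Y))) (pre V (baseO (Y := Y))) n) k

lemma fB_comm (n : ℕ) : fB G n ≫ (pushA Y).map (Id G n) = (resB G).d n ≫ fB G (n + 1) :=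
  CategoryTheory.Sheaf.hom_ext (NatTrans.ext (funext fun V => AddCommGrpCat.ext fun s =>
    (ConcreteCategory.congr_hom ((β G V.unop).comm n (n + 1)) s).trans
      (congrArg ((β G V.unop).f (n + 1)) (dK_apply G V.unop n s))))

lemma fB_ι : (resB G).ι ≫ fB G 0 = jBase G :=
  CategoryTheory.Sheaf.hom_ext (NatTrans.ext (funext fun V => AddCommGrpCat.ext fun g => β_η G V.unop g))

lemma push_Iι_zero {V : Opens (S₀ Y)} (x : ((pushA Y).obj (IX G 0)).obj.obj (op V))
    (hx : ((pushA Y).map (Id G 0)).hom.app (op V) x = 0) :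
    ∃ g, ((pushA Y).map (Iι G)).hom.app (op V) g = x := by
  let S : ShortComplex (DS Y) := ShortComplex.mk (Iι G) (Id G 0) (Iι_Id G)
  have hS : S.Exact := ShortComplex.exact_of_f_is_kernel _ (Ires G).isLimitKernelFork
  have h := hS.map_of_mono_of_preservesKernel (evB V) (inferInstanceAs (Mono (Iι G))) inferInstance
  exact ((S.map (evB V)).ab_exact_iff).1 h x hx

lemma push_Iι_injective (V : Opens (S₀ Y)) :
    Function.Injective (((pushA Y).map (Iι G)).hom.app (op V)) := by
  haveI : Mono ((evB V).map (Iι G)) := inferInstance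
  exact (AddCommGrpCat.mono_iff_injective _).1 this

lemma exactAt_push (h : GrothSS.IsAcyclicObj (pushA Y) (fam G)) (n : ℕ) :
    (((pushA Y).mapHomologicalComplex (ComplexShape.up ℕ)).obj (Ires G).cocomplex).ExactAt (n + 1) :=
  (HomologicalComplex.exactAt_iff_isZero_homology _ _).2 ((h n).of_iso ((Ires G).isoRightDerivedObj (pushA Y) (n + 1)).symm)

lemma succ_push (h : GrothSS.IsAcyclicObj (pushA Y) (fam G)) (n : ℕ) (U : Opens (S₀ Y))
    (x : ((pushA Y).obj (IX G (n + 1))).obj.obj (op U))
    (hx : ((pushA Y).map (Id G (n + 1))).hom.app (op U) x = 0) (s : S₀ Y) (hs : s ∈ U) :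
    ∃ (V : Opens (S₀ Y)) (hV : V ≤ U), s ∈ V ∧
      ∃ t, ((pushA Y).map (Id G n)).hom.app (op V) t = ((pushA Y).obj (IX G (n + 1))).obj.map (homOfLE hV).op x :=
  (exact_iff_local _).1 ((HomologicalComplex.exactAt_iff' _ n (n + 1) (n + 2) (by simp) (by simp)).1
    (exactAt_push G h n)) U x hx s hs

/-- the resolution over the base given descent -/
def resP (hu : IsIso (famUnit G)) (h : GrothSS.IsAcyclicObj (pushA Y) (fam G)) : Res G where
  T n := (pushA Y).obj (IX G n)
  d n := (pushA Y).map (Id G n)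
  d_d n := (((pushA Y).map_comp _ _).symm.trans (congrArg (pushA Y).map
    ((Ires G).cocomplex.d_comp_d n (n + 1) (n + 1 + 1)))).trans ((pushA Y).map_zero _ _)
  flasque n :=
    @FlasqueAcyclic.isFlasque_of_injective _ ((pushA Y).obj (IX G n)) (Injective.injective_of_adjoint (famAdj Y) (IX G n))
  ι := jBase G
  inj U := by
    haveI := hu
    exact (push_Iι_injective G U).comp (QCohBase.CovSystem.app_injective_of_mono (famUnit G) U)
  ι_d := by
    show (famUnit G ≫ (pushA Y).map (Iι G)) ≫ (pushA Y).map (Id G 0) = 0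
    refine (Category.assoc _ _ _).trans ((congrArg (famUnit G ≫ ·) (((pushA Y).map_comp _ _).symm.trans
      ((congrArg (pushA Y).map (Iι_Id G)).trans ((pushA Y).map_zero _ _)))).trans ?_)
    exact comp_zero
  zero U x hx := by
    haveI := hu
    obtain ⟨g, rfl⟩ := push_Iι_zero G x hx
    refine ⟨(inv (famUnit G)).hom.app (op U) g, congrArg (((pushA Y).map (Iι G)).hom.app (op U)) ?_⟩
    exact ConcreteCategory.congr_hom
      (congrArg (fun m : (pushA Y).obj (fam G) ⟶ (pushA Y).obj (fam G) => m.hom.app (op U)) (IsIso.inv_hom_id (famUnit G))) g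
  succ := succ_push G h

theorem qin_β (hu : IsIso (famUnit G)) (h : GrothSS.IsAcyclicObj (pushA Y) (fam G)) (V : Opens (S₀ Y)) :
    QIN (β G V) := by
  have hq := Res.qin (resB G) (resP G hu h) (fB G) (fB_comm G) (fB_ι G) V
  exact ⟨fun k hk hk' => hq.1 k ((dK_apply G V 0 k).symm.trans hk) hk',
    fun k l hk hkl => by
      obtain ⟨w, hw, hw'⟩ := hq.2.1 k l ((dK_apply G V 1 k).symm.trans hk) hkl
      exact ⟨w, (dK_apply G V 0 w).trans hw, hw'⟩,
    fun n k l hk hkl => by
      obtain ⟨w, v, hw, hv⟩ := hq.2.2 n k l ((dK_apply G V (n + 2) k).symm.trans hk) hkl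
      exact ⟨w, v, (dK_apply G V (n + 1) w).trans hw, hv⟩⟩

lemma isIso_famUnit_of_qin (h : ∀ V, QIN (β G V)) : IsIso (famUnit G) := by
  refine isIso_of_bijective _ fun V => ⟨(injective_iff_map_eq_zero _).2 fun g hg => ?_, fun t => ?_⟩
  · have h0 : (β G V).f 0 ((resB G).ι.hom.app (op V) g) = 0 := by
      refine (β_η G V g).trans ?_
      exact (congrArg (((pushA Y).map (Iι G)).hom.app (op V)) hg).trans (map_zero _)
    have := (h V).inj₀ _ ((dK_apply G V 0 _).trans (ConcreteCategory.congr_hom
      (congrArg (fun m : G ⟶ (resB G).T 1 => m.hom.app (op V)) (resB G).ι_d) g)) h0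
    exact (resB G).inj V (this.trans (map_zero _).symm)
  · let l : (baseI G V).X 0 := ((pushA Y).map (Iι G)).hom.app (op V) t
    have hl : (baseI G V).d 0 1 l = 0 :=
      (ConcreteCategory.congr_hom ((evB V).map_comp (Iι G) (Id G 0)) t).symm.trans
        ((ConcreteCategory.congr_hom (congrArg (evB V).map (Iι_Id G)) t).trans
          (ConcreteCategory.congr_hom ((evB V).map_zero (fam G) (IX G 1)) t))
    obtain ⟨w, hw, hw'⟩ := (h V).mid₀ 0 l (map_zero _) ((map_zero _).trans hl.symm)
    obtain ⟨g, rfl⟩ := (resB G).zero V w ((dK_apply G V 0 w).symm.trans hw)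
    exact ⟨g, push_Iι_injective G V ((β_η G V g).symm.trans hw')⟩

lemma isAcyclic_of_qin (h : ∀ V, QIN (β G V)) : GrothSS.IsAcyclicObj (pushA Y) (fam G) := fun n => by
  refine IsZero.of_iso ?_ ((Ires G).isoRightDerivedObj (pushA Y) (n + 1))
  refine (HomologicalComplex.exactAt_iff_isZero_homology _ _).1 ?_
  refine (HomologicalComplex.exactAt_iff' _ n (n + 1) (n + 2) (by simp) (by simp)).2 ((exact_iff_local _).2 fun U x hx s hs => ?_)
  obtain ⟨w, v, hw, hv⟩ := (h U).mid n 0 x (map_zero _) ((map_zero _).trans hx.symm)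
  obtain ⟨V, hV, hsV, t, ht⟩ := (resB G).succ n U w ((dK_apply G U (n + 1) w).symm.trans hw) s hs
  refine ⟨V, hV, hsV, (fB G n).hom.app (op V) t + ((pushA Y).obj (IX G n)).obj.map (homOfLE hV).op v, ?_⟩
  refine (map_add (((pushA Y).map (Id G n)).hom.app (op V)).hom _ _).trans ?_
  refine Eq.trans (congrArg₂ (· + ·) ?_ ?_) ((map_add _ _ _).symm.trans (congrArg (((pushA Y).obj (IX G (n + 1))).obj.map (homOfLE hV).op) hv))
  · refine (ConcreteCategory.congr_hom (congrArg (fun m : (resB G).T n ⟶ (pushA Y).obj (IX G (n + 1)) => m.hom.app (op V))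
      (fB_comm G n)) t).trans ?_
    refine (congrArg ((fB G (n + 1)).hom.app (op V)) ht).trans ?_
    exact ConcreteCategory.congr_hom ((fB G (n + 1)).hom.naturality (homOfLE hV).op) w
  · exact ConcreteCategory.congr_hom (((pushA Y).map (Id G n)).hom.naturality (homOfLE hV).op) v

variable (Y) in
/-- Cohomological descent is exactness of the augmented Godement double complexes. -/
theorem isCohDescentTop_iff_desc : FibDesc.IsCohDescentTop Y ↔ Desc (nrv Y) :=
  isCohDescentTop_iff.trans ⟨fun h G V => (tExact_colsK_iff G V).2 (qin_β G (h G).1 (h G).2 V),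
    fun h G => ⟨isIso_famUnit_of_qin G fun V => (tExact_colsK_iff G V).1 (h G V),
      isAcyclic_of_qin G fun V => (tExact_colsK_iff G V).1 (h G V)⟩⟩

end Groth.Agent.FibDescLib
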