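import Groth.Agent.FibDescLib.Push
import Groth.Agent.Godement.Stalk
import Groth.Agent.Godement.NatCoh

/-! # The inverse image along the augmentation -/

set_option autoImplicit false
set_option linter.style.haveILetI false

noncomputable section

universe u

open CategoryTheory CategoryTheory.Limits Opposite TopologicalSpace Simplicial Pseudofunctor.CoGrothendieck FibSite

namespace Groth.Agent.FibDescLib

open Godement

variable {Y : (WithInitial SimplexCategory)ᵒᵖ ⥤ TopCat.{u}} (G : CohTop.Ab (S₀ Y))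

/-- the inverse image on a term -/
abbrev pl (p : SimplexCategory) : CohTop.Ab (Np Y p) := (CohTop.pull (augMap Y p)).obj G

/-- the transition of inverse images -/
abbrev cohN {p q : SimplexCategory} (g : p ⟶ q) : Coh (face Y g) (pl G p) (pl G q) :=
  coh G (face Y g) (Over.w ((nrv Y).map g.op))

/-- the transition maps of the family -/
def ftr {p q : SimplexCategory} (g : p ⟶ q) {W : Opens (Np Y p)} {W' : Opens (Np Y q)}
    (h : W' ≤ (Opens.map (face Y g)).obj W) :
    (pl G p).obj.obj (op W) →+ (pl G q).obj.obj (op W') :=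
  ((pl G q).obj.map (homOfLE h).op).hom.comp ((cohN G g).app W)

lemma ftr_apply {p q : SimplexCategory} (g : p ⟶ q) {W : Opens (Np Y p)} {W' : Opens (Np Y q)}
    (h : W' ≤ (Opens.map (face Y g)).obj W) (x : (pl G p).obj.obj (op W)) :
    ftr G g h x = (pl G q).obj.map (homOfLE h).op ((cohN G g).app W x) := rfl

lemma ftr_congr {p q : SimplexCategory} {g g' : p ⟶ q} (e : g = g') {W : Opens (Np Y p)} {W' : Opens (Np Y q)}
    (h : W' ≤ (Opens.map (face Y g)).obj W) (h' : W' ≤ (Opens.map (face Y g')).obj W) (x : (pl G p).obj.obj (op W)) :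
    ftr G g h x = ftr G g' h' x := by
  subst e; rfl

lemma ftr_id {p : SimplexCategory} {W W' : Opens (Np Y p)} (h : W' ≤ W) (x : (pl G p).obj.obj (op W)) :
    ftr G (𝟙 p) (le_id h) x = (pl G p).obj.map (homOfLE h).op x := by
  have key : ∀ (g : Np Y p ⟶ Np Y p) (_ : g = 𝟙 _) (w : g ≫ augMap Y p = augMap Y p)
      (hle : W' ≤ (Opens.map g).obj W),
      (pl G p).obj.map (homOfLE hle).op ((coh G g w).app W x) = (pl G p).obj.map (homOfLE h).op x := by
    rintro g rfl w hle
    rw [coh_id G w, Coh.id_app]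
    rfl
  exact key _ (congrArg CommaMorphism.left ((nrv Y).map_id (op p))) (Over.w ((nrv Y).map (𝟙 p : p ⟶ p).op)) (le_id h)

lemma ftr_ftr {p q r : SimplexCategory} {g : p ⟶ q} {g' : q ⟶ r} {W : Opens (Np Y p)}
    {W' : Opens (Np Y q)} {W'' : Opens (Np Y r)} (h : W' ≤ (Opens.map (face Y g)).obj W)
    (h' : W'' ≤ (Opens.map (face Y g')).obj W') (x : (pl G p).obj.obj (op W)) :
    ftr G g' h' (ftr G g h x) = ftr G (g ≫ g') (le_comp h h') x := by
  have key : ∀ (k : Np Y r ⟶ Np Y p) (_ : k = face Y g' ≫ face Y g) (w : k ≫ augMap Y p = augMap Y r)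
      (hle : W'' ≤ (Opens.map k).obj W),
      ftr G g' h' (ftr G g h x) = (pl G r).obj.map (homOfLE hle).op ((coh G k w).app W x) := by
    rintro k rfl w hle
    rw [coh_comp G (face Y g) (face Y g') (Over.w ((nrv Y).map g.op)) (Over.w ((nrv Y).map g'.op)) w, Coh.comp_app,
      ftr_apply, ftr_apply, Coh.app_res, ← ConcreteCategory.comp_apply, ← Functor.map_comp]
    rfl
  exact key _ (face_comp g g') (Over.w ((nrv Y).map (g ≫ g').op)) (le_comp h h')

lemma hom_le {a b : P0 Y} (φ : a ⟶ b) :
    (show Opens (Np Y a.base.unop) from a.fiber) ≤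
      (Opens.map (face Y φ.base.unop)).obj (show Opens (Np Y b.base.unop) from b.fiber) :=
  @leOfHom (Opens (Np Y a.base.unop)) _ _ _ φ.fiber

/-- the presheaf of the inverse images -/
def famPre : (P0 Y)ᵒᵖ ⥤ AddCommGrpCat.{u} where
  obj x := (pl G x.unop.base.unop).obj.obj (op x.unop.fiber)
  map {x y} φ := AddCommGrpCat.ofHom (ftr G φ.unop.base.unop (hom_le φ.unop))
  map_id x := AddCommGrpCat.ext fun t => (ftr_congr G rfl _ (le_id le_rfl) t).trans
    ((ftr_id G le_rfl t).trans (ConcreteCategory.congr_hom ((pl G _).obj.map_id _) t))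
  map_comp {x y z} φ ψ := AddCommGrpCat.ext fun t => (ftr_congr G rfl _ _ t).trans (ftr_ftr G _ _ t).symm

/-- the inverse image on a term as the fibre of the family -/
def famIso (p : SimplexCategory) :
    (ι (FibDesc.part (FibDesc.topAug Y)) (op p)).op ⋙ famPre G ≅ (pl G p).obj :=
  NatIso.ofComponents (fun W => Iso.refl _) fun {W W'} k => by
    ext t
    exact (ftr_congr G rfl _ (le_id (@leOfHom (Opens (Np Y p)) _ _ _ k.unop)) t).trans (ftr_id G _ t)

lemma isSheaf_famPre : Presheaf.IsSheaf (FibDesc.totPart (FibDesc.topAug Y) (FibDesc.topAugTop Y)) (famPre G) :=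
  (Groth.Agent.FibTop.isSheaf_iff (isPreFibSite_part Y) _).2 fun ⟨p⟩ =>
    (Presheaf.isSheaf_of_iso_iff (famIso G p)).2 (pl G p).2

/-- the inverse image along the augmentation -/
def fam : DS Y := ⟨famPre G, isSheaf_famPre G⟩

lemma tr_fam {p q : SimplexCategory} {g : p ⟶ q} {W : Opens (Np Y p)} {W' : Opens (Np Y q)}
    (h : W' ≤ (Opens.map (face Y g)).obj W) (x : (pl G p).obj.obj (op W)) :
    tr (fam G) g h x = ftr G g h x := rfl

/-- the unit as a morphism over the augmentation -/
abbrev uCoh (p : SimplexCategory) : Coh (augMap Y p) G (pl G p) := (adj (augMap Y p)).unit.app G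

/-- the unit on a term -/
abbrev unitAt (p : SimplexCategory) (V : Opens (S₀ Y)) : G.obj.obj (op V) →+ (pl G p).obj.obj (op (preA V p)) :=
  Coh.app (uCoh G p) V

lemma ftr_unitAt {p q : SimplexCategory} (g : p ⟶ q) (V : Opens (S₀ Y)) (s : G.obj.obj (op V)) :
    ftr G g (preA_face V g) (unitAt G p V s) = unitAt G q V s := by
  have key : ∀ (a' : Np Y q ⟶ S₀ Y) (w : face Y g ≫ augMap Y p = a')
      (hle : (Opens.map a').obj V ≤ (Opens.map (face Y g)).obj (preA V p)),
      ((CohTop.pull a').obj G).obj.map (homOfLE hle).op ((coh G (face Y g) w).app (preA V p) (unitAt G p V s)) =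
        Coh.app (g := a') (F := G) (F' := (CohTop.pull a').obj G) ((adj a').unit.app G) V s := by
    rintro a' rfl hle
    refine Eq.trans ?_ (ConcreteCategory.congr_hom (congrArg
      (fun m : G ⟶ (CohTop.push (face Y g ≫ augMap Y p)).obj _ => m.hom.app (op V))
      (unit_cohOf G (augMap Y p) (face Y g))) s)
    refine (ConcreteCategory.congr_hom (congrArg (fun m => ((CohTop.pull (face Y g ≫ augMap Y p)).obj G).obj.map m)
      (Subsingleton.elim (homOfLE hle).op (𝟙 _))) _).trans ?_
    exact ConcreteCategory.congr_hom (((CohTop.pull (face Y g ≫ augMap Y p)).obj G).obj.map_id _) _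
  exact key _ (Over.w ((nrv Y).map g.op)) (preA_face V g)

lemma exists_unitSec (V : Opens (S₀ Y)) (s : G.obj.obj (op V)) :
    ∃ t : pushSec (fam G) V, prj (fam G) V (le_refl (preA V ⦋0⦌)) t = unitAt G ⦋0⦌ V s :=
  exists_prj (fam G) V _ ((ftr_unitAt G _ V s).trans (ftr_unitAt G _ V s).symm)

/-- the unit section -/
def unitSec (V : Opens (S₀ Y)) (s : G.obj.obj (op V)) : pushSec (fam G) V := (exists_unitSec G V s).choose

lemma prj_unitSec (V : Opens (S₀ Y)) (s : G.obj.obj (op V)) (p : SimplexCategory) :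
    prj (fam G) V (le_refl (preA V p)) (unitSec G V s) = unitAt G p V s := by
  rw [← prj_tr (fam G) V le_rfl le_rfl (preA_face V (vtx p)), show prj (fam G) V (le_refl (preA V ⦋0⦌)) (unitSec G V s) =
    unitAt G ⦋0⦌ V s from (exists_unitSec G V s).choose_spec]
  exact ftr_unitAt G _ V s

lemma prj_le (H : DS Y) (V : Opens (S₀ Y)) {p : SimplexCategory} {W : Opens (Np Y p)} (h : W ≤ preA V p)
    (s : pushSec H V) : prj H V h s = tr H (𝟙 p) (le_id h) (prj H V (le_refl (preA V p)) s) :=
  (prj_tr H V le_rfl h (le_id h) s).symm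

/-- the unit -/
def famUnit : G ⟶ (pushA Y).obj (fam G) :=
  ⟨{ app := fun V => AddCommGrpCat.ofHom (AddMonoidHom.mk' (fun s => unitSec G V.unop s) fun a b => by
      refine prj_ext (fam G) V.unop ?_
      refine (prj_unitSec G V.unop (a + b) ⦋0⦌).trans ((map_add (unitAt G ⦋0⦌ V.unop) a b).trans ?_)
      exact ((map_add (prj (fam G) V.unop (le_refl (preA V.unop ⦋0⦌))).hom _ _).trans
        (congrArg₂ (· + ·) (prj_unitSec G V.unop a ⦋0⦌) (prj_unitSec G V.unop b ⦋0⦌))).symm)
     naturality := fun V W k => AddCommGrpCat.ext fun s => by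
      refine prj_ext (fam G) W.unop ?_
      refine (prj_unitSec G W.unop (G.obj.map k s) ⦋0⦌).trans ?_
      refine Eq.trans ?_ (prj_res (fam G) V.unop (show (W.unop : Opens (S₀ Y)) ≤ V.unop from
        (show (W.unop : Opens (S₀ Y)) ⟶ V.unop from k.unop).le) le_rfl (unitSec G V.unop s)).symm
      rw [prj_le, prj_unitSec, tr_fam, ftr_id]
      exact (Coh.app_res (uCoh G ⦋0⦌) (@leOfHom (Opens (S₀ Y)) _ _ _ k.unop) s :)
      }⟩

/-- the component on a term of a map into the direct image -/
def pushTerm {H : DS Y} (φ : G ⟶ (pushA Y).obj H) (p : SimplexCategory) : Coh (augMap Y p) G (restrP H p) :=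
  ⟨{ app := fun V => φ.hom.app V ≫ prj H V.unop (le_refl (preA V.unop p))
     naturality := fun V W k => AddCommGrpCat.ext fun s => by
        have hk : (W.unop : Opens (S₀ Y)) ≤ V.unop := (show (W.unop : Opens (S₀ Y)) ⟶ V.unop from k.unop).le
        refine (congrArg (prj H W.unop le_rfl) (ConcreteCategory.congr_hom (φ.hom.naturality k) s)).trans ?_
        refine (prj_res H V.unop hk le_rfl _).trans ?_
        rw [prj_le]
        exact (restrP_map H (pre_mono (augMap Y p) hk) _).symm }⟩

/-- a map out of the family from a map into the direct image, on a term -/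
def ofPush {H : DS Y} (φ : G ⟶ (pushA Y).obj H) (p : SimplexCategory) : pl G p ⟶ restrP H p :=
  ((adj (augMap Y p)).homEquiv G (restrP H p)).symm (pushTerm G φ p)

lemma ofPush_unitAt {H : DS Y} (φ : G ⟶ (pushA Y).obj H) (p : SimplexCategory) (V : Opens (S₀ Y))
    (s : G.obj.obj (op V)) :
    (ofPush G φ p).hom.app (op (preA V p)) (unitAt G p V s) = prj H V (le_refl (preA V p)) (φ.hom.app (op V) s) :=
  (ConcreteCategory.congr_hom (congrArg (fun m : G ⟶ (CohTop.push (augMap Y p)).obj (restrP H p) => m.hom.app (op V))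
    (((adj (augMap Y p)).homEquiv_unit _ _ _).symm.trans
      (((adj (augMap Y p)).homEquiv _ _).apply_symm_apply (pushTerm G φ p)))) s :)

lemma hom_unit_ext {p : SimplexCategory} {X : TopCat.{u}} {g : X ⟶ Np Y p} {H' : CohTop.Ab X}
    {u v : Coh g (pl G p) H'} (h : ∀ (V : Opens (S₀ Y)) s, u.app (preA V p) (unitAt G p V s) = v.app (preA V p) (unitAt G p V s)) :
    u = v := by
  refine coh_ext G u v ?_
  refine CategoryTheory.Sheaf.hom_ext (NatTrans.ext (funext fun V => AddCommGrpCat.ext fun s => ?_))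
  exact (h V.unop s :)

/-- transition of a sheaf as a morphism over the face -/
def trCoh (H : DS Y) {p q : SimplexCategory} (g : p ⟶ q) : Coh (face Y g) (restrP H p) (restrP H q) :=
  ⟨{ app := fun W => tr H g (le_refl ((Opens.map (face Y g)).obj W.unop))
     naturality := fun W W' k => AddCommGrpCat.ext fun s => by
      have hk : (W'.unop : Opens (Np Y p)) ≤ W.unop := (show (W'.unop : Opens (Np Y p)) ⟶ W.unop from k.unop).le
      refine (congrArg (tr H g le_rfl) (restrP_map H hk s)).trans ?_
      refine Eq.trans ?_ (restrP_map H (pre_mono (face Y g) hk) _).symm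
      refine (tr_tr H _ _ s).trans (Eq.trans ?_ (tr_tr H _ _ s).symm)
      exact tr_congr H ((Category.id_comp g).trans (Category.comp_id g).symm) _ _ s }⟩

lemma ofPush_nat {H : DS Y} (φ : G ⟶ (pushA Y).obj H) {p q : SimplexCategory} (g : p ⟶ q)
    {W : Opens (Np Y p)} {W' : Opens (Np Y q)} (h : W' ≤ (Opens.map (face Y g)).obj W)
    (x : (pl G p).obj.obj (op W)) :
    (ofPush G φ q).hom.app (op W') (ftr G g h x) = tr H g h ((ofPush G φ p).hom.app (op W) x) := by
  have e : (cohN G g ≫ (CohTop.push (face Y g)).map (ofPush G φ q) : Coh (face Y g) (pl G p) (restrP H q)) =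
      ofPush G φ p ≫ trCoh H g := hom_unit_ext G fun V s => by
    show (ofPush G φ q).hom.app (op ((Opens.map (face Y g)).obj (preA V p))) ((cohN G g).app _ (unitAt G p V s)) =
      tr H g le_rfl ((ofPush G φ p).hom.app (op (preA V p)) (unitAt G p V s))
    rw [ofPush_unitAt]
    have he : (Opens.map (face Y g)).obj (preA V p) ≤ preA V q := fun x hx => by
      show augMap Y q x ∈ V
      rw [← show augMap Y p (face Y g x) = augMap Y q x from ConcreteCategory.congr_hom (Over.w ((nrv Y).map g.op)) x]
      exact hx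
    rw [prj_tr H V le_rfl he, prj_le]
    refine (Eq.trans ?_ (restrP_map H he _))
    rw [← ofPush_unitAt, ← app_res (ofPush G φ q) he]
    refine congrArg _ ?_
    rw [← ftr_unitAt G g V s, ftr_apply, ← ConcreteCategory.comp_apply, ← Functor.map_comp]
    exact (ConcreteCategory.congr_hom ((pl G q).obj.map_id _) _).symm
  have e' : (ofPush G φ q).hom.app (op ((Opens.map (face Y g)).obj W)) ((cohN G g).app W x) =
      tr H g le_rfl ((ofPush G φ p).hom.app (op W) x) :=
    ConcreteCategory.congr_hom (congrArg (fun m : Coh (face Y g) (pl G p) (restrP H q) => m.hom.app (op W)) e) x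
  rw [ftr_apply, app_res (ofPush G φ q) h]
  refine (congrArg _ e').trans ?_
  refine (restrP_map H h _).trans ?_
  rw [tr_tr]
  exact tr_congr H (Category.comp_id g) _ _ _

/-- the universal property of the family -/
def famHomEquiv (H : DS Y) : (fam G ⟶ H) ≃ (G ⟶ (pushA Y).obj H) where
  toFun u := famUnit G ≫ (pushA Y).map u
  invFun φ := ⟨{ app := fun x => (ofPush G φ x.unop.base.unop).hom.app (op x.unop.fiber)
                 naturality := fun x y k => AddCommGrpCat.ext fun t =>
                  (ofPush_nat G φ k.unop.base.unop (hom_le k.unop) t).trans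
                    (congrArg (fun m => H.obj.map m _) (Quiver.Hom.unop_inj (thin_ext Y rfl))) }⟩
  left_inv u := by
    refine CategoryTheory.Sheaf.hom_ext (NatTrans.ext (funext fun x => ?_))
    obtain ⟨⟨⟨p⟩, W⟩⟩ := x
    let u' : pl G p ⟶ restrP H p :=
      ⟨{ app := fun W => u.hom.app (op (pObj Y p W.unop))
         naturality := fun W W' k => AddCommGrpCat.ext fun t => by
          have hk : (W'.unop : Opens (Np Y p)) ≤ W.unop := (show (W'.unop : Opens (Np Y p)) ⟶ W.unop from k.unop).le
          refine (congrArg (u.hom.app (op (pObj Y p W'.unop))) (ftr_id G hk t).symm).trans ?_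
          exact (app_tr u (le_id hk) t).trans (restrP_map H hk _).symm }⟩
    have e : ofPush G (famUnit G ≫ (pushA Y).map u) p = u' := by
      refine ((adj (augMap Y p)).homEquiv _ _).injective ?_
      rw [ofPush, Equiv.apply_symm_apply, Adjunction.homEquiv_unit]
      refine CategoryTheory.Sheaf.hom_ext (NatTrans.ext (funext fun V => AddCommGrpCat.ext fun s => ?_))
      exact ((congrArg (u.hom.app (op (pObj Y p (preA V.unop p)))) (prj_unitSec G V.unop s p)).symm.trans
        (prj_app (fam G) V.unop u le_rfl _).symm).symm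
    exact congrArg (fun m : pl G p ⟶ restrP H p => m.hom.app (op W)) e
  right_inv φ := by
    refine CategoryTheory.Sheaf.hom_ext (NatTrans.ext (funext fun V => AddCommGrpCat.ext fun s => ?_))
    refine prj_ext H V.unop ((prj_app (fam G) V.unop _ le_rfl _).trans ?_)
    refine (congrArg _ (prj_unitSec G V.unop s ⦋0⦌)).trans ?_
    exact ofPush_unitAt G φ ⦋0⦌ V.unop s

end Groth.Agent.FibDescLib
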