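import Groth.Agent.FibDescLib.Local
import Groth.Agent.Descent.Relative

/-! # The Godement resolution of the inverse image -/

set_option autoImplicit false
set_option linter.style.haveILetI false

noncomputable section

universe u

open CategoryTheory CategoryTheory.Limits Opposite TopologicalSpace Simplicial Pseudofunctor.CoGrothendieck FibSite

namespace Groth.Agent.FibDescLib

open Godement SoftSheaf Descent.Rel

variable {Y : (WithInitial SimplexCategory)ᵒᵖ ⥤ TopCat.{u}} (G : CohTop.Ab (S₀ Y))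

variable (Y) in
/-- a term as a space over the base -/
abbrev Pp (p : SimplexCategory) : Over (S₀ Y) := (nrv Y).obj (op p)

/-- transition of the families of germs -/
def gTr {p q : SimplexCategory} (g : p ⟶ q) {W : Opens (Np Y p)} {W' : Opens (Np Y q)}
    (h : W' ≤ (Opens.map (face Y g)).obj W) :
    cxU (FP G (Pp Y p)) W ⟶ cxU (FP G (Pp Y q)) W' :=
  cxUMap (coh G (face Y g) (Over.w ((nrv Y).map g.op))) W ≫ cxURes _ h

lemma gTr_apply {p q : SimplexCategory} (g : p ⟶ q) {W : Opens (Np Y p)} {W' : Opens (Np Y q)}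
    (h : W' ≤ (Opens.map (face Y g)).obj W) (n : ℕ) (s : SG (FP G (Pp Y p)) n W) (y : W') :
    (gTr G g h).f n s y = Descent.stMap G n ((nrv Y).map g.op) y.1 (s ⟨face Y g y.1, h y.2⟩) := rfl

lemma stMap_congr {n : ℕ} {P Q : Over (S₀ Y)} {a b : P ⟶ Q} (e : a = b) (y : P.left) {W : Opens Q.left}
    (s : SG (FP G Q) n W) (ha : a.left y ∈ W) (hb : b.left y ∈ W) :
    Descent.stMap G n a y (s ⟨a.left y, ha⟩) = Descent.stMap G n b y (s ⟨b.left y, hb⟩) := by
  subst e; rfl

lemma gTr_id {p : SimplexCategory} {W W' : Opens (Np Y p)} (h : W' ≤ W) (n : ℕ) (s : SG (FP G (Pp Y p)) n W) :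
    (gTr G (𝟙 p) (le_id h)).f n s = (G0 (Qn (FP G (Pp Y p)) n)).obj.map (homOfLE h).op s := funext fun y => by
  rw [gTr_apply]
  exact (stMap_congr G (show (nrv Y).map (𝟙 p : p ⟶ p).op = 𝟙 (Pp Y p) from (nrv Y).map_id (op p)) y.1 s _ (h y.2)).trans
    (stMap_id' G n _ y.1 _)

lemma gTr_gTr {p q r : SimplexCategory} {g : p ⟶ q} {g' : q ⟶ r} {W : Opens (Np Y p)} {W' : Opens (Np Y q)}
    {W'' : Opens (Np Y r)} (h : W' ≤ (Opens.map (face Y g)).obj W) (h' : W'' ≤ (Opens.map (face Y g')).obj W')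
    (n : ℕ) (s : SG (FP G (Pp Y p)) n W) :
    (gTr G g' h').f n ((gTr G g h).f n s) = (gTr G (g ≫ g') (le_comp h h')).f n s := funext fun y =>
  ((stMap_comp' G n ((nrv Y).map g'.op) ((nrv Y).map g.op) y.1 (s ⟨_, h (h' y.2)⟩)).symm.trans
    (stMap_congr G ((nrv Y).map_comp g'.op g.op).symm y.1 s _ (le_comp h h' y.2)) :)

/-- the complexes of families of germs on the total site -/
def godPre : (P0 Y)ᵒᵖ ⥤ CochainComplex AddCommGrpCat.{u} ℕ where
  obj x := cxU (FP G (Pp Y x.unop.base.unop)) x.unop.fiber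
  map φ := gTr G φ.unop.base.unop (hom_le φ.unop)
  map_id x := HomologicalComplex.hom_ext _ _ fun n => AddCommGrpCat.ext fun s => by
    refine (gTr_id G le_rfl n s).trans ?_
    exact ConcreteCategory.congr_hom ((G0 (Qn (FP G (Pp Y x.unop.base.unop)) n)).obj.map_id _) s
  map_comp {x y z} φ ψ := HomologicalComplex.hom_ext _ _ fun n => AddCommGrpCat.ext fun s =>
    (gTr_gTr G (hom_le φ.unop) (hom_le ψ.unop) n s).symm

/-- the fibres of a degree -/
def godIso (p : SimplexCategory) (n : ℕ) :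
    (ι (FibDesc.part (FibDesc.topAug Y)) (op p)).op ⋙ godPre G ⋙ HomologicalComplex.eval _ _ n ≅
      (G0 (Qn (FP G (Pp Y p)) n)).obj :=
  NatIso.ofComponents (fun _ => Iso.refl _) fun {W W'} k => by
    ext s
    exact gTr_id G (@leOfHom (Opens (Np Y p)) _ _ _ k.unop) n s

/-- a degree of the resolution -/
def God (n : ℕ) : DS Y :=
  ⟨godPre G ⋙ HomologicalComplex.eval _ _ n,
    (Groth.Agent.FibTop.isSheaf_iff (isPreFibSite_part Y) _).2 fun ⟨p⟩ =>
      (Presheaf.isSheaf_of_iso_iff (godIso G p n)).2 (G0 (Qn (FP G (Pp Y p)) n)).2⟩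

lemma tr_God {p q : SimplexCategory} {g : p ⟶ q} {W : Opens (Np Y p)} {W' : Opens (Np Y q)}
    (h : W' ≤ (Opens.map (face Y g)).obj W) (n : ℕ) (s : SG (FP G (Pp Y p)) n W) :
    tr (God G n) g h s = (gTr G g h).f n s := rfl

/-- the differential -/
def godD (n : ℕ) : God G n ⟶ God G (n + 1) :=
  ⟨Functor.whiskerLeft (godPre G) { app := fun K => K.d n (n + 1), naturality := fun K L f => f.comm n (n + 1) }⟩

lemma godD_apply {p : SimplexCategory} {W : Opens (Np Y p)} (n : ℕ) (s : SG (FP G (Pp Y p)) n W) :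
    (godD G n).hom.app (op (pObj Y p W)) s = dS (FP G (Pp Y p)) n W s :=
  ConcreteCategory.congr_hom (cxU_d (FP G (Pp Y p)) W n) s

lemma godD_godD (n : ℕ) : godD G n ≫ godD G (n + 1) = 0 :=
  CategoryTheory.Sheaf.hom_ext (NatTrans.ext (funext fun x =>
    ((godPre G).obj x).d_comp_d n (n + 1) (n + 1 + 1)))

/-- the resolution -/
def godCx : CochainComplex (DS Y) ℕ := CochainComplex.of (God G) (godD G) (godD_godD G)

/-- the augmentation -/
def godη : fam G ⟶ God G 0 :=
  ⟨{ app := fun x => (η (pl G x.unop.base.unop)).hom.app (op x.unop.fiber)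
     naturality := fun x y φ => AddCommGrpCat.ext fun s => funext fun t => by
      refine (congrArg (fun m : (pl G y.unop.base.unop).obj.obj (op y.unop.fiber) =>
        (η (pl G y.unop.base.unop)).hom.app (op y.unop.fiber) m t)
        (show (famPre G).map φ s = ftr G φ.unop.base.unop (hom_le φ.unop) s from rfl)).trans ?_
      rw [ftr_apply, η_app]
      exact (TopCat.Presheaf.germ_res_apply (pl G y.unop.base.unop).obj (homOfLE (hom_le φ.unop)) t.1 t.2 _).trans
        ((cohN G φ.unop.base.unop).stalk_germ x.unop.fiber t.1 (hom_le φ.unop t.2) s).symm }⟩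

lemma godη_apply {p : SimplexCategory} {W : Opens (Np Y p)} (s : (pl G p).obj.obj (op W)) :
    (godη G).hom.app (op (pObj Y p W)) s = (η (pl G p)).hom.app (op W) s := rfl

lemma dS_eq_zero_iff {X : TopCat.{u}} (F : CohTop.Ab X) (n : ℕ) (U : Opens X) (s : SG F n U) :
    dS F n U s = 0 ↔ ∃ q, (η (Qn F n)).hom.app (op U) q = s := by
  refine ⟨fun h => ?_, ?_⟩
  · refine TopCat.Sheaf.sections_exact_of_left_exact (shortExact_step (Qn F n)).exact
      (shortExact_step (Qn F n)).mono_f s (η_app_injective (Qn F (n + 1)) U ?_)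
    exact h.trans (map_zero _).symm
  · rintro ⟨q, rfl⟩
    exact (congrArg ((η (Qn F (n + 1))).hom.app (op U)) (π_η_app _ U q)).trans (map_zero _)

lemma exists_local_preimage {X : TopCat.{u}} (F : CohTop.Ab X) (n : ℕ) (U : Opens X) (s : SG F (n + 1) U)
    (hs : dS F (n + 1) U s = 0) (x : X) (hx : x ∈ U) :
    ∃ (V : Opens X) (hV : V ≤ U), x ∈ V ∧ ∃ t, dS F n V t = (G0 (Qn F (n + 1))).obj.map (homOfLE hV).op s := by
  obtain ⟨q, rfl⟩ := (dS_eq_zero_iff F (n + 1) U s).1 hs
  have hsurj : TopCat.Presheaf.IsLocallySurjective (π (Qn F n)).hom :=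
    (CategoryTheory.Sheaf.isLocallySurjective_iff_epi' (φ := π (Qn F n))).2 inferInstance
  obtain ⟨V, hV, ⟨t, ht⟩, hxV⟩ := (TopCat.Presheaf.isLocallySurjective_iff _).1 hsurj U q x hx
  refine ⟨V, hV, hxV, t, ?_⟩
  exact (congrArg ((η (Qn F (n + 1))).hom.app (op V)) ht).trans
    (ConcreteCategory.congr_hom ((η (Qn F (n + 1))).hom.naturality (homOfLE hV).op) q)

lemma godη_godD : godη G ≫ godD G 0 = 0 :=
  CategoryTheory.Sheaf.hom_ext (NatTrans.ext (funext fun x => AddCommGrpCat.ext fun s => by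
    obtain ⟨⟨⟨p⟩, W⟩⟩ := x
    exact (godD_apply G 0 _).trans ((dS_eq_zero_iff (FP G (Pp Y p)) 0 W _).2 ⟨s, rfl⟩)))

/-- exactness at the start -/
theorem exact_godη : (ShortComplex.mk (godη G) (godD G 0) (godη_godD G)).Exact :=
  (exact_iff_locIm _).2 fun p W x hx y hy => by
    obtain ⟨q, rfl⟩ := (dS_eq_zero_iff (FP G (Pp Y p)) 0 W x).1 ((godD_apply G 0 x).symm.trans hx)
    exact ⟨W, le_rfl, hy, q, (tr_id_self (God G 0) _).symm⟩

instance mono_godη : Mono (godη G) :=
  CategoryTheory.Sheaf.mono_of_injective _ fun x => η_app_injective (pl G x.unop.base.unop) x.unop.fiber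

/-- exactness in positive degrees -/
theorem exact_godD (n : ℕ) : (ShortComplex.mk (godD G n) (godD G (n + 1)) (godD_godD G n)).Exact :=
  (exact_iff_locIm _).2 fun p W x hx y hy => by
    obtain ⟨V, hV, hyV, t, ht⟩ := exists_local_preimage (FP G (Pp Y p)) n W x ((godD_apply G (n + 1) x).symm.trans hx) y hy
    exact ⟨V, hV, hyV, t, (godD_apply G n t).trans (ht.trans (gTr_id G hV (n + 1) x).symm)⟩

end Groth.Agent.FibDescLib
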