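import Groth.Agent.FibDescLib.CoskStep

/-! # Cohomological descent along hypercoverings -/

set_option autoImplicit false
set_option backward.isDefEq.respectTransparency false
set_option linter.style.haveILetI false

noncomputable section

universe u

open CategoryTheory CategoryTheory.Limits Opposite TopologicalSpace Simplicial AlgebraicTopology SimplexCategory

namespace Groth.Agent.FibDescLib

open ColSS Descent Descent.Rel

variable {S : TopCat.{u}}

/-- descent is invariant under isomorphisms -/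
theorem desc_of_simplicialIso {N N' : SimplicialObject (Over S)} (e : N ≅ N') (h : Desc N) : Desc N' := fun G V =>
  (tExact_congr (fun p => (colF (MV G V) (isStrictlyGE_MV G V) p).mapIso e.op.symm)
    fun p => colN_dh _ _ e.inv p).1 (h G V)

/-- exactness in one degree only needs the columns up to one more -/
lemma tExact_degree {C C' : Cols.{u}} (f : ∀ p, C.K p ⟶ C'.K p) (hf : ∀ p, f p ≫ C'.dh p = C.dh p ≫ f (p + 1))
    (n : ℤ) (h : ∀ p : ℕ, (p : ℤ) ≤ n + 1 → ∀ q, Function.Bijective ((f p).f q)) (hC : TExact C)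
    (x : C'.Pre) (hx : x ∈ C'.sub ⊤ n) (hD : C'.D x = 0) :
    ∃ τ ∈ C'.sub ⊤ (n - 1), C'.D τ = x := by
  classical
  let x' : C.Pre := fun p q => if hp : (p : ℤ) ≤ n + 1 then Classical.choose ((h p hp q).2 (x p q)) else 0
  have hx'f : mapPre f x' = x := funext fun p => funext fun q => by
    rw [mapPre_apply]
    by_cases hp : (p : ℤ) ≤ n + 1
    · simp only [x', dif_pos hp]
      exact Classical.choose_spec ((h p hp q).2 (x p q))
    · simp only [x', dif_neg hp, map_zero]
      by_cases hq : q < 0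
      · exact (C'.eq_zero_of_neg x p hq).symm
      · exact (eq_zero_of_off hx (by omega)).symm
  have hinj : ∀ (k : ℤ), k ≤ n + 1 → ∀ z ∈ C.sub ⊤ k, mapPre f z = 0 → z = 0 := fun k hk z hz hfz =>
    funext fun p => funext fun q => by
      by_cases hq : q < 0
      · exact C.eq_zero_of_neg z p hq
      by_cases hpk : (p : ℤ) + q = k
      · exact (h p (by omega) q).1 ((congrFun (congrFun hfz p) q).trans (map_zero ((f p).f q).hom).symm)
      · exact eq_zero_of_off hz hpk
  have hx'm : x' ∈ C.sub ⊤ n := fun p q hpq => by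
    by_cases hp : (p : ℤ) ≤ n + 1
    · refine (h p hp q).1 ((congrFun (congrFun hx'f p) q).trans ((hx p q hpq).trans (map_zero _).symm))
    · exact dif_neg hp
  obtain ⟨τ, hτ, e⟩ := hC n x' hx'm (hinj (n + 1) le_rfl _ (C.D_mem hx'm) (by rw [mapPre_D f hf, hx'f, hD]))
  exact ⟨mapPre f τ, mapPre_mem f hτ, by rw [← mapPre_D f hf, e, hx'f]⟩

section Nerve

variable {X : TopCat.{u}} (f : X ⟶ S)

/-- nerves are determined by their terms in degree zero -/
theorem isCosk_nerve : IsCosk 0 (nerve f) := fun p W c hc => by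
  let a : Fin (p.len + 1) → (⦋0⦌ ⟶ p) := fun i => SimplexCategory.const ⦋0⦌ p i
  let φ : W ⟶ (nerve f).obj (op p) := Over.homMk
    (WidePullback.lift W.hom
      (fun i => (c ⦋0⦌ le_rfl (a i)).left ≫ WidePullback.π (fun _ : Fin 1 => f) 0)
      (fun i => (Category.assoc _ _ _).trans
        ((congrArg (_ ≫ ·) (WidePullback.π_arrow (fun _ : Fin 1 => f) 0)).trans (Over.w (c ⦋0⦌ le_rfl (a i))))))
    (WidePullback.lift_base _ _ _ _)
  refine ⟨φ, fun j hj α => ?_, fun ψ hψ => ?_⟩
  · obtain rfl : j = ⦋0⦌ := SimplexCategory.ext (Nat.le_zero.1 hj)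
    refine Over.OverMorphism.ext (WidePullback.hom_ext _ _ _ (fun i => ?_) ?_)
    · obtain rfl : i = 0 := Subsingleton.elim (α := Fin 1) i 0
      have : a (α.toOrderHom 0) = α := (SimplexCategory.eq_const_of_zero α).symm
      simp [φ, Descent.nerve]
      exact congrArg (fun b => (c ⦋0⦌ le_rfl b).left ≫ WidePullback.π (fun _ : Fin 1 => f) 0) this
    · exact (Over.w (φ ≫ (nerve f).map α.op)).trans (Over.w (c ⦋0⦌ hj α)).symm
  · refine Over.OverMorphism.ext (WidePullback.hom_ext _ _ _ (fun i => ?_) ?_)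
    · have h := congrArg (fun k => k.left ≫ WidePullback.π (fun _ : Fin 1 => f) 0) (hψ ⦋0⦌ le_rfl (a i))
      rw [show φ.left = WidePullback.lift W.hom _ _ from rfl, WidePullback.lift_π]
      refine Eq.trans ?_ h
      simp [Descent.nerve, a]
    · exact (Over.w ψ).trans (Over.w φ).symm

/-- the map to a nerve -/
def toNerve (N : SimplicialObject (Over S)) (a : N.obj (op ⦋0⦌) ⟶ Over.mk f) : N ⟶ nerve f where
  app p := Over.homMk
    (WidePullback.lift (N.obj p).hom (fun i => (N.map (SimplexCategory.const ⦋0⦌ p.unop i).op ≫ a).left)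
      (fun i => Over.w (N.map (SimplexCategory.const ⦋0⦌ p.unop i).op ≫ a)))
    (WidePullback.lift_base _ _ _ _)
  naturality p p' g := Over.OverMorphism.ext (WidePullback.hom_ext _ _ _ (fun i => by
    simp [Descent.nerve]
    rw [← Category.assoc, ← Over.comp_left, ← N.map_comp]
    rfl) (by simp [Descent.nerve]))

lemma isIso_toNerve_zero (N : SimplicialObject (Over S)) (a : N.obj (op ⦋0⦌) ⟶ Over.mk f) [IsIso a] :
    IsIso ((toNerve f N a).app (op ⦋0⦌)) := by
  let π₀ : (nerve f).obj (op ⦋0⦌) ⟶ Over.mk f :=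
    Over.homMk (WidePullback.π (fun _ : Fin 1 => f) 0) (WidePullback.π_arrow (fun _ : Fin 1 => f) 0)
  have h1 : (toNerve f N a).app (op ⦋0⦌) ≫ π₀ = a := Over.OverMorphism.ext (by
    refine (WidePullback.lift_π _ _ _ _ (0 : Fin 1)).trans ?_
    rw [show SimplexCategory.const ⦋0⦌ ⦋0⦌ 0 = 𝟙 _ from (SimplexCategory.eq_const_of_zero (𝟙 ⦋0⦌)).symm]
    simp)
  have h2 : π₀ ≫ inv a ≫ (toNerve f N a).app (op ⦋0⦌) = 𝟙 _ := by
    refine Over.OverMorphism.ext (WidePullback.hom_ext _ _ _ (fun i => ?_) ?_)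
    · obtain rfl : i = 0 := Subsingleton.elim (α := Fin 1) i 0
      exact (congrArg Over.Hom.left (show (π₀ ≫ inv a ≫ (toNerve f N a).app (op ⦋0⦌)) ≫ π₀ = π₀ by
        rw [Category.assoc, Category.assoc, h1, IsIso.inv_hom_id, Category.comp_id])).trans (Category.id_comp _).symm
    · exact (Over.w _).trans (Category.id_comp _).symm
  exact ⟨π₀ ≫ inv a, by rw [← Category.assoc, h1, IsIso.hom_inv_id], (Category.assoc _ _ _).trans h2⟩

end Nerve

variable (K : SimplicialObject (Over S)) (h0 : FibDesc.IsUnivCohDescentMap (K.obj (op ⦋0⦌)).hom)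
  (hn : ∀ n : ℕ, FibDesc.IsUnivCohDescentMap
    (((SimplicialObject.coskAdj n).unit.app K).app (op ⦋n + 1⦌)).left)

include h0 in
theorem desc_cosk_zero : Desc ((SimplicialObject.cosk 0).obj K) := by
  haveI := isIso_unit 0 K ⦋0⦌ le_rfl
  let e : K.obj (op ⦋0⦌) ≅ Over.mk (K.obj (op ⦋0⦌)).hom := Over.isoMk (Iso.refl _) (Category.id_comp _)
  let a : ((SimplicialObject.cosk 0).obj K).obj (op ⦋0⦌) ⟶ Over.mk (K.obj (op ⦋0⦌)).hom :=
    inv (((SimplicialObject.coskAdj 0).unit.app K).app (op ⦋0⦌)) ≫ e.hom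
  haveI : IsIso a := IsIso.comp_isIso' inferInstance e.isIso_hom
  haveI := isIso_toNerve_zero (K.obj (op ⦋0⦌)).hom ((SimplicialObject.cosk 0).obj K) a
  haveI := IsCosk.isIso_of_le (isCosk_cosk 0 K) (isCosk_nerve (K.obj (op ⦋0⦌)).hom)
    (toNerve (K.obj (op ⦋0⦌)).hom ((SimplicialObject.cosk 0).obj K) a) fun j hj => by
      obtain rfl : j = ⦋0⦌ := SimplexCategory.ext (Nat.le_zero.1 hj)
      infer_instance
  exact desc_of_simplicialIso (asIso (toNerve (K.obj (op ⦋0⦌)).hom ((SimplicialObject.cosk 0).obj K) a)).symm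
    ((isCohDescentMap_iff_desc _).1 (isCohDescentMap_of_isPullback (g' := 𝟙 _) (g := 𝟙 _)
      (IsPullback.of_horiz_isIso ⟨by simp⟩) h0))

include h0 hn in
theorem desc_cosk (m : ℕ) : Desc ((SimplicialObject.cosk m).obj K) := by
  induction m with
  | zero => exact desc_cosk_zero K h0
  | succ m ih =>
    let u := (SimplicialObject.coskAdj m).unit.app K
    let u' := (SimplicialObject.coskAdj (m + 1)).unit.app K
    have hiu : ∀ (j : SimplexCategory), j.len ≤ m + 1 → IsIso (u'.app (op j)) := fun j hj => isIso_unit (m + 1) K j hj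
    let L := (SimplicialObject.cosk m).obj K
    let K' := (SimplicialObject.cosk (m + 1)).obj K
    have hL : IsCosk m L := isCosk_cosk m K
    let f : ∀ (j : SimplexCategory), j.len ≤ m → (K'.obj (op j) ⟶ L.obj (op j)) := fun j hj =>
      haveI := hiu j (hj.trans (Nat.le_succ m))
      inv (u'.app (op j)) ≫ u.app (op j)
    have hf : ∀ (j j' : SimplexCategory) (hj : j.len ≤ m) (hj' : j'.len ≤ m) (γ : j' ⟶ j),
        K'.map γ.op ≫ f j' hj' = f j hj ≫ L.map γ.op := fun j j' hj hj' γ => by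
      haveI := hiu j (hj.trans (Nat.le_succ m))
      haveI := hiu j' (hj'.trans (Nat.le_succ m))
      show K'.map γ.op ≫ inv (u'.app (op j')) ≫ u.app (op j') = (inv (u'.app (op j)) ≫ u.app (op j)) ≫ L.map γ.op
      rw [Category.assoc, IsIso.eq_inv_comp, ← Category.assoc, ← Category.assoc, ← u'.naturality]
      simp only [Category.assoc, IsIso.hom_inv_id_assoc]
      exact u.naturality γ.op
    let r : K' ⟶ L := hL.extend f hf
    have hur : u' ≫ r = u := hL.nat_ext fun j hj => by
      haveI := hiu j (hj.trans (Nat.le_succ m))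
      rw [NatTrans.comp_app, IsCosk.extend_app hL f hf j hj]
      exact IsIso.hom_inv_id_assoc _ _
    have hiso : ∀ (j : SimplexCategory), j.len ≤ m → IsIso (r.app (op j)) := fun j hj => by
      haveI := hiu j (hj.trans (Nat.le_succ m))
      haveI : IsIso (u.app (op j)) := isIso_unit m K j hj
      rw [IsCosk.extend_app hL f hf j hj]
      exact IsIso.comp_isIso
    refine desc_step r (isCosk_cosk (m + 1) K) hL hiso ?_ ih
    haveI := hiu ⦋m + 1⦌ le_rfl
    have e : r.app (op ⦋m + 1⦌) = inv (u'.app (op ⦋m + 1⦌)) ≫ u.app (op ⦋m + 1⦌) := by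
      rw [IsIso.eq_inv_comp, ← NatTrans.comp_app, hur]
    rw [e, Over.comp_left]
    exact isUniv_comp _ _ (isUniv_of_isIso _) (hn m)

include h0 hn in
/-- hypercoverings for universal descent satisfy descent -/
theorem desc_hypercovering : Desc K := fun G V n x hx hD => by
  let u := (SimplicialObject.coskAdj (n.toNat + 1)).unit.app K
  refine tExact_degree (colN (MV G V) (isStrictlyGE_MV G V) u) (colN_dh _ _ u) n (fun p hp q => ?_)
    (desc_cosk K h0 hn _ G V) x hx hD
  rcases p with _ | p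
  · exact ⟨fun a b h => h, fun y => ⟨y, rfl⟩⟩
  · haveI : IsIso (u.app (op ⦋p⦌)) := isIso_unit _ K ⦋p⦌ (show p ≤ n.toNat + 1 by omega)
    haveI : IsIso ((MV G V).map (u.app (op ⦋p⦌)).op) := inferInstance
    exact (ConcreteCategory.isIso_iff_bijective _).1
      (inferInstanceAs (IsIso ((HomologicalComplex.eval _ _ q).map ((MV G V).map (u.app (op ⦋p⦌)).op))))

end Groth.Agent.FibDescLib
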