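import Groth.Agent.FibDescLib.Desc
import Groth.Agent.Descent.Proper

/-! # Descent along proper maps and maps with sections -/

set_option autoImplicit false
set_option linter.style.haveILetI false

noncomputable section

universe u

open CategoryTheory CategoryTheory.Limits Opposite TopologicalSpace Simplicial AlgebraicTopology

namespace Groth.Agent.FibDescLib

open Descent Descent.Rel

variable {X S : TopCat.{u}} (f : X ⟶ S)

/-- descent of a map through its nerve -/
theorem isCohDescentMap_iff_desc : FibDesc.IsCohDescentMap f ↔ Desc (nerve f) :=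
  isCohDescentTop_iff_desc (FibDesc.cechAug f)

section Section

variable (s : S ⟶ X) (hs : s ≫ f = 𝟙 S)

include hs in
/-- a section makes the rows of any functor exact -/
theorem augExact_nerve_of_section (T' : (Over S)ᵒᵖ ⥤ CochainComplex AddCommGrpCat.{u} ℤ) (q : ℤ) :
    AugExact (evalDeg ((nerve f).rightOp ⋙ T') q) ((augT (nerve f) T').f q) := by
  let ed := Arrow.AugmentedCechNerve.extraDegeneracy (Arrow.mk f) ⟨s, hs⟩
  let T := T' ⋙ HomologicalComplex.eval _ (ComplexShape.up ℤ) q
  have key : ∀ {a b c : (Over S)} (u : a ⟶ b) (v : b ⟶ c) (x : T.obj (op c)),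
      T.map u.op (T.map v.op x) = T.map (u ≫ v).op x := fun u v x =>
    (ConcreteCategory.congr_hom (T.map_comp v.op u.op) x).symm
  have keyid : ∀ (a : Over S) (x : T.obj (op a)), T.map (𝟙 a).op x = x := fun a x =>
    ConcreteCategory.congr_hom (T.map_id (op a)) x
  refine augExact_of_extraDegeneracy _ _ ((T.map (sOver' f s hs).op).hom)
    (fun p => (T.map (sOver f s hs p).op).hom) (fun y => ?_) (fun x => ?_) (fun p x => ?_) (fun p i x => ?_)
  · refine (key _ (toBase _) y).trans ((congrArg (fun m => T.map (Quiver.Hom.op m) y) ?_).trans (keyid _ y))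
    exact Over.OverMorphism.ext ((Category.comp_id _).symm.trans (Over.w (sOver' f s hs ≫ toBase _)))
  · refine (key _ ((nerve f).map (SimplexCategory.δ 1).op) x).trans
      ((congrArg (fun m => T.map (Quiver.Hom.op m) x) ?_).trans (key (toBase _) (sOver' f s hs) x).symm)
    exact Over.OverMorphism.ext ed.s₀_comp_δ₁
  · refine (key _ ((nerve f).map (SimplexCategory.δ 0).op) x).trans
      ((congrArg (fun m => T.map (Quiver.Hom.op m) x) ?_).trans (keyid _ x))
    exact Over.OverMorphism.ext (ed.s_comp_δ₀ p)
  · refine (key _ ((nerve f).map (SimplexCategory.δ i.succ).op) x).trans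
      ((congrArg (fun m => T.map (Quiver.Hom.op m) x) ?_).trans
        (key ((nerve f).map (SimplexCategory.δ i).op) (sOver f s hs p) x).symm)
    exact Over.OverMorphism.ext (ed.s_comp_δ p i)

include hs in
theorem desc_of_section : Desc (nerve f) := fun G V n x hx hD =>
  exact_colsT (nerve f) (isStrictlyGE_MV G V) (augExact_nerve_of_section f s hs (MV G V)) n x hx hD

end Section

theorem desc_of_proper (hf : IsProperMap f)
    (hs : ∀ x x' : X, f x = f x' → x ≠ x' → ∃ U V : Set X, IsOpen U ∧ IsOpen V ∧ x ∈ U ∧ x' ∈ V ∧ Disjoint U V)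
    (hsurj : Function.Surjective f) : Desc (nerve f) := fun G V n x hx hD =>
  exact_CV G (properTerms_nerve f hf hs)
    (fun s q => augExact_fib s (hsurj s).choose (hsurj s).choose_spec G q) V n x hx hD

end Groth.Agent.FibDescLib
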