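import Groth.Agent.FibDescLib.Fam
import Mathlib.Algebra.Homology.ShortComplex.Ab
import Mathlib.CategoryTheory.Sites.EpiMono

/-! # Exactness on the total site, locally on the terms -/

set_option autoImplicit false
set_option linter.style.haveILetI false

noncomputable section

universe u

open CategoryTheory CategoryTheory.Limits Opposite TopologicalSpace Simplicial Pseudofunctor.CoGrothendieck FibSite

namespace Groth.Agent.FibDescLib

variable {Y : (WithInitial SimplexCategory)ᵒᵖ ⥤ TopCat.{u}}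

variable (Y) in
/-- evaluation on an object of the total site -/
abbrev ev (x : (P0 Y)ᵒᵖ) : DS Y ⥤ AddCommGrpCat.{u} := sheafToPresheaf _ _ ⋙ (evaluation _ _).obj x

instance preservesFiniteLimits_ev (x : (P0 Y)ᵒᵖ) : PreservesFiniteLimits (ev Y x) :=
  comp_preservesFiniteLimits _ _

instance additive_ev (x : (P0 Y)ᵒᵖ) : (ev Y x).Additive where

/-- sections of a kernel -/
lemma exists_kernel_sec {H H' : DS Y} (g : H ⟶ H') {p : SimplexCategory} {W : Opens (Np Y p)} (x : sec H p W)
    (hx : g.hom.app (op (pObj Y p W)) x = 0) :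
    ∃ z : sec (kernel g) p W, (kernel.ι g).hom.app (op (pObj Y p W)) z = x := by
  let S : ShortComplex (DS Y) := ShortComplex.mk (kernel.ι g) g (kernel.condition g)
  have hS : S.Exact := ShortComplex.exact_of_f_is_kernel _ (kernelIsKernel g)
  have h := hS.map_of_mono_of_preservesKernel (ev Y (op (pObj Y p W))) (inferInstanceAs (Mono (kernel.ι g))) inferInstance
  exact ((S.map (ev Y (op (pObj Y p W)))).ab_exact_iff).1 h x hx

/-- locally a preimage -/
def LocIm {H H' : DS Y} (f : H ⟶ H') {p : SimplexCategory} {W : Opens (Np Y p)} (x : sec H' p W) : Prop :=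
  ∀ y ∈ W, ∃ (W' : Opens (Np Y p)) (hW' : W' ≤ W), y ∈ W' ∧
    ∃ t : sec H p W', f.hom.app (op (pObj Y p W')) t = tr H' (𝟙 p) (le_id hW') x

lemma pHom_eq {p : SimplexCategory} {W W' : Opens (Np Y p)} (h : W' ≤ W) :
    (ι (FibDesc.part (FibDesc.topAug Y)) (op p)).map ((homOfLE h : W' ⟶ W) :) = pHom Y (𝟙 p) (le_id h) :=
  thin_ext Y rfl

theorem epi_of_locIm {H H' : DS Y} (f : H ⟶ H')
    (h : ∀ (p : SimplexCategory) (W : Opens (Np Y p)) (x : sec H' p W), LocIm f x) : Epi f := by
  haveI : Sheaf.IsLocallySurjective f := ⟨fun {U} x => by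
    obtain ⟨⟨p⟩, W⟩ := U
    revert W
    intro (W : Opens (Np Y p)) x
    refine (Groth.Agent.FibTop.mem_total_iff (isPreFibSite_part Y) _ _).2
      ⟨(Presheaf.imageSieve f.hom x).functorPullback (ι (FibDesc.part (FibDesc.topAug Y)) (op p)), ?_,
        (Sieve.functorPushforward_le_iff_le_functorPullback _ _ _).2 le_rfl⟩
    intro y hy
    obtain ⟨W', hW', hyW', t, ht⟩ := h p W x y hy
    refine ⟨W', homOfLE hW', ⟨t, ?_⟩, hyW'⟩
    exact ht.trans (congrArg (fun m => H'.obj.map m x) (congrArg Quiver.Hom.op (pHom_eq hW').symm))⟩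
  infer_instance

theorem locIm_of_epi {H H' : DS Y} (f : H ⟶ H') [Epi f] {p : SimplexCategory} {W : Opens (Np Y p)}
    (x : sec H' p W) : LocIm f x := by
  haveI : Sheaf.IsLocallySurjective f := (Sheaf.isLocallySurjective_iff_epi' (φ := f)).2 inferInstance
  obtain ⟨R, hR, hle⟩ := (Groth.Agent.FibTop.mem_total_iff (isPreFibSite_part Y) _ _).1
    (Presheaf.imageSieve_mem (J := FibDesc.totPart (FibDesc.topAug Y) (FibDesc.topAugTop Y)) f.hom
      (U := op (pObj Y p W)) x)
  intro y hy
  obtain ⟨W', k, hk, hyW'⟩ := hR y hy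
  obtain ⟨t, ht⟩ := hle _ (Sieve.image_mem_functorPushforward _ _ hk)
  refine ⟨W', (k : W' ⟶ W).le, hyW', t, ht.trans ?_⟩
  exact congrArg (fun m => H'.obj.map m x) (congrArg Quiver.Hom.op (thin_ext Y rfl))

/-- exactness is local on the terms -/
theorem exact_iff_locIm (S : ShortComplex (DS Y)) :
    S.Exact ↔ ∀ (p : SimplexCategory) (W : Opens (Np Y p)) (x : sec S.X₂ p W),
      S.g.hom.app (op (pObj Y p W)) x = 0 → LocIm S.f x := by
  have hk : ∀ (p : SimplexCategory) (W : Opens (Np Y p)) (t : sec S.X₁ p W),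
      (kernel.ι S.g).hom.app (op (pObj Y p W)) ((kernel.lift S.g S.f S.zero).hom.app (op (pObj Y p W)) t) =
        S.f.hom.app (op (pObj Y p W)) t := fun p W t =>
    ConcreteCategory.congr_hom (congrArg (fun m : S.X₁ ⟶ S.X₂ => m.hom.app (op (pObj Y p W)))
      (kernel.lift_ι S.g S.f S.zero)) t
  have hinj : ∀ (p : SimplexCategory) (W : Opens (Np Y p)),
      Function.Injective ((kernel.ι S.g).hom.app (op (pObj Y p W))) := fun p W => by
    haveI : Mono ((ev Y (op (pObj Y p W))).map (kernel.ι S.g)) := inferInstance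
    exact (AddCommGrpCat.mono_iff_injective _).1 this
  rw [S.exact_iff_epi_kernel_lift]
  refine ⟨fun _ p W x hx y hy => ?_, fun h => epi_of_locIm _ fun p W z y hy => ?_⟩
  · obtain ⟨z, rfl⟩ := exists_kernel_sec S.g x hx
    obtain ⟨W', hW', hyW', t, ht⟩ := locIm_of_epi (kernel.lift S.g S.f S.zero) z y hy
    refine ⟨W', hW', hyW', t, ((hk p W' t).symm.trans (congrArg _ ht)).trans ?_⟩
    exact app_tr (kernel.ι S.g) (le_id hW') z
  · have hx : S.g.hom.app (op (pObj Y p W)) ((kernel.ι S.g).hom.app (op (pObj Y p W)) z) = 0 :=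
      ConcreteCategory.congr_hom (congrArg (fun m : kernel S.g ⟶ S.X₃ => m.hom.app (op (pObj Y p W)))
        (kernel.condition S.g)) z
    obtain ⟨W', hW', hyW', t, ht⟩ := h p W _ hx y hy
    refine ⟨W', hW', hyW', t, hinj p W' ?_⟩
    exact (hk p W' t).trans (ht.trans (app_tr (kernel.ι S.g) (le_id hW') z).symm)

end Groth.Agent.FibDescLib
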