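import Groth.Agent.FibDescLib.Transfer
import Groth.Agent.Descent.Relative
import Groth.Agent.SoftSheaf.FlasqueExact
import Mathlib.Topology.Sheaves.SheafCondition.UniqueGluing

/-! # Comparison of flasque resolutions on sections -/

set_option autoImplicit false
set_option linter.style.haveILetI false

noncomputable section

universe u

open CategoryTheory CategoryTheory.Limits Opposite TopologicalSpace

namespace Groth.Agent.FibDescLib

open Descent.Rel SoftSheaf

/-- elementwise form of a quasi-isomorphism of complexes in non negative degrees -/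
structure QIN {A B : CochainComplex AddCommGrpCat.{u} ℕ} (φ : A ⟶ B) : Prop where
  inj₀ : ∀ k : A.X 0, A.d 0 1 k = 0 → φ.f 0 k = 0 → k = 0
  mid₀ : ∀ (k : A.X 1) (l : B.X 0), A.d 1 2 k = 0 → φ.f 1 k = B.d 0 1 l → ∃ w, A.d 0 1 w = k ∧ φ.f 0 w = l
  mid : ∀ (n : ℕ) (k : A.X (n + 2)) (l : B.X (n + 1)), A.d (n + 2) (n + 3) k = 0 →
    φ.f (n + 2) k = B.d (n + 1) (n + 2) l → ∃ w v, A.d (n + 1) (n + 2) w = k ∧ φ.f (n + 1) w + B.d n (n + 1) v = l

section Extend

variable {A B : CochainComplex AddCommGrpCat.{u} ℕ} (φ : A ⟶ B)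

/-- the extension -/
abbrev extM : (ComplexShape.embeddingUpNat.extendFunctor AddCommGrpCat.{u}).obj A ⟶
    (ComplexShape.embeddingUpNat.extendFunctor AddCommGrpCat.{u}).obj B :=
  (ComplexShape.embeddingUpNat.extendFunctor AddCommGrpCat.{u}).map φ

lemma qi_ext_aux (h : QIN φ) (q qm qmm qp : ℤ) (hm : qm = q - 1) (hmm : qmm = qm - 1) (hp : qp = q + 1)
    (k : ((ComplexShape.embeddingUpNat.extendFunctor AddCommGrpCat.{u}).obj A).X q)
    (l : ((ComplexShape.embeddingUpNat.extendFunctor AddCommGrpCat.{u}).obj B).X qm)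
    (hk : ((ComplexShape.embeddingUpNat.extendFunctor AddCommGrpCat.{u}).obj A).d q qp k = 0)
    (hkl : (extM φ).f q k = ((ComplexShape.embeddingUpNat.extendFunctor AddCommGrpCat.{u}).obj B).d qm q l) :
    ∃ w v, ((ComplexShape.embeddingUpNat.extendFunctor AddCommGrpCat.{u}).obj A).d qm q w = k ∧
      (extM φ).f qm w + ((ComplexShape.embeddingUpNat.extendFunctor AddCommGrpCat.{u}).obj B).d qmm qm v = l := by
  by_cases hq : q < 0
  · exact ⟨0, 0, (subsingleton_extend A hq).elim _ _, (subsingleton_extend B (show qm < 0 by omega)).elim _ _⟩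
  obtain ⟨n, rfl⟩ := Int.eq_ofNat_of_zero_le (not_lt.1 hq)
  obtain rfl : qp = ((n + 1 : ℕ) : ℤ) := by push_cast; omega
  have hk' : A.d n (n + 1) ((eX A n).hom k) = 0 :=
    (eX_d A n (n + 1) _ _ rfl rfl k).symm.trans ((congrArg _ hk).trans (map_zero _))
  obtain _ | n := n
  · have hb := subsingleton_extend B (show qm < 0 by omega)
    refine ⟨0, 0, (map_zero _).trans (eX_injective A 0 ?_).symm, hb.elim _ _⟩
    rw [map_zero]
    refine h.inj₀ _ hk' ?_
    refine (eX_map φ 0 k).symm.trans ?_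
    exact (congrArg (eX B 0).hom (hkl.trans ((congrArg _ (hb.elim l 0)).trans (map_zero _)))).trans (map_zero _)
  obtain rfl : qm = (n : ℤ) := by push_cast at hm; omega
  have hkl' : φ.f (n + 1) ((eX A (n + 1)).hom k) = B.d n (n + 1) ((eX B n).hom l) :=
    (eX_map φ (n + 1) k).symm.trans ((congrArg (eX B (n + 1)).hom hkl).trans (eX_d B n (n + 1) _ _ rfl rfl l))
  obtain _ | n := n
  · obtain ⟨w, hw, hw'⟩ := h.mid₀ _ _ hk' hkl'
    obtain ⟨w', rfl⟩ := eX_surjective A 0 w
    refine ⟨w', 0, eX_injective A 1 ((eX_d A 0 1 _ _ rfl rfl w').trans hw), eX_injective B 0 ?_⟩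
    rw [map_zero, add_zero]
    exact (eX_map φ 0 w').trans hw'
  obtain rfl : qmm = (n : ℤ) := by push_cast at hmm; omega
  obtain ⟨w, v, hw, hv⟩ := h.mid n _ _ hk' hkl'
  obtain ⟨w', rfl⟩ := eX_surjective A (n + 1) w
  obtain ⟨v', rfl⟩ := eX_surjective B n v
  refine ⟨w', v', eX_injective A (n + 2) ((eX_d A (n + 1) (n + 2) _ _ rfl rfl w').trans hw), eX_injective B (n + 1) ?_⟩
  refine (map_add (eX B (n + 1)).hom.hom _ _).trans ?_
  exact (congrArg₂ (· + ·) (eX_map φ (n + 1) w') (eX_d B n (n + 1) _ _ rfl rfl v')).trans hv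

theorem qi_ext (h : QIN φ) : QI (extM φ) := fun q k l hk hkl =>
  qi_ext_aux φ h q (q - 1) (q - 1 - 1) (q + 1) rfl rfl rfl k l hk hkl

lemma qi_unext (h : QI (extM φ)) (q qm qmm qp : ℤ) (hm : qm = q - 1) (hmm : qmm = qm - 1) (hp : qp = q + 1) :
    ∀ (k : ((ComplexShape.embeddingUpNat.extendFunctor AddCommGrpCat.{u}).obj A).X q) l,
      ((ComplexShape.embeddingUpNat.extendFunctor AddCommGrpCat.{u}).obj A).d q qp k = 0 →
      (extM φ).f q k = ((ComplexShape.embeddingUpNat.extendFunctor AddCommGrpCat.{u}).obj B).d qm q l →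
      ∃ w v, ((ComplexShape.embeddingUpNat.extendFunctor AddCommGrpCat.{u}).obj A).d qm q w = k ∧
        (extM φ).f qm w + ((ComplexShape.embeddingUpNat.extendFunctor AddCommGrpCat.{u}).obj B).d qmm qm v = l := by
  subst hm hmm hp
  exact h q

lemma qi_unext_nat (h : QI (extM φ)) (n : ℕ) (qm qmm : ℤ) (hm : qm = (n : ℤ) - 1) (hmm : qmm = qm - 1)
    (k : A.X n) (hk : A.d n (n + 1) k = 0) (l : ((ComplexShape.embeddingUpNat.extendFunctor AddCommGrpCat.{u}).obj B).X qm)
    (hkl : φ.f n k = (eX B n).hom (((ComplexShape.embeddingUpNat.extendFunctor AddCommGrpCat.{u}).obj B).d qm n l)) :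
    ∃ w v, (eX A n).hom (((ComplexShape.embeddingUpNat.extendFunctor AddCommGrpCat.{u}).obj A).d qm n w) = k ∧
      (extM φ).f qm w + ((ComplexShape.embeddingUpNat.extendFunctor AddCommGrpCat.{u}).obj B).d qmm qm v = l := by
  obtain ⟨k', rfl⟩ := eX_surjective A n k
  obtain ⟨w, v, hw, hv⟩ := qi_unext φ h n qm qmm ((n + 1 : ℕ) : ℤ) hm hmm (by push_cast; rfl) k' l
    (eX_injective A (n + 1) ((eX_d A n (n + 1) _ _ rfl rfl k').trans (hk.trans (map_zero _).symm)))
    (eX_injective B n ((eX_map φ n k').trans hkl))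
  exact ⟨w, v, congrArg (eX A n).hom hw, hv⟩

theorem qin_of_qi (h : QI (extM φ)) : QIN φ where
  inj₀ k hk hk' := by
    obtain ⟨w, v, hw, -⟩ := qi_unext_nat φ h 0 (-1) (-2) (by simp) (by simp) k hk 0 (by rw [map_zero, map_zero]; exact hk')
    rw [← hw, (subsingleton_extend A (show (-1 : ℤ) < 0 by omega)).elim w 0, map_zero, map_zero]
  mid₀ k l hk hkl := by
    obtain ⟨l', rfl⟩ := eX_surjective B 0 l
    obtain ⟨w, v, hw, hv⟩ := qi_unext_nat φ h 1 ((0 : ℕ) : ℤ) (-1) (by simp) (by simp) k hk l'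
      (hkl.trans (eX_d B 0 1 _ _ rfl rfl l').symm)
    refine ⟨(eX A 0).hom w, (eX_d A 0 1 _ _ rfl rfl w).symm.trans hw, ?_⟩
    rw [(subsingleton_extend B (show (-1 : ℤ) < 0 by omega)).elim v 0, map_zero, add_zero] at hv
    exact (eX_map φ 0 w).symm.trans (congrArg (eX B 0).hom hv)
  mid n k l hk hkl := by
    obtain ⟨l', rfl⟩ := eX_surjective B (n + 1) l
    obtain ⟨w, v, hw, hv⟩ := qi_unext_nat φ h (n + 2) ((n + 1 : ℕ) : ℤ) (n : ℤ) (by push_cast; omega) (by push_cast; omega) k hk l'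
      (hkl.trans (eX_d B (n + 1) (n + 2) _ _ rfl rfl l').symm)
    refine ⟨(eX A (n + 1)).hom w, (eX B n).hom v, (eX_d A (n + 1) (n + 2) _ _ rfl rfl w).symm.trans hw, ?_⟩
    refine Eq.trans ?_ (congrArg (eX B (n + 1)).hom hv)
    exact ((map_add (eX B (n + 1)).hom.hom _ _).trans
      (congrArg₂ (· + ·) (eX_map φ (n + 1) w) (eX_d B n (n + 1) _ _ rfl rfl v))).symm

end Extend

/-- a flasque resolution, elementwise -/
structure Res {X : TopCat.{u}} (F : CohTop.Ab X) where
  /-- the terms -/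
  T : ℕ → CohTop.Ab X
  /-- the differentials -/
  d : ∀ n, T n ⟶ T (n + 1)
  d_d : ∀ n, d n ≫ d (n + 1) = 0
  flasque : ∀ n, TopCat.Sheaf.IsFlasque (T n)
  /-- the augmentation -/
  ι : F ⟶ T 0
  inj : ∀ U : Opens X, Function.Injective (ι.hom.app (op U))
  ι_d : ι ≫ d 0 = 0
  zero : ∀ (U : Opens X) (x : (T 0).obj.obj (op U)), (d 0).hom.app (op U) x = 0 → ∃ g, ι.hom.app (op U) g = x
  succ : ∀ (n : ℕ) (U : Opens X) (x : (T (n + 1)).obj.obj (op U)), (d (n + 1)).hom.app (op U) x = 0 →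
    ∀ s ∈ U, ∃ (V : Opens X) (hV : V ≤ U), s ∈ V ∧ ∃ t, (d n).hom.app (op V) t = (T (n + 1)).obj.map (homOfLE hV).op x

namespace Res

variable {X : TopCat.{u}} {F : CohTop.Ab X} (R R' : Res F) (f : ∀ n, R.T n ⟶ R'.T n)
  (hf : ∀ n, f n ≫ R'.d n = R.d n ≫ f (n + 1)) (hι : R.ι ≫ f 0 = R'.ι)

/-- sections over an open -/
def secCx (U : Opens X) : CochainComplex AddCommGrpCat.{u} ℕ :=
  CochainComplex.of (fun n => (R.T n).obj.obj (op U)) (fun n => (R.d n).hom.app (op U)) fun n =>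
    congrArg (fun m : R.T n ⟶ R.T (n + 1 + 1) => m.hom.app (op U)) (R.d_d n)

lemma secCx_d (U : Opens X) (n : ℕ) : (R.secCx U).d n (n + 1) = (R.d n).hom.app (op U) :=
  CochainComplex.of_d (X := fun n => (R.T n).obj.obj (op U)) (fun n => (R.d n).hom.app (op U)) n

/-- the product of two sheaves -/
def prodSh (A B : CohTop.Ab X) : CohTop.Ab X :=
  ⟨{ obj := fun U => AddCommGrpCat.of (A.obj.obj U × B.obj.obj U)
     map := fun h => AddCommGrpCat.ofHom ((A.obj.map h).hom.prodMap (B.obj.map h).hom)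
     map_id := fun U => AddCommGrpCat.ext fun x => Prod.ext (ConcreteCategory.congr_hom (A.obj.map_id U) x.1)
       (ConcreteCategory.congr_hom (B.obj.map_id U) x.2)
     map_comp := fun h h' => AddCommGrpCat.ext fun x => Prod.ext (ConcreteCategory.congr_hom (A.obj.map_comp h h') x.1)
       (ConcreteCategory.congr_hom (B.obj.map_comp h h') x.2) }, by
    show TopCat.Presheaf.IsSheaf _
    rw [TopCat.Presheaf.isSheaf_iff_isSheafUniqueGluing]
    intro κ U sf hsf
    obtain ⟨a, ha, ha'⟩ := (TopCat.Presheaf.isSheaf_iff_isSheafUniqueGluing A.obj).1 A.2 U (fun i => (sf i).1)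
      (fun i j => congrArg Prod.fst (hsf i j))
    obtain ⟨b, hb, hb'⟩ := (TopCat.Presheaf.isSheaf_iff_isSheafUniqueGluing B.obj).1 B.2 U (fun i => (sf i).2)
      (fun i j => congrArg Prod.snd (hsf i j))
    exact ⟨(a, b), fun i => Prod.ext (ha i) (hb i), fun t ht =>
      Prod.ext (ha' t.1 fun i => congrArg Prod.fst (ht i)) (hb' t.2 fun i => congrArg Prod.snd (ht i))⟩⟩

/-- the cone -/
def coneT : ℕ → CohTop.Ab X
  | 0 => R.T 0
  | n + 1 => prodSh (R.T (n + 1)) (R'.T n)

/-- the differential of the cone -/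
def coneD : ∀ n, coneT R R' n ⟶ coneT R R' (n + 1)
  | 0 => ⟨{ app := fun U => AddCommGrpCat.ofHom (AddMonoidHom.prod ((R.d 0).hom.app U).hom ((f 0).hom.app U).hom)
            naturality := fun U V h => AddCommGrpCat.ext fun x => Prod.ext
              (ConcreteCategory.congr_hom ((R.d 0).hom.naturality h) x)
              (ConcreteCategory.congr_hom ((f 0).hom.naturality h) x) }⟩
  | n + 1 =>
    ⟨{ app := fun U => AddCommGrpCat.ofHom (AddMonoidHom.prod
          (((R.d (n + 1)).hom.app U).hom.comp (AddMonoidHom.fst _ _))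
          (((f (n + 1)).hom.app U).hom.comp (AddMonoidHom.fst _ _) - ((R'.d n).hom.app U).hom.comp (AddMonoidHom.snd _ _)))
       naturality := fun U V h => AddCommGrpCat.ext fun x => Prod.ext
          (ConcreteCategory.congr_hom ((R.d (n + 1)).hom.naturality h) x.1)
          (by
            show (f (n + 1)).hom.app V ((R.T (n + 1)).obj.map h x.1) - (R'.d n).hom.app V ((R'.T n).obj.map h x.2) =
              (R'.T (n + 1)).obj.map h ((f (n + 1)).hom.app U x.1 - (R'.d n).hom.app U x.2)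
            rw [map_sub, NatTrans.naturality_apply, NatTrans.naturality_apply]) }⟩

include hf in
lemma coneD_coneD : ∀ n, coneD R R' f n ≫ coneD R R' f (n + 1) = 0 := fun n => by
  refine CategoryTheory.Sheaf.hom_ext (NatTrans.ext (funext fun U => AddCommGrpCat.ext fun x => ?_))
  rcases n with _ | n
  · refine Prod.ext (ConcreteCategory.congr_hom (congrArg (fun m : R.T 0 ⟶ R.T 2 => m.hom.app U) (R.d_d 0)) x) ?_
    show (f 1).hom.app U ((R.d 0).hom.app U x) - (R'.d 0).hom.app U ((f 0).hom.app U x) = 0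
    exact sub_eq_zero.2 (ConcreteCategory.congr_hom (congrArg (fun m : R.T 0 ⟶ R'.T 1 => m.hom.app U) (hf 0)) x).symm
  · refine Prod.ext (ConcreteCategory.congr_hom (congrArg (fun m : R.T (n + 1) ⟶ R.T (n + 1 + 1 + 1) => m.hom.app U) (R.d_d (n + 1))) x.1) ?_
    show (f (n + 2)).hom.app U ((R.d (n + 1)).hom.app U x.1) -
      (R'.d (n + 1)).hom.app U ((f (n + 1)).hom.app U x.1 - (R'.d n).hom.app U x.2) = 0
    refine sub_eq_zero.2 (Eq.trans ?_ (map_sub ((R'.d (n + 1)).hom.app U).hom _ _).symm)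
    refine Eq.trans ?_ (congrArg (_ - ·)
      (ConcreteCategory.congr_hom (congrArg (fun m : R'.T n ⟶ R'.T (n + 1 + 1) => m.hom.app U) (R'.d_d n)) x.2)).symm
    exact ((sub_zero _).trans
      (ConcreteCategory.congr_hom (congrArg (fun m : R.T (n + 1) ⟶ R'.T (n + 2) => m.hom.app U) (hf (n + 1))) x.1)).symm

lemma isFlasque_coneT : ∀ n, TopCat.Sheaf.IsFlasque (coneT R R' n)
  | 0 => R.flasque 0
  | n + 1 => ⟨fun {U V} i => (AddCommGrpCat.epi_iff_surjective _).2 fun x => by
      haveI := R.flasque (n + 1)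
      haveI := R'.flasque n
      obtain ⟨a, ha⟩ := (AddCommGrpCat.epi_iff_surjective _).1 (TopCat.Presheaf.IsFlasque.epi (F := (R.T (n + 1)).obj) i) x.1
      obtain ⟨b, hb⟩ := (AddCommGrpCat.epi_iff_surjective _).1 (TopCat.Presheaf.IsFlasque.epi (F := (R'.T n).obj) i) x.2
      exact ⟨(a, b), Prod.ext ha hb⟩⟩

lemma res_app {A B : CohTop.Ab X} (φ : A ⟶ B) {U V : Opens X} (h : V ≤ U) (x : A.obj.obj (op U)) :
    φ.hom.app (op V) (A.obj.map (homOfLE h).op x) = B.obj.map (homOfLE h).op (φ.hom.app (op U) x) :=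
  ConcreteCategory.congr_hom (φ.hom.naturality (homOfLE h).op) x

include hf hι in
/-- a map of flasque resolutions is a quasi-isomorphism on sections -/
theorem qin (U : Opens X) :
    (∀ k : (R.T 0).obj.obj (op U), (R.d 0).hom.app (op U) k = 0 → (f 0).hom.app (op U) k = 0 → k = 0) ∧
    (∀ (k : (R.T 1).obj.obj (op U)) l, (R.d 1).hom.app (op U) k = 0 →
      (f 1).hom.app (op U) k = (R'.d 0).hom.app (op U) l →
      ∃ w, (R.d 0).hom.app (op U) w = k ∧ (f 0).hom.app (op U) w = l) ∧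
    (∀ (n : ℕ) (k : (R.T (n + 2)).obj.obj (op U)) l, (R.d (n + 2)).hom.app (op U) k = 0 →
      (f (n + 2)).hom.app (op U) k = (R'.d (n + 1)).hom.app (op U) l →
      ∃ w v, (R.d (n + 1)).hom.app (op U) w = k ∧
        (f (n + 1)).hom.app (op U) w + (R'.d n).hom.app (op U) v = l) := by
  have hι' : ∀ (V : Opens X) g, (f 0).hom.app (op V) (R.ι.hom.app (op V) g) = R'.ι.hom.app (op V) g := fun V g =>
    ConcreteCategory.congr_hom (congrArg (fun m : F ⟶ R'.T 0 => m.hom.app (op V)) hι) g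
  have hιd : ∀ (V : Opens X) g, (R.d 0).hom.app (op V) (R.ι.hom.app (op V) g) = 0 := fun V g =>
    ConcreteCategory.congr_hom (congrArg (fun m : F ⟶ R.T 1 => m.hom.app (op V)) R.ι_d) g
  have hf' : ∀ n (V : Opens X) t, (R'.d n).hom.app (op V) ((f n).hom.app (op V) t) =
      (f (n + 1)).hom.app (op V) ((R.d n).hom.app (op V) t) := fun n V t =>
    ConcreteCategory.congr_hom (congrArg (fun m : R.T n ⟶ R'.T (n + 1) => m.hom.app (op V)) (hf n)) t
  have hz : ∀ (V : Opens X) (k : (R.T 0).obj.obj (op V)), (coneD R R' f 0).hom.app (op V) k = 0 → k = 0 := by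
    intro V k hk
    obtain ⟨g, rfl⟩ := R.zero V k (congrArg Prod.fst hk)
    have : R'.ι.hom.app (op V) g = R'.ι.hom.app (op V) 0 :=
      (hι' V g).symm.trans ((congrArg Prod.snd hk).trans (map_zero _).symm)
    rw [R'.inj V this, map_zero]
  obtain ⟨-, h1⟩ := SoftSheaf.sections_exact (coneT R R') (coneD R R' f) (coneD_coneD R R' f hf)
    (isFlasque_coneT R R')
    (fun V x hx s hs => ⟨V, le_rfl, hs, by rw [hz V x hx]; exact map_zero _⟩)
    (fun n V x hx s hs => by
      rcases n with _ | n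
      · obtain ⟨k, l⟩ := x
        obtain ⟨W, hW, hsW, t, ht⟩ := R.succ 0 V k (congrArg Prod.fst hx) s hs
        have hkl : (f 1).hom.app (op V) k = (R'.d 0).hom.app (op V) l := sub_eq_zero.1 (congrArg Prod.snd hx)
        obtain ⟨g, hg⟩ := R'.zero W ((f 0).hom.app (op W) t - (R'.T 0).obj.map (homOfLE hW).op l) (by
          rw [map_sub, hf', ht, res_app (f 1) hW, hkl, res_app (R'.d 0) hW, sub_self])
        refine ⟨W, hW, hsW, t - R.ι.hom.app (op W) g, Prod.ext ?_ ?_⟩
        · show (R.d 0).hom.app (op W) _ = _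
          rw [map_sub, hιd, sub_zero, ht]
          rfl
        · show (f 0).hom.app (op W) _ = _
          rw [map_sub, hι', hg, sub_sub_cancel]
          rfl
      · obtain ⟨k, l⟩ := x
        obtain ⟨W, hW, hsW, t, ht⟩ := R.succ (n + 1) V k (congrArg Prod.fst hx) s hs
        have hkl : (f (n + 2)).hom.app (op V) k = (R'.d (n + 1)).hom.app (op V) l := sub_eq_zero.1 (congrArg Prod.snd hx)
        obtain ⟨W', hW', hsW', j, hj⟩ := R'.succ n W
          ((f (n + 1)).hom.app (op W) t - (R'.T (n + 1)).obj.map (homOfLE hW).op l) (by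
            rw [map_sub, hf', ht, res_app (f (n + 2)) hW, hkl, res_app (R'.d (n + 1)) hW, sub_self]) s hsW
        refine ⟨W', hW'.trans hW, hsW', ((R.T (n + 1)).obj.map (homOfLE hW').op t, j), Prod.ext ?_ ?_⟩
        · show (R.d (n + 1)).hom.app (op W') ((R.T (n + 1)).obj.map (homOfLE hW').op t) = (R.T (n + 2)).obj.map (homOfLE (hW'.trans hW)).op k
          rw [res_app (R.d (n + 1)) hW', ht, ← ConcreteCategory.comp_apply, ← Functor.map_comp]
          rfl
        · show (f (n + 1)).hom.app (op W') ((R.T (n + 1)).obj.map (homOfLE hW').op t) - (R'.d n).hom.app (op W') j = (R'.T (n + 1)).obj.map (homOfLE (hW'.trans hW)).op l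
          rw [res_app (f (n + 1)) hW', hj, map_sub, sub_sub_cancel, ← ConcreteCategory.comp_apply, ← Functor.map_comp]
          rfl) U
  refine ⟨fun k hk hk' => hz U k (Prod.ext hk hk'), fun k l hk hkl => ?_, fun n k l hk hkl => ?_⟩
  · obtain ⟨w, hw⟩ := h1 0 (k, l) (Prod.ext hk (sub_eq_zero.2 hkl))
    exact ⟨w, congrArg Prod.fst hw, congrArg Prod.snd hw⟩
  · obtain ⟨⟨w, v⟩, hw⟩ := h1 (n + 1) (k, l) (Prod.ext hk (sub_eq_zero.2 hkl))
    refine ⟨w, -v, congrArg Prod.fst hw, ?_⟩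
    rw [map_neg, ← sub_eq_add_neg]
    exact congrArg Prod.snd hw

end Res

end Groth.Agent.FibDescLib
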