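import Groth.Agent.FibDescLib.God
import Groth.Agent.FibDescLib.Cofree
import Groth.Agent.FibDescLib.SpaceQI
import Groth.Agent.Descent.ProperAssembly
import Mathlib.CategoryTheory.Abelian.RightDerived

/-! # The Godement double complex and an injective resolution -/

set_option autoImplicit false
set_option linter.style.haveILetI false

noncomputable section

universe u

open CategoryTheory CategoryTheory.Limits Opposite TopologicalSpace Simplicial Pseudofunctor.CoGrothendieck FibSite
open AlgebraicTopology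

namespace Groth.Agent.FibDescLib

open Godement SoftSheaf Descent.Rel

variable {Y : (WithInitial SimplexCategory)ᵒᵖ ⥤ TopCat.{u}} (G : CohTop.Ab (S₀ Y))

/-- a chosen injective resolution of the inverse image -/
abbrev Ires : InjectiveResolution (fam G) := injectiveResolution (fam G)

/-- its terms -/
abbrev IX (n : ℕ) : DS Y := (Ires G).cocomplex.X n

/-- its differentials -/
abbrev Id (n : ℕ) : IX G n ⟶ IX G (n + 1) := (Ires G).cocomplex.d n (n + 1)

/-- its augmentation -/
abbrev Iι : fam G ⟶ IX G 0 := (Ires G).ι.f 0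

lemma Iι_Id : Iι G ≫ Id G 0 = 0 := (Ires G).ι_f_zero_comp_complex_d

/-- the first two comparison maps -/
def fK0 : God G 0 ⟶ IX G 0 := Injective.factorThru (Iι G) (godη G)

lemma godη_fK0 : godη G ≫ fK0 G = Iι G := Injective.comp_factorThru _ _

/-- comparison in degree one -/
def fK1 : God G 1 ⟶ IX G 1 :=
  (exact_godη G).descToInjective (fK0 G ≫ Id G 0) (by
    show godη G ≫ fK0 G ≫ Id G 0 = 0
    rw [← Category.assoc, godη_fK0, Iι_Id])

lemma godD_fK1 : godD G 0 ≫ fK1 G = fK0 G ≫ Id G 0 := (exact_godη G).comp_descToInjective _ _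

/-- comparison in two consecutive degrees -/
def fKpair : ∀ n, Σ' (a : God G n ⟶ IX G n) (b : God G (n + 1) ⟶ IX G (n + 1)), godD G n ≫ b = a ≫ Id G n
  | 0 => ⟨fK0 G, fK1 G, godD_fK1 G⟩
  | n + 1 => ⟨(fKpair n).2.1, (exact_godD G n).descToInjective ((fKpair n).2.1 ≫ Id G (n + 1)) (by
      show godD G n ≫ (fKpair n).2.1 ≫ Id G (n + 1) = 0
      rw [← Category.assoc, (fKpair n).2.2, Category.assoc, HomologicalComplex.d_comp_d, comp_zero]),
      (exact_godD G n).comp_descToInjective _ _⟩

/-- the comparison -/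
def fK (n : ℕ) : God G n ⟶ IX G n := (fKpair G n).1

lemma fK_comm (n : ℕ) : fK G n ≫ Id G n = godD G n ≫ fK G (n + 1) := (fKpair G n).2.2.symm

/-- the sections of a complex of sheaves on the total site -/
def secPre (K : CochainComplex (DS Y) ℕ) : (P0 Y)ᵒᵖ ⥤ CochainComplex AddCommGrpCat.{u} ℕ where
  obj x := ((ev Y x).mapHomologicalComplex (ComplexShape.up ℕ)).obj K
  map φ :=
    { f := fun n => (K.X n).obj.map φ
      comm' := fun m n _ => ((K.d m n).hom.naturality φ) }
  map_id x := HomologicalComplex.hom_ext _ _ fun n => (K.X n).obj.map_id x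
  map_comp φ ψ := HomologicalComplex.hom_ext _ _ fun n => (K.X n).obj.map_comp φ ψ

/-- the comparison on sections -/
def fNat : godPre G ⟶ secPre (Ires G).cocomplex where
  app x :=
    { f := fun n => (fK G n).hom.app x
      comm' := fun m n h => by
        obtain rfl : m + 1 = n := h
        exact congrArg (fun k : God G m ⟶ IX G (m + 1) => k.hom.app x) (fK_comm G m) }
  naturality x y φ := HomologicalComplex.hom_ext _ _ fun n => (fK G n).hom.naturality φ

variable (Y) in
/-- the selection of preimages -/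
def sel (V : Opens (S₀ Y)) : SimplexCategory ⥤ (P0 Y)ᵒᵖ where
  obj p := op (pObj Y p (preA V p))
  map g := (pHom Y g (preA_face V g)).op
  map_id p := congrArg Quiver.Hom.op (thin_ext Y rfl)
  map_comp g g' := congrArg Quiver.Hom.op (thin_ext Y rfl)

/-- extension by zero -/
abbrev extZ : CochainComplex AddCommGrpCat.{u} ℕ ⥤ CochainComplex AddCommGrpCat.{u} ℤ :=
  ComplexShape.embeddingUpNat.extendFunctor AddCommGrpCat.{u}

lemma isStrictlyGE_extZ (A : CochainComplex AddCommGrpCat.{u} ℕ) : (extZ.obj A).IsStrictlyGE 0 := by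
  rw [CochainComplex.isStrictlyGE_iff]
  intro i hi
  exact HomologicalComplex.isZero_extend_X _ _ _ (fun n => by simp; omega)

variable (V : Opens (S₀ Y))

/-- the cosimplicial complex of the resolution -/
abbrev AI : CosimplicialObject (CochainComplex AddCommGrpCat.{u} ℤ) :=
  sel Y V ⋙ secPre (Ires G).cocomplex ⋙ extZ

/-- the comparison of the columns -/
def αI : (nrv Y).rightOp ⋙ MV G V ⟶ AI G V where
  app p := extZ.map ((fNat G).app ((sel Y V).obj p))
  naturality p q g := by
    refine (extZ.map_comp _ _).symm.trans (Eq.trans ?_ (extZ.map_comp _ _))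
    exact congrArg extZ.map ((fNat G).naturality ((sel Y V).map g))

/-- sections over an open of the base of the direct image -/
abbrev evB : DS Y ⥤ AddCommGrpCat.{u} := pushA Y ⋙ sheafToPresheaf _ _ ⋙ (evaluation _ _).obj (op V)

instance additive_evB : (evB V : DS Y ⥤ AddCommGrpCat.{u}).Additive where
  map_add {_ _ f g} := by
    show ((pushA Y).map (f + g)).hom.app (op V) = _
    rw [Functor.map_add]
    rfl

/-- the complex over the base -/
abbrev baseI : CochainComplex AddCommGrpCat.{u} ℕ :=
  ((evB V).mapHomologicalComplex (ComplexShape.up ℕ)).obj (Ires G).cocomplex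

/-- the augmentation of the resolution -/
def εN : baseI G V ⟶ (secPre (Ires G).cocomplex).obj ((sel Y V).obj ⦋0⦌) where
  f n := prj (IX G n) V (le_refl (preA V ⦋0⦌))
  comm' m n _ := AddCommGrpCat.ext fun s => (prj_app (IX G m) V ((Ires G).cocomplex.d m n) le_rfl s).symm

lemma εN_map {p : SimplexCategory} (g : ⦋0⦌ ⟶ p) (n : ℕ) (s : (baseI G V).X n) :
    ((secPre (Ires G).cocomplex).map ((sel Y V).map g)).f n ((εN G V).f n s) = prj (IX G n) V (le_refl (preA V p)) s :=
  prj_tr (IX G n) V le_rfl le_rfl (preA_face V g) s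

/-- the base as a space over itself -/
abbrev baseO : Over (S₀ Y) := Descent.base

/-- the Godement complex over the base -/
abbrev baseK : CochainComplex AddCommGrpCat.{u} ℕ := cxU (FP G (baseO (Y := Y))) (pre V (baseO (Y := Y)))

/-- the augmentation of the Godement complexes followed by the comparison -/
def augK : baseK G V ⟶ (secPre (Ires G).cocomplex).obj ((sel Y V).obj ⦋0⦌) :=
  mapV G V (toBase ((nrv Y).obj (op ⦋0⦌))) ≫ (fNat G).app ((sel Y V).obj ⦋0⦌)

lemma augK_eq (g : ⦋0⦌ ⟶ ⦋1⦌) : augK G V ≫ (secPre (Ires G).cocomplex).map ((sel Y V).map g) =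
    mapV G V (toBase ((nrv Y).obj (op ⦋1⦌))) ≫ (fNat G).app ((sel Y V).obj ⦋1⦌) := by
  refine (Category.assoc _ _ _).trans ?_
  refine (congrArg (mapV G V (toBase ((nrv Y).obj (op ⦋0⦌))) ≫ ·) ((fNat G).naturality ((sel Y V).map g)).symm).trans ?_
  refine (Category.assoc _ _ _).symm.trans (congrArg (· ≫ (fNat G).app ((sel Y V).obj ⦋1⦌)) ?_)
  refine ((M0V G V).map_comp (toBase ((nrv Y).obj (op ⦋0⦌))).op ((nrv Y).map g.op).op).symm.trans ?_
  exact congrArg (fun m => (M0V G V).map (Quiver.Hom.op m)) (toBase_unique _)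

lemma exists_β (n : ℕ) (s : (baseK G V).X n) :
    ∃ w : (baseI G V).X n, (εN G V).f n w = (augK G V).f n s :=
  exists_prj (IX G n) V _ ((ConcreteCategory.congr_hom (congrArg (fun m => HomologicalComplex.Hom.f m n)
    (augK_eq G V (SimplexCategory.δ 0))) s).trans (ConcreteCategory.congr_hom (congrArg (fun m => HomologicalComplex.Hom.f m n)
    (augK_eq G V (SimplexCategory.δ 1))) s).symm)

/-- the comparison over the base, in a degree -/
def βf (n : ℕ) (s : (baseK G V).X n) : (baseI G V).X n := (exists_β G V n s).choose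

lemma εN_βf (n : ℕ) (s : (baseK G V).X n) : (εN G V).f n (βf G V n s) = (augK G V).f n s :=
  (exists_β G V n s).choose_spec

/-- the comparison over the base -/
def β : baseK G V ⟶ baseI G V where
  f n := AddCommGrpCat.ofHom (AddMonoidHom.mk' (βf G V n) fun a b => prj_ext (IX G n) V (by
    refine (εN_βf G V n (a + b)).trans ((map_add ((augK G V).f n).hom a b).trans ?_)
    exact ((map_add ((εN G V).f n).hom _ _).trans (congrArg₂ (· + ·) (εN_βf G V n a) (εN_βf G V n b))).symm))
  comm' m n _ := AddCommGrpCat.ext fun s => prj_ext (IX G n) V (by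
    refine ((ConcreteCategory.congr_hom ((εN G V).comm m n) (βf G V m s)).symm.trans ?_).trans
      (εN_βf G V n _).symm
    refine (congrArg (((secPre (Ires G).cocomplex).obj ((sel Y V).obj ⦋0⦌)).d m n) (εN_βf G V m s)).trans ?_
    exact ConcreteCategory.congr_hom ((augK G V).comm m n) s)

lemma β_εN : β G V ≫ εN G V = augK G V :=
  HomologicalComplex.hom_ext _ _ fun n => AddCommGrpCat.ext fun s => εN_βf G V n s

lemma εI_δ : extZ.map (εN G V) ≫ AlternatingCofaceMapComplex.objD (AI G V) 0 = 0 := by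
  have h : ∀ i : Fin 2, extZ.map (εN G V) ≫ CosimplicialObject.δ (AI G V) i =
      extZ.map (εN G V ≫ (secPre (Ires G).cocomplex).map ((sel Y V).map (SimplexCategory.δ 0))) := fun i => by
    refine (extZ.map_comp _ _).symm.trans (congrArg extZ.map ?_)
    exact HomologicalComplex.hom_ext _ _ fun n => AddCommGrpCat.ext fun s =>
      (εN_map G V (SimplexCategory.δ i) n s).trans (εN_map G V (SimplexCategory.δ 0) n s).symm
  rw [AlternatingCofaceMapComplex.objD, Fin.sum_univ_two, Preadditive.comp_add, Preadditive.comp_zsmul,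
    Preadditive.comp_zsmul, h, h]
  simp

/-- the double complex of the resolution -/
def colsI : ColSS.Cols.{u} :=
  (Descent.cols (AI G V) fun _ => isStrictlyGE_extZ _).prepend (extZ.obj (baseI G V)) (isStrictlyGE_extZ _)
    (extZ.map (εN G V)) (εI_δ G V)

/-- the Godement double complex -/
abbrev colsK : ColSS.Cols.{u} := colsT (nrv Y) (MV G V) (isStrictlyGE_MV G V)

/-- the comparison of double complexes -/
def γ : ∀ p, (colsK G V).K p ⟶ (colsI G V).K p
  | 0 => extZ.map (β G V)
  | p + 1 => (αI G V).app ⦋p⦌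

lemma γ_dh : ∀ p, γ G V p ≫ (colsI G V).dh p = (colsK G V).dh p ≫ γ G V (p + 1)
  | 0 => by
    show extZ.map (β G V) ≫ extZ.map (εN G V) = extZ.map (mapV G V (toBase ((nrv Y).obj (op ⦋0⦌)))) ≫ extZ.map _
    rw [← Functor.map_comp, β_εN]
    exact extZ.map_comp _ _
  | p + 1 => by
    show (αI G V).app ⦋p⦌ ≫ AlternatingCofaceMapComplex.objD (AI G V) p =
      AlternatingCofaceMapComplex.objD ((nrv Y).rightOp ⋙ MV G V) p ≫ (αI G V).app ⦋p + 1⦌
    rw [AlternatingCofaceMapComplex.objD, AlternatingCofaceMapComplex.objD, Preadditive.comp_sum, Preadditive.sum_comp]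
    refine Finset.sum_congr rfl fun i _ => ?_
    rw [Preadditive.comp_zsmul, Preadditive.zsmul_comp]
    exact congrArg _ ((αI G V).naturality _).symm

lemma augExact_row (n : ℕ) :
    Descent.AugExact (Descent.evalDeg (AI G V) (n : ℤ)) ((extZ.map (εN G V)).f (n : ℤ)) := by
  let A : CochainComplex AddCommGrpCat.{u} ℕ := baseI G V
  let K : SimplexCategory → CochainComplex AddCommGrpCat.{u} ℕ := fun p => (secPre (Ires G).cocomplex).obj ((sel Y V).obj p)
  let φ : Descent.evalDeg (AI G V) (n : ℤ) ⟶ cosH (IX G n) V :=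
    { app := fun p => (eX (K p) n).hom
      naturality := fun p q g => AddCommGrpCat.ext fun x =>
        eX_map ((secPre (Ires G).cocomplex).map ((sel Y V).map g)) n x }
  have h := augExact_cosH V (IX G n)
  have hφ : ∀ p, Function.Injective (φ.app p) := fun p => eX_injective (K p) n
  have hε : ∀ y, φ.app ⦋0⦌ ((extZ.map (εN G V)).f (n : ℤ) y) = prj (IX G n) V le_rfl ((eX A n).hom y) := fun y =>
    eX_map (εN G V) n y
  refine ⟨fun a b hab => eX_injective A n (h.inj ((hε a).symm.trans ((congrArg (φ.app ⦋0⦌) hab).trans (hε b)))),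
    fun x hx => ?_, fun p x hx => ?_⟩
  · obtain ⟨y, hy⟩ := h.exact₀ (φ.app ⦋0⦌ x)
      ((objD_natural φ 0 x).symm.trans ((congrArg (φ.app ⦋0 + 1⦌) hx).trans (map_zero _)))
    obtain ⟨y', rfl⟩ := eX_surjective A n y
    exact ⟨y', hφ _ ((hε y').trans hy)⟩
  · obtain ⟨w, hw⟩ := h.exact p (φ.app ⦋p + 1⦌ x)
      ((objD_natural φ (p + 1) x).symm.trans ((congrArg (φ.app ⦋p + 1 + 1⦌) hx).trans (map_zero _)))
    obtain ⟨w', rfl⟩ := eX_surjective (K ⦋p⦌) n w
    exact ⟨w', hφ _ ((objD_natural φ p w').trans hw)⟩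

/-- the double complex of the resolution is exact -/
theorem tExact_colsI : TExact (colsI G V) := fun n x hx hD => by
  have hrow : ∀ q : ℤ, Descent.AugExact (Descent.evalDeg (AI G V) q) ((extZ.map (εN G V)).f q) := fun q => by
    by_cases hq : q < 0
    · have hs : ∀ p, Subsingleton ((Descent.evalDeg (AI G V) q).obj p) := fun p => subsingleton_extend _ hq
      haveI := subsingleton_extend (baseI G V) hq
      exact ⟨fun a b _ => Subsingleton.elim a b, fun x _ => ⟨0, (hs ⦋0⦌).elim _ _⟩,
        fun p x _ => ⟨0, (hs ⦋p + 1⦌).elim _ _⟩⟩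
    · obtain ⟨m, rfl⟩ := Int.eq_ofNat_of_zero_le (not_lt.1 hq)
      exact augExact_row G V m
  refine ColSS.Cols.exists_primitive_of_rows _ (fun q => (hrow q).inj) (fun p q y hy => ?_) n x hx hD
  rcases p with _ | p
  · exact (hrow q).exact₀ y ((Descent.objD_f (AI G V) 0 q y).symm.trans hy)
  · obtain ⟨w, hw⟩ := (hrow q).exact p y ((Descent.objD_f (AI G V) (p + 1) q y).symm.trans hy)
    exact ⟨w, (Descent.objD_f (AI G V) p q w).trans hw⟩

end Groth.Agent.FibDescLib
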