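import Groth.Agent.FibDescLib.Hyper
import Mathlib.Topology.Maps.Proper.Basic

/-! # Proper surjections are universally of descent -/

set_option autoImplicit false
set_option backward.isDefEq.respectTransparency false
set_option linter.style.haveILetI false

noncomputable section

universe u

open CategoryTheory CategoryTheory.Limits Opposite TopologicalSpace Simplicial AlgebraicTopology Filter Topology

namespace Groth.Agent.FibDescLib

open ColSS Descent Descent.Rel Godement SoftSheaf

lemma isProperMap_pullback {X Y A : Type*} [TopologicalSpace X] [TopologicalSpace Y] [TopologicalSpace A]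
    {f : X → Y} (hf : IsProperMap f) {g : A → Y} (hg : Continuous g) :
    IsProperMap (fun z : {z : X × A // f z.1 = g z.2} => z.1.2) := by
  refine isProperMap_iff_ultrafilter.2 ⟨continuous_snd.comp continuous_subtype_val, fun 𝒰 a ha => ?_⟩
  have h : Tendsto f (𝒰.map fun z => z.1.1) (𝓝 (g a)) := by
    rw [Ultrafilter.coe_map, tendsto_map'_iff]
    rw [show f ∘ (fun z : {z : X × A // f z.1 = g z.2} => z.1.1) = g ∘ fun z => z.1.2 from funext fun z => z.2]
    exact (hg.tendsto a).comp ha
  obtain ⟨x, hx, hlim⟩ := (isProperMap_iff_ultrafilter.1 hf).2 h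
  rw [Ultrafilter.coe_map] at hlim
  refine ⟨⟨(x, a), hx⟩, rfl, ?_⟩
  have h1 : Tendsto (fun z : {z : X × A // f z.1 = g z.2} => z.1.1) 𝒰 (𝓝 x) := hlim
  exact tendsto_subtype_rng.2 (h1.prodMk_nhds ha)

/-- proper separated surjections are universally of descent -/
theorem isUniv_of_proper {X S : TopCat.{u}} (f : X ⟶ S) (hf : IsProperMap f)
    (hs : ∀ x x' : X, f x = f x' → x ≠ x' → ∃ U V : Set X, IsOpen U ∧ IsOpen V ∧ x ∈ U ∧ x' ∈ V ∧ Disjoint U V)
    (hsurj : Function.Surjective f) : FibDesc.IsUnivCohDescentMap f := fun S' g => by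
  let e := TopCat.homeoOfIso (TopCat.pullbackIsoProdSubtype f g)
  have hsnd : ∀ z, pullback.snd f g z = (e z).1.2 := fun z =>
    (ConcreteCategory.congr_hom (TopCat.pullbackIsoProdSubtype_hom_snd f g) z).symm
  have hfst : ∀ z, pullback.fst f g z = (e z).1.1 := fun z =>
    (ConcreteCategory.congr_hom (TopCat.pullbackIsoProdSubtype_hom_fst f g) z).symm
  refine (isCohDescentMap_iff_desc _).2 (desc_of_proper _ ?_ (fun z z' hz hne => ?_) fun s => ?_)
  · rw [show ⇑(pullback.snd f g) = (fun w => w.1.2) ∘ e from funext hsnd]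
    exact (isProperMap_pullback hf g.hom.continuous).comp e.isClosedEmbedding.isProperMap
  · have hne' : pullback.fst f g z ≠ pullback.fst f g z' := fun h => hne (e.injective (Subtype.ext (Prod.ext
      ((hfst z).symm.trans (h.trans (hfst z'))) ((hsnd z).symm.trans (hz.trans (hsnd z'))))))
    have heq : f (pullback.fst f g z) = f (pullback.fst f g z') := by
      have h := fun w => ConcreteCategory.congr_hom (pullback.condition (f := f) (g := g)) w
      exact (h z).trans ((congrArg g hz).trans (h z').symm)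
    obtain ⟨U, V, hU, hV, hzU, hzV, hd⟩ := hs _ _ heq hne'
    exact ⟨_, _, hU.preimage (pullback.fst f g).hom.continuous, hV.preimage (pullback.fst f g).hom.continuous,
      hzU, hzV, hd.preimage _⟩
  · obtain ⟨x, hx⟩ := hsurj (g s)
    refine ⟨e.symm ⟨(x, s), hx⟩, (hsnd _).trans ?_⟩
    rw [e.apply_symm_apply]

/-- the descent spectral sequence of an exact augmented simplicial space -/
theorem exists_spectralSequence_of_desc {S : TopCat.{u}} {N : SimplicialObject (Over S)} (h : Desc N)
    (F : CohTop.Ab S) :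
    ∃ (E : CohomologicalSpectralSequence AddCommGrpCat.{u} 1)
      (a : SpSeq.Abutment E (fun n : ℤ =>
        if 0 ≤ n then AddCommGrpCat.of (CohTop.H F n.toNat) else AddCommGrpCat.of PUnit.{u + 1})),
      (∀ n, a.IsFinite n) ∧ SpSeq.IsBounded E ∧
      ∀ p q : ℤ, Nonempty ((E.page 1 le_rfl).X (p, q) ≅
        (if 0 ≤ p ∧ 0 ≤ q then
          AddCommGrpCat.of (CohTop.H ((CohTop.pull (N.obj (op ⦋p.toNat⦌)).hom).obj F) q.toNat)
         else AddCommGrpCat.of PUnit.{u + 1})) := by
  let C₀ := cols (N.rightOp ⋙ MV F ⊤) fun _ => isStrictlyGE_MV F ⊤ _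
  refine ColSS.Cols.exists_spectralSequence C₀ _ (fun n => ?_)
    (fun p q => AddCommGrpCat.of (CohTop.H ((CohTop.pull (N.obj (op ⦋p⦌)).hom).obj F) q))
    (fun p q => nonempty_homology_M_iso F (op (N.obj (op ⦋p⦌))) q)
    (AddCommGrpCat.of PUnit.{u + 1}) (AddCommGrpCat.isZero_of_subsingleton _)
  obtain ⟨e⟩ := ColSS.Cols.nonempty_tot_iso_of_exact C₀ ((MV F ⊤).obj (op Descent.base)) (isStrictlyGE_MV F ⊤ _)
    (augT N (MV F ⊤)) (augT_δ N (MV F ⊤) (isStrictlyGE_MV F ⊤)) (h F ⊤) n
  by_cases hn : 0 ≤ n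
  · obtain ⟨m, rfl⟩ := Int.eq_ofNat_of_zero_le hn
    refine ⟨e ≪≫ ?_⟩
    rw [if_pos hn]
    exact (nonempty_homology_M_id_iso F m).some
  · refine ⟨e ≪≫ ?_⟩
    rw [if_neg hn]
    haveI := isStrictlyGE_MV F ⊤ (op (Descent.base : Over S))
    refine IsZero.iso ?_ (AddCommGrpCat.isZero_of_subsingleton _)
    exact (ShortComplex.exact_iff_isZero_homology _).1
      (ShortComplex.exact_of_isZero_X₂ _
        (CochainComplex.isZero_of_isStrictlyGE ((MV F ⊤).obj (op (Descent.base : Over S))) 0 n (by omega) :))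

end Groth.Agent.FibDescLib
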