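import Groth.Agent.FibDescLib.Site
import Mathlib.AlgebraicTopology.SimplicialObject.Basic

/-! # Sections of the direct image of the augmentation -/

set_option autoImplicit false
set_option linter.style.haveILetI false

noncomputable section

universe u

open CategoryTheory CategoryTheory.Limits Opposite TopologicalSpace Simplicial Pseudofunctor.CoGrothendieck FibSite

namespace Groth.Agent.FibDescLib

variable {Y : (WithInitial SimplexCategory)ᵒᵖ ⥤ TopCat.{u}}

instance instEps : (FibDesc.eps (FibDesc.topAug Y)).IsContinuous ((FibDesc.topAugTop Y) (FibDesc.bot _))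
    (FibDesc.totAug _ (FibDesc.topAugTop Y)) := eps_isContinuous Y

instance instInclCont : (FibDesc.incl (FibDesc.topAug Y)).IsContinuous
    (FibDesc.totPart _ (FibDesc.topAugTop Y)) (FibDesc.totAug _ (FibDesc.topAugTop Y)) := incl_isContinuous Y

instance instInclCocont : (FibDesc.incl (FibDesc.topAug Y)).IsCocontinuous
    (FibDesc.totPart _ (FibDesc.topAugTop Y)) (FibDesc.totAug _ (FibDesc.topAugTop Y)) := incl_isCocontinuous Y

variable (Y) in
/-- the direct image functor -/
abbrev pushA : DS Y ⥤ BS Y := FibDesc.push (FibDesc.topAug Y) (FibDesc.topAugTop Y) AddCommGrpCat.{u}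

/-- the preimage of an open of the base -/
abbrev preA (V : Opens (S₀ Y)) (p : SimplexCategory) : Opens (Np Y p) := (Opens.map (augMap Y p)).obj V

lemma preA_face (V : Opens (S₀ Y)) {p q : SimplexCategory} (g : p ⟶ q) :
    preA V q ≤ (Opens.map (face Y g)).obj (preA V p) := fun x hx => by
  show augMap Y p (face Y g x) ∈ V
  rw [show augMap Y p (face Y g x) = augMap Y q x from ConcreteCategory.congr_hom (Over.w ((nrv Y).map g.op)) x]
  exact hx

lemma bHom_ext {x : ∫ᶜ (FibDesc.topAug Y)} {V : Opens (S₀ Y)} (φ ψ : x ⟶ bObj Y V) : φ = ψ := by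
  obtain ⟨a, U⟩ := x
  obtain ⟨f, k, rfl⟩ := Groth.Agent.FibTop.hom_surjective (R := a) (S := op WithInitial.star) (V := U) (U := V) φ
  obtain ⟨f', k', rfl⟩ := Groth.Agent.FibTop.hom_surjective (R := a) (S := op WithInitial.star) (V := U) (U := V) ψ
  obtain rfl : f = f' := Quiver.Hom.unop_inj (WithInitial.starInitial.hom_ext _ _)
  exact congrArg (Groth.Agent.FibTop.hom f) (thinAug Y _ _ _ k k')

/-- the morphism to an open of the base -/
def bHom {p : SimplexCategory} {W : Opens (Np Y p)} {V : Opens (S₀ Y)} (h : W ≤ preA V p) :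
    (FibDesc.incl (FibDesc.topAug Y)).obj (pObj Y p W) ⟶ bObj Y V :=
  Groth.Agent.FibTop.hom (WithInitial.starInitial.to (WithInitial.of p)).op ((homOfLE h : W ⟶ preA V p) :)

variable (H : DS Y) (V : Opens (S₀ Y))

/-- the index category of the sections of the direct image -/
abbrev Idx := StructuredArrow (op (bObj Y V)) (FibDesc.incl (FibDesc.topAug Y)).op

/-- the cone of the sections -/
abbrev pushCone : Cone (StructuredArrow.proj (op (bObj Y V)) (FibDesc.incl (FibDesc.topAug Y)).op ⋙ H.obj) :=
  (Functor.RightExtension.mk _ ((FibDesc.incl (FibDesc.topAug Y)).op.ranCounit.app H.obj)).coneAt _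

/-- it is a limit cone -/
def isLimitPushCone : IsLimit (pushCone H V) :=
  (FibDesc.incl (FibDesc.topAug Y)).op.isPointwiseRightKanExtensionRanCounit H.obj _

/-- sections of the direct image over an open -/
abbrev pushSec : AddCommGrpCat.{u} := ((pushA Y).obj H).obj.obj (op V)

/-- components of a section of the direct image -/
def prj {p : SimplexCategory} {W : Opens (Np Y p)} (h : W ≤ preA V p) : pushSec H V ⟶ sec H p W :=
  (pushCone H V).π.app (StructuredArrow.mk (Y := op (pObj Y p W)) (bHom h).op)

lemma prj_tr {p q : SimplexCategory} {g : p ⟶ q} {W : Opens (Np Y p)} {W' : Opens (Np Y q)}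
    (hW : W ≤ preA V p) (hW' : W' ≤ preA V q) (h : W' ≤ (Opens.map (face Y g)).obj W) (s : pushSec H V) :
    tr H g h (prj H V hW s) = prj H V hW' s := by
  let f : Idx (Y := Y) V := StructuredArrow.mk (Y := op (pObj Y p W)) (bHom hW).op
  let f' : Idx (Y := Y) V := StructuredArrow.mk (Y := op (pObj Y q W')) (bHom hW').op
  let m : f ⟶ f' := StructuredArrow.homMk (pHom Y g h).op (Quiver.Hom.unop_inj (bHom_ext _ _))
  exact ConcreteCategory.congr_hom ((pushCone H V).w m) s

/-- the level of an index -/
abbrev lev (j : Idx (Y := Y) V) : SimplexCategory := j.right.unop.base.unop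

/-- the open of an index -/
abbrev opn (j : Idx (Y := Y) V) : Opens (Np Y (lev V j)) := j.right.unop.fiber

lemma idx_le (j : Idx (Y := Y) V) : opn V j ≤ preA V (lev V j) := fun z hz => by
  have k := (show (opn V j : Opens (Np Y (lev V j))) ⟶ (Opens.map (Y.map j.hom.unop.base)).obj V from j.hom.unop.fiber)
  have e : j.hom.unop.base = (WithInitial.starInitial.to (WithInitial.of (lev V j))).op :=
    Quiver.Hom.unop_inj (WithInitial.starInitial.hom_ext _ _)
  have h := k.le hz
  rw [e] at h
  exact h

lemma idx_eq (j : Idx (Y := Y) V) :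
    j = StructuredArrow.mk (Y := op (pObj Y (lev V j) (opn V j))) (bHom (idx_le V j)).op := by
  obtain ⟨⟨⟨⟩⟩, ⟨⟨p⟩, W⟩, g⟩ := j
  exact congrArg (StructuredArrow.mk (Y := op (pObj Y p W))) (Quiver.Hom.unop_inj (bHom_ext _ _))

/-- the vertex `0` -/
abbrev vtx (p : SimplexCategory) : ⦋0⦌ ⟶ p := SimplexCategory.const ⦋0⦌ p 0

/-- a section of the direct image is determined by its component on the first term -/
theorem prj_ext {s t : pushSec H V} (h : prj H V (le_refl (preA V ⦋0⦌)) s = prj H V (le_refl (preA V ⦋0⦌)) t) : s = t := by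
  refine Concrete.isLimit_ext _ (isLimitPushCone H V) _ _ fun j => ?_
  rw [idx_eq V j]
  have hW := idx_le V j
  show prj H V hW s = prj H V hW t
  rw [← prj_tr H V le_rfl hW (hW.trans (preA_face V (vtx _))) s,
    ← prj_tr H V le_rfl hW (hW.trans (preA_face V (vtx _))) t, h]

/-- every equalising element is a component of a section -/
theorem exists_prj (x : sec H ⦋0⦌ (preA V ⦋0⦌))
    (hx : tr H (SimplexCategory.δ (0 : Fin 2)) (preA_face V _) x = tr H (SimplexCategory.δ (1 : Fin 2)) (preA_face V _) x) :
    ∃ s : pushSec H V, prj H V (le_refl (preA V ⦋0⦌)) s = x := by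
  have hd : ∀ {q : SimplexCategory} {W : Opens (Np Y q)} (hW : W ≤ preA V q) (i j : Fin (q.len + 1)),
      i ≤ j → tr H (SimplexCategory.const ⦋0⦌ q i) (hW.trans (preA_face V _)) x =
        tr H (SimplexCategory.const ⦋0⦌ q j) (hW.trans (preA_face V _)) x := by
    intro q W hW i j hij
    have hi : SimplexCategory.const ⦋0⦌ q i = SimplexCategory.δ (1 : Fin 2) ≫ SimplexCategory.mkOfLe (n := q.len) i j hij := by
      ext a; fin_cases a; rfl
    have hj : SimplexCategory.const ⦋0⦌ q j = SimplexCategory.δ (0 : Fin 2) ≫ SimplexCategory.mkOfLe (n := q.len) i j hij := by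
      ext a; fin_cases a; rfl
    rw [tr_congr H hi _ (le_comp (preA_face V _) (hW.trans (preA_face V _))) x,
      tr_congr H hj _ (le_comp (preA_face V _) (hW.trans (preA_face V _))) x,
      ← tr_tr H (preA_face V _) (hW.trans (preA_face V _)), ← tr_tr H (preA_face V _) (hW.trans (preA_face V _)), hx]
  have hd' : ∀ {q : SimplexCategory} {W : Opens (Np Y q)} (hW : W ≤ preA V q) (i j : Fin (q.len + 1)),
      tr H (SimplexCategory.const ⦋0⦌ q i) (hW.trans (preA_face V _)) x =
        tr H (SimplexCategory.const ⦋0⦌ q j) (hW.trans (preA_face V _)) x := fun hW i j =>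
    (le_total i j).elim (hd hW i j) fun h => (hd hW j i h).symm
  let Z : AddCommGrpCat.{u} := AddCommGrpCat.of (ULift.{u} ℤ)
  let gen : ∀ {q : SimplexCategory} {W : Opens (Np Y q)} (_ : W ≤ preA V q), Z ⟶ sec H q W :=
    fun {q W} h => AddCommGrpCat.ofHom ((zmultiplesHom _ (tr H (vtx q) (h.trans (preA_face V _)) x)).comp
      AddEquiv.ulift.toAddMonoidHom)
  have hgen : ∀ {q : SimplexCategory} {W : Opens (Np Y q)} (h : W ≤ preA V q) (k : Z),
      gen h k = k.down • tr H (vtx q) (h.trans (preA_face V _)) x := fun h k => rfl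
  let c : Cone (StructuredArrow.proj (op (bObj Y V)) (FibDesc.incl (FibDesc.topAug Y)).op ⋙ H.obj) :=
    { pt := Z
      π :=
        { app := fun j => gen (idx_le V j)
          naturality := fun j j' m => by
            refine AddCommGrpCat.ext fun k₀ => ?_
            show gen (idx_le V j') k₀ = H.obj.map m.right (gen (idx_le V j) k₀)
            have hle : opn V j' ≤ (Opens.map (face Y m.right.unop.base.unop)).obj (opn V j) :=
              (show (opn V j' : Opens (Np Y (lev V j'))) ⟶ (Opens.map (face Y m.right.unop.base.unop)).obj (opn V j)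
                from m.right.unop.fiber).le
            have hm : m.right = (pHom Y m.right.unop.base.unop hle).op := Quiver.Hom.unop_inj (thin_ext Y rfl)
            rw [hgen (idx_le V j'), hgen (idx_le V j), map_zsmul, hm]
            refine congrArg (k₀.down • ·) ?_
            show _ = tr H m.right.unop.base.unop hle (tr H (vtx (lev V j)) _ x)
            rw [tr_tr, tr_congr H (show vtx (lev V j) ≫ m.right.unop.base.unop =
                SimplexCategory.const ⦋0⦌ (lev V j') (m.right.unop.base.unop.toOrderHom 0) from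
              SimplexCategory.const_comp _ _ _) _ ((idx_le V j').trans (preA_face V _))]
            exact hd' (idx_le V j') 0 _ } }
  refine ⟨(isLimitPushCone H V).lift c ⟨1⟩, ?_⟩
  refine (ConcreteCategory.congr_hom ((isLimitPushCone H V).fac c
    (StructuredArrow.mk (Y := op (pObj Y ⦋0⦌ (preA V ⦋0⦌))) (bHom le_rfl).op)) (⟨1⟩ : Z)).trans ?_
  refine (hgen le_rfl _).trans ?_
  show (1 : ℤ) • tr H (vtx ⦋0⦌) _ x = x
  rw [one_smul, tr_congr H (show vtx ⦋0⦌ = 𝟙 _ from SimplexCategory.const_eq_id) _ (le_id le_rfl), tr_id_self]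

/-- components are natural in the sheaf -/
lemma prj_app {H' : DS Y} (φ : H ⟶ H') {p : SimplexCategory} {W : Opens (Np Y p)} (h : W ≤ preA V p) (s : pushSec H V) :
    prj H' V h (((pushA Y).map φ).hom.app (op V) s) = φ.hom.app (op (pObj Y p W)) (prj H V h s) := by
  let i := (FibDesc.incl (FibDesc.topAug Y)).op
  have h1 := ConcreteCategory.congr_hom ((i.ran.map φ.hom).naturality (bHom h).op) s
  have h2 := ConcreteCategory.congr_hom (congrArg (fun m => NatTrans.app m (op (pObj Y p W)))
    (i.ranCounit.naturality φ.hom)) ((i.ran.obj H.obj).map (bHom h).op s)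
  exact ((congrArg ((i.ranCounit.app H'.obj).app (op (pObj Y p W))) h1.symm).trans h2 :)

/-- components are natural in the open -/
lemma prj_res {V' : Opens (S₀ Y)} (hV : V' ≤ V) {p : SimplexCategory} {W : Opens (Np Y p)} (h : W ≤ preA V' p)
    (s : pushSec H V) :
    prj H V' h (((pushA Y).obj H).obj.map (homOfLE hV).op s) =
      prj H V (fun x hx => hV (h hx) : W ≤ preA V p) s := by
  let i := (FibDesc.incl (FibDesc.topAug Y)).op
  have h1 := ConcreteCategory.congr_hom ((i.ran.obj H.obj).map_comp
    ((FibDesc.eps (FibDesc.topAug Y)).map ((homOfLE hV : (V' : Opens (S₀ Y)) ⟶ V) :)).op (bHom h).op) s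
  refine ((congrArg ((i.ranCounit.app H.obj).app (op (pObj Y p W))) h1.symm).trans ?_ :)
  exact congrArg (fun m => (i.ranCounit.app H.obj).app (op (pObj Y p W)) ((i.ran.obj H.obj).map m s))
    (Quiver.Hom.unop_inj (bHom_ext _ _))

end Groth.Agent.FibDescLib
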