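import Groth.Prelude.Def_FibDesc
import Groth.Prelude.Def_CohTop
import Groth.Agent.FibTop.Basic
import Mathlib.CategoryTheory.Abelian.GrothendieckAxioms.Sheaf
import Mathlib.CategoryTheory.Abelian.GrothendieckCategory.EnoughInjectives

/-! # The total site of an augmented simplicial space -/

set_option autoImplicit false
set_option linter.style.haveILetI false

noncomputable section

universe u

open CategoryTheory CategoryTheory.Limits Opposite TopologicalSpace Simplicial Pseudofunctor.CoGrothendieck FibSite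

namespace Groth.Agent.FibDescLib

variable (Y : (WithInitial SimplexCategory)ᵒᵖ ⥤ TopCat.{u})

/-- the base space -/
abbrev S₀ : TopCat.{u} := Y.obj (op WithInitial.star)

theorem isPreFibSite_topAug : IsPreFibSite (FibDesc.topAug Y) (FibDesc.topAugTop Y) := fun R S f => by
  show (Opens.map (Y.map f)).IsContinuous _ _
  infer_instance

theorem isPreFibSite_part :
    IsPreFibSite (FibDesc.part (FibDesc.topAug Y)) (FibDesc.partTop (FibDesc.topAug Y) (FibDesc.topAugTop Y)) :=
  fun _ _ f => isPreFibSite_topAug Y ((FibDesc.toAug SimplexCategory).map f)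

/-- the simplicial space over the base -/
def nrv : SimplicialObject (Over (S₀ Y)) where
  obj n := Over.mk (Y.map (WithInitial.starInitial.to (WithInitial.of n.unop)).op)
  map g := Over.homMk (Y.map (WithInitial.incl.map g.unop).op) (by
    show Y.map _ ≫ Y.map _ = Y.map _
    rw [← Y.map_comp]; congr 1)
  map_id n := Over.OverMorphism.ext
    ((congrArg (fun m => Y.map (Quiver.Hom.op m)) (WithInitial.incl.map_id n.unop)).trans (Y.map_id _))
  map_comp g g' := Over.OverMorphism.ext
    ((congrArg (fun m => Y.map (Quiver.Hom.op m)) (WithInitial.incl.map_comp g'.unop g.unop)).trans (Y.map_comp _ _))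

/-- the spaces -/
abbrev Np (p : SimplexCategory) : TopCat.{u} := ((nrv Y).obj (op p)).left

/-- the faces -/
abbrev face {p q : SimplexCategory} (g : p ⟶ q) : Np Y q ⟶ Np Y p := ((nrv Y).map g.op).left

/-- the augmentations -/
abbrev augMap (p : SimplexCategory) : Np Y p ⟶ S₀ Y := ((nrv Y).obj (op p)).hom

/-- the total site of the part -/
abbrev P0 := ∫ᶜ (FibDesc.part (FibDesc.topAug Y))

/-- an object of the total site -/
abbrev pObj (p : SimplexCategory) (W : Opens (Np Y p)) : P0 Y := ⟨op p, W⟩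

/-- the object of the augmented total site over an open of the base -/
abbrev bObj (V : Opens (S₀ Y)) : ∫ᶜ (FibDesc.topAug Y) := ⟨op WithInitial.star, V⟩

lemma thinAug (i : (WithInitial SimplexCategory)ᵒᵖ) (U V : (FibDesc.topAug Y).obj ⟨op i⟩) (a b : U ⟶ V) : a = b :=
  Subsingleton.elim (α := (show Opens (Y.obj i) from U) ⟶ (show Opens (Y.obj i) from V)) a b

lemma thin_ext {a b : P0 Y} {φ ψ : a ⟶ b} (h : φ.base = ψ.base) : φ = ψ := by
  obtain ⟨a, V⟩ := a
  obtain ⟨b, U⟩ := b
  obtain ⟨f, k, rfl⟩ := Groth.Agent.FibTop.hom_surjective (R := a) (S := b) (V := V) (U := U) φ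
  obtain ⟨f', k', rfl⟩ := Groth.Agent.FibTop.hom_surjective (R := a) (S := b) (V := V) (U := U) ψ
  obtain rfl : f = f' := h
  exact congrArg (Groth.Agent.FibTop.hom f) (thinAug Y ((FibDesc.toAug SimplexCategory).obj a) _ _ k k')

/-- a morphism of the total site -/
def pHom {p q : SimplexCategory} (g : p ⟶ q) {W : Opens (Np Y p)} {W' : Opens (Np Y q)}
    (h : W' ≤ (Opens.map (face Y g)).obj W) : pObj Y q W' ⟶ pObj Y p W :=
  Groth.Agent.FibTop.hom g.op ((homOfLE h : W' ⟶ (Opens.map (face Y g)).obj W) :)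

/-- sheaves on the total site -/
abbrev DS := FibDesc.DSh (FibDesc.topAug Y) (FibDesc.topAugTop Y) AddCommGrpCat.{u}

/-- sheaves on the base -/
abbrev BS := FibDesc.BaseSh (FibDesc.topAug Y) (FibDesc.topAugTop Y) AddCommGrpCat.{u}

variable {Y}

/-- sections -/
abbrev sec (H : DS Y) (p : SimplexCategory) (W : Opens (Np Y p)) : AddCommGrpCat.{u} := H.obj.obj (op (pObj Y p W))

/-- transition maps -/
def tr (H : DS Y) {p q : SimplexCategory} (g : p ⟶ q) {W : Opens (Np Y p)} {W' : Opens (Np Y q)}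
    (h : W' ≤ (Opens.map (face Y g)).obj W) : sec H p W ⟶ sec H q W' := H.obj.map (pHom Y g h).op

lemma face_comp {p q r : SimplexCategory} (g : p ⟶ q) (g' : q ⟶ r) : face Y (g ≫ g') = face Y g' ≫ face Y g := by
  show ((nrv Y).map (g'.op ≫ g.op)).left = _
  rw [Functor.map_comp]
  rfl

lemma le_comp {p q r : SimplexCategory} {g : p ⟶ q} {g' : q ⟶ r} {W : Opens (Np Y p)} {W' : Opens (Np Y q)}
    {W'' : Opens (Np Y r)} (h : W' ≤ (Opens.map (face Y g)).obj W) (h' : W'' ≤ (Opens.map (face Y g')).obj W') :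
    W'' ≤ (Opens.map (face Y (g ≫ g'))).obj W := fun x hx => by
  show face Y (g ≫ g') x ∈ W
  rw [face_comp]
  exact h (h' hx)

lemma tr_tr (H : DS Y) {p q r : SimplexCategory} {g : p ⟶ q} {g' : q ⟶ r} {W : Opens (Np Y p)}
    {W' : Opens (Np Y q)} {W'' : Opens (Np Y r)} (h : W' ≤ (Opens.map (face Y g)).obj W)
    (h' : W'' ≤ (Opens.map (face Y g')).obj W') (x : sec H p W) :
    tr H g' h' (tr H g h x) = tr H (g ≫ g') (le_comp h h') x := by
  refine (ConcreteCategory.congr_hom (H.obj.map_comp _ _) x).symm.trans ?_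
  exact congrArg (fun m => H.obj.map m x) (congrArg Quiver.Hom.op (thin_ext Y rfl))

lemma tr_congr (H : DS Y) {p q : SimplexCategory} {g g' : p ⟶ q} (e : g = g') {W : Opens (Np Y p)} {W' : Opens (Np Y q)}
    (h : W' ≤ (Opens.map (face Y g)).obj W) (h' : W' ≤ (Opens.map (face Y g')).obj W) (x : sec H p W) :
    tr H g h x = tr H g' h' x := by
  subst e; rfl

lemma le_id {p : SimplexCategory} {W W' : Opens (Np Y p)} (h : W' ≤ W) : W' ≤ (Opens.map (face Y (𝟙 p))).obj W :=
  fun x hx => by
    show face Y (𝟙 p) x ∈ W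
    rw [show face Y (𝟙 p) = 𝟙 _ from congrArg CommaMorphism.left ((nrv Y).map_id (op p))]
    exact h hx

/-- the sheaf on a term -/
def restrP (H : DS Y) (p : SimplexCategory) : CohTop.Ab (Np Y p) :=
  ⟨(ι (FibDesc.part (FibDesc.topAug Y)) (op p)).op ⋙ H.obj,
    (Groth.Agent.FibTop.isSheaf_iff (isPreFibSite_part Y) H.obj).1 H.property (op p)⟩

lemma restrP_map (H : DS Y) {p : SimplexCategory} {W W' : Opens (Np Y p)} (h : W' ≤ W) (x : sec H p W) :
    (restrP H p).obj.map (homOfLE h).op x = tr H (𝟙 p) (le_id h) x :=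
  congrArg (fun m => H.obj.map m x) (congrArg Quiver.Hom.op (thin_ext Y rfl))

lemma tr_id_self (H : DS Y) {p : SimplexCategory} {W : Opens (Np Y p)} (x : sec H p W) :
    tr H (𝟙 p) (le_id le_rfl) x = x :=
  (congrArg (fun m => H.obj.map m x) (congrArg Quiver.Hom.op
    (thin_ext Y (ψ := 𝟙 (pObj Y p W)) rfl))).trans (ConcreteCategory.congr_hom (H.obj.map_id _) x)

lemma app_tr {H H' : DS Y} (φ : H ⟶ H') {p q : SimplexCategory} {g : p ⟶ q} {W : Opens (Np Y p)}
    {W' : Opens (Np Y q)} (h : W' ≤ (Opens.map (face Y g)).obj W) (x : sec H p W) :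
    φ.hom.app (op (pObj Y q W')) (tr H g h x) = tr H' g h (φ.hom.app (op (pObj Y p W)) x) :=
  ConcreteCategory.congr_hom (φ.hom.naturality (pHom Y g h).op) x

section Side

variable (Y)

/-- the inclusion of the base is continuous -/
theorem eps_isContinuous : (FibDesc.eps (FibDesc.topAug Y)).IsContinuous ((FibDesc.topAugTop Y) (FibDesc.bot _))
    (FibDesc.totAug _ (FibDesc.topAugTop Y)) :=
  Groth.Agent.FibTop.ι_isContinuous (isPreFibSite_topAug Y) _

theorem incl_isContinuous : (FibDesc.incl (FibDesc.topAug Y)).IsContinuous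
    (FibDesc.totPart _ (FibDesc.topAugTop Y)) (FibDesc.totAug _ (FibDesc.topAugTop Y)) := by
  refine (Groth.Agent.FibTop.isContinuous_iff (isPreFibSite_part Y) _ _).2 fun S => ?_
  haveI := Groth.Agent.FibTop.ι_isContinuous (isPreFibSite_topAug Y) ((FibDesc.toAug SimplexCategory).obj S)
  have e : ι (FibDesc.part (FibDesc.topAug Y)) S ⋙ FibDesc.incl (FibDesc.topAug Y) ≅
      ι (FibDesc.topAug Y) ((FibDesc.toAug SimplexCategory).obj S) :=
    NatIso.ofComponents (fun U => Iso.refl _) (fun {U V} k => by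
      simp only [Iso.refl_hom]
      refine (Category.comp_id _).trans (Eq.trans ?_ (Category.id_comp _).symm)
      obtain ⟨S⟩ := S
      exact Pseudofunctor.CoGrothendieck.Hom.ext _ _ rfl (thinAug Y _ _ _ _ _))
  exact Functor.isContinuous_of_iso e.symm _ _

theorem incl_isCocontinuous : (FibDesc.incl (FibDesc.topAug Y)).IsCocontinuous
    (FibDesc.totPart _ (FibDesc.topAugTop Y)) (FibDesc.totAug _ (FibDesc.topAugTop Y)) := ⟨fun {U T} hT => by
  obtain ⟨S, W⟩ := U
  obtain ⟨R, hR, hle⟩ := (Groth.Agent.FibTop.mem_total_iff (isPreFibSite_topAug Y) _ T).1 hT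
  refine (Groth.Agent.FibTop.mem_total_iff (isPreFibSite_part Y) _ _).2 ⟨R, hR, ?_⟩
  rw [Sieve.functorPushforward_le_iff_le_functorPullback]
  intro V r hr
  obtain ⟨S⟩ := S
  show T ((FibDesc.incl (FibDesc.topAug Y)).map ((ι _ _).map r))
  have h := hle _ (Sieve.image_mem_functorPushforward (ι (FibDesc.topAug Y) _) R hr)
  have e : (FibDesc.incl (FibDesc.topAug Y)).map ((ι (FibDesc.part (FibDesc.topAug Y)) (op S)).map r) =
      ((ι (FibDesc.topAug Y) ((FibDesc.toAug SimplexCategory).obj (op S))).map r :) :=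
    Pseudofunctor.CoGrothendieck.Hom.ext _ _ rfl (thinAug Y _ _ _ _ _)
  exact (congrArg (fun m => T.arrows m) e).mpr h⟩

end Side

end Groth.Agent.FibDescLib
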